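import Mathlib.AlgebraicGeometry.Morphisms.Finite
import Mathlib.AlgebraicGeometry.Morphisms.Proper
import Mathlib.AlgebraicGeometry.Limits
import Mathlib.AlgebraicGeometry.PullbackCarrier

/-!
# Finite coproducts of finite morphisms are finite
-/

set_option autoImplicit false
set_option maxHeartbeats 400000
set_option backward.isDefEq.respectTransparency false
open CategoryTheory CategoryTheory.Limits AlgebraicGeometry Opposite TopologicalSpace
universe u

namespace Groth.Agent.Sga1.SigmaFinite

variable {ι : Type u} [Finite ι] {X : ι → Scheme.{u}} {Y : Scheme.{u}} (f : ∀ i, X i ⟶ Y)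

theorem isAffineHom_sigmaDesc [∀ i, IsAffineHom (f i)] : IsAffineHom (Sigma.desc f) := by
  refine ⟨fun U hU => ?_⟩
  have h1 : (Sigma.desc f) ⁻¹ᵁ U = ⨆ i, (Sigma.ι X i) ''ᵁ ((f i) ⁻¹ᵁ U) := by
    ext z
    simp only [TopologicalSpace.Opens.coe_iSup, Set.mem_iUnion]
    constructor
    · intro hz
      obtain ⟨i, x, rfl⟩ := (sigmaOpenCover X).exists_eq z
      refine ⟨i, x, ?_, rfl⟩
      have : (Sigma.ι X i ≫ Sigma.desc f).base x ∈ U := by
        rw [Scheme.Hom.comp_apply]; exact hz
      rwa [Sigma.ι_desc] at this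
    · rintro ⟨i, x, hx, rfl⟩
      show (Sigma.desc f).base ((Sigma.ι X i).base x) ∈ U
      rw [← Scheme.Hom.comp_apply, Sigma.ι_desc]
      exact hx
  rw [h1]
  refine IsAffineOpen.iSup_of_disjoint (fun i => (hU.preimage (f i)).image_of_isOpenImmersion _) ?_
  intro i j hij
  have hd := (TopologicalSpace.Opens.coe_disjoint).2 (disjoint_opensRange_sigmaι X i j hij)
  rw [Function.onFun, ← TopologicalSpace.Opens.coe_disjoint]
  refine Set.disjoint_left.2 ?_
  rintro _ ⟨x, -, rfl⟩ ⟨y, -, hy⟩
  exact Set.disjoint_left.1 hd ⟨x, rfl⟩ ⟨y, hy⟩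

theorem universallyClosed_sigmaDesc [∀ i, UniversallyClosed (f i)] :
    UniversallyClosed (Sigma.desc f) := by
  refine ⟨MorphismProperty.universally_mk' _ _ fun {T} t _ Z hZ => ?_⟩
  have h1 : (pullback.fst t (Sigma.desc f)).base '' Z =
      ⋃ i, (pullback.fst t (f i)).base '' ((pullback.map t (f i) t (Sigma.desc f) (𝟙 _)
        (Sigma.ι X i) (𝟙 _) (by simp) (by simp)).base ⁻¹' Z) := by
    ext y
    simp only [Set.mem_iUnion]
    constructor
    · rintro ⟨z, hz, rfl⟩
      obtain ⟨i, x, hx⟩ : ∃ (i : ι) (x : X i), (Sigma.ι X i).base x =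
          (pullback.snd t (Sigma.desc f)).base z :=
        (sigmaOpenCover X).exists_eq ((pullback.snd t (Sigma.desc f)).base z)
      have sq : IsPullback (pullback.map t (f i) t (Sigma.desc f) (𝟙 _)
        (Sigma.ι X i) (𝟙 _) (by simp) (by simp)) (pullback.snd t (f i))
        (pullback.snd t (Sigma.desc f)) (Sigma.ι X i) := by
        refine (IsPullback.of_right (h₁₂ := pullback.fst t (Sigma.desc f)) (v₁₃ := t)
          (h₂₂ := Sigma.desc f) ?_ (by simp) (IsPullback.of_hasPullback _ _))
        have e1 : pullback.map t (f i) t (Sigma.desc f) (𝟙 _) (Sigma.ι X i) (𝟙 _) (by simp)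
          (by simp) ≫ pullback.fst t (Sigma.desc f) = pullback.fst t (f i) := by simp
        rw [e1, Sigma.ι_desc]
        exact IsPullback.of_hasPullback _ _
      obtain ⟨w, hw1, hw2⟩ := Scheme.exists_preimage_of_isPullback sq z x hx.symm
      refine ⟨i, w, ?_, ?_⟩
      · rw [Set.mem_preimage, hw1]; exact hz
      · rw [← hw1]
        show (pullback.fst t (f i)).base w = (pullback.fst t (Sigma.desc f)).base
          ((pullback.map t (f i) t (Sigma.desc f) (𝟙 _) (Sigma.ι X i) (𝟙 _) _ _).base w)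
        rw [← Scheme.Hom.comp_apply]
        simp
    · rintro ⟨i, w, hw, rfl⟩
      refine ⟨_, hw, ?_⟩
      show (pullback.fst t (Sigma.desc f)).base
          ((pullback.map t (f i) t (Sigma.desc f) (𝟙 _) (Sigma.ι X i) (𝟙 _) _ _).base w) =
          (pullback.fst t (f i)).base w
      rw [← Scheme.Hom.comp_apply]
      simp
  rw [h1]
  refine isClosed_iUnion_of_finite fun i => ?_
  exact (pullback.fst t (f i)).isClosedMap _ (hZ.preimage (Scheme.Hom.continuous _))

theorem isFinite_sigmaDesc [∀ i, IsFinite (f i)] : IsFinite (Sigma.desc f) := by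
  have h1 : IsAffineHom (Sigma.desc f) := isAffineHom_sigmaDesc f
  have h2 : UniversallyClosed (Sigma.desc f) := universallyClosed_sigmaDesc f
  have h3 : LocallyOfFiniteType (Sigma.desc f) :=
    IsZariskiLocalAtSource.sigmaDesc (P := @LocallyOfFiniteType) (fun i => inferInstance)
  exact IsFinite.iff_isProper_and_isAffineHom.2 ⟨⟨⟩, h1⟩

end Groth.Agent.Sga1.SigmaFinite
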