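import Mathlib.RingTheory.Ideal.KrullsHeightTheorem
import Mathlib.RingTheory.LocalRing.MaximalIdeal.Basic
import Mathlib.RingTheory.Spectrum.Prime.Topology

/-!
# Noetherian local rings: primes with exactly two specializations
-/

set_option autoImplicit false
set_option maxHeartbeats 400000

namespace Groth.Agent.Sga1.TwoPoint

open IsLocalRing

/-- In a noetherian local ring, if an ideal `J` is not contained in some prime, then it is not
contained in some prime `p` whose only specializations are `p` and the maximal ideal. -/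
theorem exists_prime_two_points {R : Type*} [CommRing R] [IsLocalRing R] [IsNoetherianRing R]
    (J : Ideal R) (hJ : ∃ p : Ideal R, p.IsPrime ∧ ¬ J ≤ p) :
    ∃ p : Ideal R, p.IsPrime ∧ ¬ J ≤ p ∧
      ∀ q : Ideal R, q.IsPrime → p ≤ q → q = p ∨ q = maximalIdeal R := by
  obtain ⟨p, ⟨hp, hJp⟩, hmax⟩ := WellFounded.has_min (wellFounded_gt (α := Ideal R))
    {p : Ideal R | p.IsPrime ∧ ¬ J ≤ p} hJ
  refine ⟨p, hp, hJp, ?_⟩
  have hmax' : ∀ q : Ideal R, q.IsPrime → p < q → J ≤ q := by
    intro q hq hpq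
    by_contra h
    exact hmax q ⟨hq, h⟩ hpq
  obtain ⟨f, hfJ, hfp⟩ := SetLike.not_le_iff_exists.1 hJp
  intro q hq hpq
  by_contra hne
  push Not at hne
  have hlt : p < q := lt_of_le_of_ne hpq (Ne.symm hne.1)
  have hqm : q ≤ maximalIdeal R := le_maximalIdeal hq.ne_top
  -- minimal primes over `p + (f)`
  have hfin : (p ⊔ Ideal.span {f}).minimalPrimes.Finite :=
    Ideal.finite_minimalPrimes_of_isNoetherianRing R _
  have hm_not : maximalIdeal R ∉ (p ⊔ Ideal.span {f}).minimalPrimes := by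
    intro hm
    have : maximalIdeal R ≤ q := by
      refine hm.2 ⟨hq, sup_le hpq ?_⟩ hqm
      rw [Ideal.span_singleton_le_iff_mem]
      exact hmax' q hq hlt hfJ
    exact hne.2 (le_antisymm hqm this)
  have hPi : ∀ P ∈ (p ⊔ Ideal.span {f}).minimalPrimes, p < P := by
    intro P hP
    refine lt_of_le_of_ne (le_sup_left.trans hP.1.2) ?_
    rintro rfl
    exact hfp (hP.1.2 (Ideal.mem_sup_right (Ideal.mem_span_singleton_self f)))
  -- prime avoidance
  obtain ⟨x, hxm, hx⟩ : ∃ x ∈ maximalIdeal R, ∀ P ∈ (p ⊔ Ideal.span {f}).minimalPrimes, x ∉ P := by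
    by_contra hcon
    push Not at hcon
    have hsub : ((maximalIdeal R : Ideal R) : Set R) ⊆
        ⋃ P ∈ (hfin.toFinset : Set (Ideal R)), (P : Set R) := by
      intro x hx
      obtain ⟨P, hP, hxP⟩ := hcon x hx
      simp only [Set.mem_iUnion]
      exact ⟨P, by simpa using hP, hxP⟩
    rw [Ideal.subset_union_prime (p : Ideal R) (p : Ideal R)
      (fun P hP _ _ => by
        have : P ∈ (p ⊔ Ideal.span {f}).minimalPrimes := by simpa using hP
        exact this.1.1)] at hsub
    obtain ⟨P, hP, hmP⟩ := hsub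
    have hP' : P ∈ (p ⊔ Ideal.span {f}).minimalPrimes := by simpa using hP
    have : maximalIdeal R = P := le_antisymm hmP (le_maximalIdeal hP'.1.1.ne_top)
    exact hm_not (this ▸ hP')
  have hxp : x ∉ p := by
    obtain ⟨P, hP⟩ := Ideal.nonempty_minimalPrimes (I := p ⊔ Ideal.span {f}) (by
      intro h
      have : (p ⊔ Ideal.span {f}) ≤ q := by
        refine sup_le hpq ?_
        rw [Ideal.span_singleton_le_iff_mem]
        exact hmax' q hq hlt hfJ
      exact hq.ne_top (top_le_iff.1 (h ▸ this)))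
    exact fun h => hx P hP ((hPi P hP).le h)
  -- minimal prime over `p + (x)`
  obtain ⟨Q, hQ⟩ := Ideal.nonempty_minimalPrimes (I := p ⊔ Ideal.span {x}) (by
    intro h
    have : (p ⊔ Ideal.span {x}) ≤ maximalIdeal R := by
      refine sup_le (le_maximalIdeal hp.ne_top) ?_
      rw [Ideal.span_singleton_le_iff_mem]
      exact hxm
    exact (maximalIdeal.isMaximal R).ne_top (top_le_iff.1 (h ▸ this)))
  have hQp : Q.IsPrime := hQ.1.1
  have hxQ : x ∈ Q := hQ.1.2 (Ideal.mem_sup_right (Ideal.mem_span_singleton_self x))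
  have hpQ : p < Q := lt_of_le_of_ne (le_sup_left.trans hQ.1.2) (fun h => hxp (h ▸ hxQ))
  have hfQ : f ∈ Q := hmax' Q hQp hpQ hfJ
  obtain ⟨P, hP, hPQ⟩ := Ideal.exists_minimalPrimes_le (I := p ⊔ Ideal.span {f}) (J := Q)
    (sup_le hpQ.le (by rwa [Ideal.span_singleton_le_iff_mem]))
  have hPp : P.IsPrime := hP.1.1
  have hPQ' : P < Q := lt_of_le_of_ne hPQ (fun h => hx P hP (h ▸ hxQ))
  have hh := Ideal.map_height_le_one_of_mem_minimalPrimes hQ
  -- chain of primes in `R ⧸ p`
  have hker : RingHom.ker (Ideal.Quotient.mk p) ≤ P := by rw [Ideal.mk_ker]; exact (hPi P hP).le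
  have hkerQ : RingHom.ker (Ideal.Quotient.mk p) ≤ Q := by rw [Ideal.mk_ker]; exact hpQ.le
  have hP1 : (P.map (Ideal.Quotient.mk p)).IsPrime :=
    Ideal.map_isPrime_of_surjective Ideal.Quotient.mk_surjective hker
  have hQ1 : (Q.map (Ideal.Quotient.mk p)).IsPrime :=
    Ideal.map_isPrime_of_surjective Ideal.Quotient.mk_surjective hkerQ
  have hcomapP : (P.map (Ideal.Quotient.mk p)).comap (Ideal.Quotient.mk p) = P := by
    rw [Ideal.comap_map_of_surjective' _ Ideal.Quotient.mk_surjective, sup_eq_left]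
    exact hker
  have hcomapQ : (Q.map (Ideal.Quotient.mk p)).comap (Ideal.Quotient.mk p) = Q := by
    rw [Ideal.comap_map_of_surjective' _ Ideal.Quotient.mk_surjective, sup_eq_left]
    exact hkerQ
  have hlt1 : P.map (Ideal.Quotient.mk p) < Q.map (Ideal.Quotient.mk p) := by
    refine lt_of_le_of_ne (Ideal.map_mono hPQ) (fun h => ?_)
    have : P = Q := by rw [← hcomapP, ← hcomapQ, h]
    exact hPQ'.ne this
  have hlt0 : (⊥ : Ideal (R ⧸ p)) < P.map (Ideal.Quotient.mk p) := by
    rw [bot_lt_iff_ne_bot]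
    intro h
    have : P = p := by
      rw [← hcomapP, h, ← RingHom.ker_eq_comap_bot, Ideal.mk_ker]
    exact (hPi P hP).ne this.symm
  have hbot : (⊥ : Ideal (R ⧸ p)).IsPrime := Ideal.isPrime_bot
  have h1 : (⊥ : Ideal (R ⧸ p)).height < (P.map (Ideal.Quotient.mk p)).height :=
    Ideal.height_strict_mono_of_isPrime hlt0
  have h2 : (P.map (Ideal.Quotient.mk p)).height < (Q.map (Ideal.Quotient.mk p)).height :=
    Ideal.height_strict_mono_of_isPrime hlt1
  have h3 : (P.map (Ideal.Quotient.mk p)).height < 1 := lt_of_lt_of_le h2 hh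
  rw [Order.lt_one_iff] at h3
  rw [h3] at h1
  exact not_lt_bot h1

end Groth.Agent.Sga1.TwoPoint
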