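import Groth.Agent.Sga1.UnivSub
import Groth.Agent.Sga1.TwoPoint
import Mathlib.AlgebraicGeometry.Noetherian
import Mathlib.AlgebraicGeometry.Stalk
import Mathlib.Topology.NoetherianSpace
import Mathlib.Topology.Sober

/-!
# Universally submersive morphisms over locally noetherian bases: the closed part is surjective
near the point
-/

set_option autoImplicit false
set_option maxHeartbeats 400000
set_option backward.isDefEq.respectTransparency false
open CategoryTheory CategoryTheory.Limits AlgebraicGeometry Opposite TopologicalSpace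
universe u

namespace Groth.Agent.Sga1.FinPartSurj

open SGA1 Groth.Agent.Sga1.UnivSub

/-- In a noetherian quasi-sober space, every point of the closure of an open set is a
specialization of a point of the open set. -/
theorem exists_specializes_of_mem_closure {X : Type*} [TopologicalSpace X] [NoetherianSpace X]
    [QuasiSober X] (O : Set X) (hO : IsOpen O) (s : X) (hs : s ∈ closure O) :
    ∃ η ∈ O, η ⤳ s := by
  obtain ⟨A, hAf, hAc, hAi, hA⟩ :=
    NoetherianSpace.exists_finite_set_isClosed_irreducible (isClosed_closure (s := O))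
  let B : Set (Set X) := {t ∈ A | (t ∩ O).Nonempty}
  have hBf : B.Finite := hAf.subset (Set.sep_subset _ _)
  have hBc : IsClosed (⋃₀ B) := by
    rw [Set.sUnion_eq_biUnion]
    exact hBf.isClosed_biUnion (fun t ht => hAc t ht.1)
  have hOB : O ⊆ ⋃₀ B := by
    intro x hx
    have : x ∈ ⋃₀ A := hA ▸ subset_closure hx
    obtain ⟨t, htA, hxt⟩ := this
    exact ⟨t, ⟨htA, ⟨x, hxt, hx⟩⟩, hxt⟩
  have hsB : s ∈ ⋃₀ B := hBc.closure_subset_iff.2 hOB hs
  obtain ⟨t, ⟨htA, htO⟩, hst⟩ := hsB
  obtain ⟨η, hη⟩ := QuasiSober.sober (hAi t htA) (hAc t htA)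
  refine ⟨η, ?_, ?_⟩
  · obtain ⟨y, hyt, hyO⟩ := htO
    have : η ⤳ y := hη.specializes hyt
    exact this.mem_open hO hyO
  · exact hη.specializes hst

/-- A closed subset of a locally noetherian scheme containing all generizations of a point is a
neighbourhood of the point. -/
theorem mem_interior_of_generizations {S : Scheme.{u}} [IsLocallyNoetherian S] (Z : Set S)
    (hZ : IsClosed Z) (s : S) (h : ∀ η : S, η ⤳ s → η ∈ Z) : s ∈ interior Z := by
  by_contra hcon
  rw [← Set.mem_compl_iff, ← closure_compl] at hcon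
  obtain ⟨U, hU, hsU, -⟩ := exists_isAffineOpen_mem_and_subset (X := S) (x := s) (U := ⊤) trivial
  have hN : IsNoetherianRing Γ(S, U) := IsLocallyNoetherian.component_noetherian ⟨U, hU⟩
  have hNS : NoetherianSpace (U : Scheme.{u}) := noetherianSpace_of_isAffineOpen U hU
  obtain ⟨s', hs'⟩ : ∃ s' : (U : Scheme.{u}), U.ι.base s' = s := ⟨⟨s, hsU⟩, rfl⟩
  have h1 : s' ∈ closure (U.ι.base ⁻¹' Zᶜ) := by
    rw [← U.ι.isOpenEmbedding.isOpenMap.preimage_closure_eq_closure_preimage U.ι.continuous,
      Set.mem_preimage, hs']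
    exact hcon
  obtain ⟨η, hη, hηs⟩ := exists_specializes_of_mem_closure _
    (hZ.isOpen_compl.preimage U.ι.continuous) _ h1
  have h2 := hηs.map U.ι.continuous
  rw [hs'] at h2
  exact hη (h _ h2)

/-- Let `g` be universally submersive with locally noetherian target, `W` an open of the source
with closed image, containing all points over `s`. Then the image of `W` is a neighbourhood
of `s`. -/
theorem mem_interior_image {S' S : Scheme.{u}} [IsLocallyNoetherian S] (g : S' ⟶ S)
    (hg : UnivSubmersive g) (W : S'.Opens) (hW : IsClosed (g.base '' (W : Set S'))) (s : S)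
    (hs : ∀ y : S', g.base y = s → y ∈ W) : s ∈ interior (g.base '' (W : Set S')) := by
  refine mem_interior_of_generizations _ hW s (fun η hη => ?_)
  have hη' : η ∈ Set.range (S.fromSpecStalk s).base := by
    rw [Scheme.range_fromSpecStalk]; exact hη
  obtain ⟨η₀, rfl⟩ := hη'
  -- the closed subset of the spectrum of the local ring
  let Z : Set (PrimeSpectrum (S.presheaf.stalk s)) :=
    (S.fromSpecStalk s).base ⁻¹' (g.base '' (W : Set S'))
  have hZc : IsClosed Z := hW.preimage (S.fromSpecStalk s).continuous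
  obtain ⟨J, hJ⟩ := (PrimeSpectrum.isClosed_iff_zeroLocus_ideal _).1 hZc
  by_contra hcon
  have hη₀ : ¬ J ≤ (show PrimeSpectrum (S.presheaf.stalk s) from η₀).asIdeal := by
    intro h
    have : (show PrimeSpectrum (S.presheaf.stalk s) from η₀) ∈ Z := by
      rw [hJ]; exact h
    exact hcon this
  have hNoeth : IsNoetherianRing (S.presheaf.stalk s) := inferInstance
  obtain ⟨p, hp, hJp, htwo⟩ := TwoPoint.exists_prime_two_points J
    ⟨_, (show PrimeSpectrum (S.presheaf.stalk s) from η₀).isPrime, hη₀⟩
  -- the closed point maps to `s ∈ Z`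
  have hsW : s ∈ g.base '' (W : Set S') := by
    obtain ⟨y, hy⟩ := (surjective hg).surj s
    exact ⟨y, hs y hy, hy⟩
  have hmJ : J ≤ IsLocalRing.maximalIdeal (S.presheaf.stalk s) := by
    have : IsLocalRing.closedPoint (S.presheaf.stalk s) ∈ Z := by
      have e : (S.fromSpecStalk s).base (IsLocalRing.closedPoint (S.presheaf.stalk s)) = s :=
        Scheme.fromSpecStalk_closedPoint
      rw [Set.mem_preimage, e]; exact hsW
    rw [hJ] at this
    exact this
  have hpm : p ≠ IsLocalRing.maximalIdeal (S.presheaf.stalk s) := by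
    rintro rfl; exact hJp hmJ
  -- base change to `Spec (O_{S,s}/p)`
  let R₁ := S.presheaf.stalk s ⧸ p
  have hloc : IsLocalRing R₁ := IsLocalRing.of_surjective' (Ideal.Quotient.mk p)
    Ideal.Quotient.mk_surjective
  let q : Spec (CommRingCat.of R₁) ⟶ Spec (S.presheaf.stalk s) :=
    Spec.map (CommRingCat.ofHom (Ideal.Quotient.mk p))
  let t : Spec (CommRingCat.of R₁) ⟶ S := q ≫ S.fromSpecStalk s
  have ht : UnivSubmersive (pullback.snd g t) := MorphismProperty.pullback_snd _ _ hg
  have hq : ∀ x : PrimeSpectrum R₁, (q.base x : PrimeSpectrum (S.presheaf.stalk s)) =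
      PrimeSpectrum.comap (Ideal.Quotient.mk p) x := fun x => rfl
  have hqle : ∀ x : PrimeSpectrum R₁, p ≤ (PrimeSpectrum.comap (Ideal.Quotient.mk p) x).asIdeal := by
    intro x a ha
    show Ideal.Quotient.mk p a ∈ x.asIdeal
    rw [Ideal.Quotient.eq_zero_iff_mem.2 ha]
    exact zero_mem _
  have hclosed : ∀ x : PrimeSpectrum R₁,
      (PrimeSpectrum.comap (Ideal.Quotient.mk p) x).asIdeal =
        IsLocalRing.maximalIdeal (S.presheaf.stalk s) → x = IsLocalRing.closedPoint R₁ := by
    intro x hx
    apply PrimeSpectrum.comap_injective_of_surjective (Ideal.Quotient.mk p)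
      Ideal.Quotient.mk_surjective
    apply PrimeSpectrum.ext
    rw [hx]
    have : ((PrimeSpectrum.comap (Ideal.Quotient.mk p)
        (IsLocalRing.closedPoint R₁)).asIdeal).IsMaximal :=
      Ideal.comap_isMaximal_of_surjective (Ideal.Quotient.mk p) Ideal.Quotient.mk_surjective
        (K := IsLocalRing.maximalIdeal R₁)
    exact (IsLocalRing.eq_maximalIdeal this).symm
  have hclosed' : (PrimeSpectrum.comap (Ideal.Quotient.mk p)
      (IsLocalRing.closedPoint R₁)).asIdeal = IsLocalRing.maximalIdeal (S.presheaf.stalk s) := by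
    have : ((PrimeSpectrum.comap (Ideal.Quotient.mk p)
        (IsLocalRing.closedPoint R₁)).asIdeal).IsMaximal :=
      Ideal.comap_isMaximal_of_surjective (Ideal.Quotient.mk p) Ideal.Quotient.mk_surjective
        (K := IsLocalRing.maximalIdeal R₁)
    exact IsLocalRing.eq_maximalIdeal this
  have htc : t.base (IsLocalRing.closedPoint R₁) = s := by
    have e1 : q.base (IsLocalRing.closedPoint R₁) =
        IsLocalRing.closedPoint (S.presheaf.stalk s) := by
      apply PrimeSpectrum.ext
      exact hclosed'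
    show (S.fromSpecStalk s).base (q.base (IsLocalRing.closedPoint R₁)) = s
    rw [e1]
    exact Scheme.fromSpecStalk_closedPoint
  have hpre : (pullback.snd g t).base ⁻¹' {(IsLocalRing.closedPoint R₁ : PrimeSpectrum R₁)} =
      (pullback.fst g t).base ⁻¹' (W : Set S') := by
    ext y
    have hy : g.base ((pullback.fst g t).base y) = t.base ((pullback.snd g t).base y) := by
      rw [← Scheme.Hom.comp_apply, ← Scheme.Hom.comp_apply, pullback.condition]
    constructor
    · intro hyc
      have hyc' : (pullback.snd g t).base y = (IsLocalRing.closedPoint R₁ : PrimeSpectrum R₁) := hyc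
      refine hs _ ?_
      rw [hy, hyc', htc]
    · intro hyW
      have h1 : t.base ((pullback.snd g t).base y) ∈ g.base '' (W : Set S') := by
        rw [← hy]; exact ⟨_, hyW, rfl⟩
      have h2 : (PrimeSpectrum.comap (Ideal.Quotient.mk p) ((pullback.snd g t).base y)) ∈ Z := h1
      rw [hJ] at h2
      have h3 : J ≤ (PrimeSpectrum.comap (Ideal.Quotient.mk p)
        ((pullback.snd g t).base y)).asIdeal := h2
      rcases htwo _ (PrimeSpectrum.isPrime _) (hqle ((pullback.snd g t).base y)) with h4 | h4
      · exact absurd (h4 ▸ h3) hJp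
      · exact hclosed _ h4
  have hopen : IsOpen ({(IsLocalRing.closedPoint R₁ : PrimeSpectrum R₁)} :
      Set (PrimeSpectrum R₁)) := by
    have h1 : IsOpen ((pullback.snd g t).base ⁻¹'
        {(IsLocalRing.closedPoint R₁ : PrimeSpectrum R₁)}) := by
      rw [hpre]; exact W.isOpen.preimage (pullback.fst g t).continuous
    exact (isQuotientMap ht).isOpen_preimage.1 h1
  -- the generic point
  have hdom : IsDomain R₁ := Ideal.Quotient.isDomain p
  have hbot : (⊥ : Ideal R₁).IsPrime := Ideal.isPrime_bot
  have hspec : (⟨⊥, hbot⟩ : PrimeSpectrum R₁) ⤳ IsLocalRing.closedPoint R₁ := by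
    rw [← PrimeSpectrum.le_iff_specializes]
    exact bot_le
  have hmem : (⟨⊥, hbot⟩ : PrimeSpectrum R₁) ∈
      ({(IsLocalRing.closedPoint R₁ : PrimeSpectrum R₁)} : Set (PrimeSpectrum R₁)) :=
    hspec.mem_open hopen rfl
  have heq : (⟨⊥, hbot⟩ : PrimeSpectrum R₁) = IsLocalRing.closedPoint R₁ := hmem
  apply hpm
  rw [← hclosed', ← heq]
  ext a
  show a ∈ p ↔ Ideal.Quotient.mk p a ∈ (⊥ : Ideal R₁)
  rw [Ideal.mem_bot, Ideal.Quotient.eq_zero_iff_mem]

end Groth.Agent.Sga1.FinPartSurj
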