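import Groth.Agent.Sga1.UlaRes

/-!
# Relative pullback on étale cohomology: change of the sheaf and of the base
-/

set_option autoImplicit false
universe u

open CategoryTheory CategoryTheory.Limits AlgebraicGeometry Opposite Abelian

namespace Groth.Agent.Sga1.UlaRes

open Groth.Agent.Etcore.PullCoh Groth.Agent.Etcore.ExtAdj

variable {X Y Z T T' T'' : Scheme.{u}}

theorem Hpull_map (f : X ⟶ Y) {G G' : EtCoh.Ab Y} (t : G ⟶ G') (n : ℕ) (e : EtCoh.H Y G n) :
    EtCore.Hpull f G' n (((EtCoh.HF Y n).map t).hom e) =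
      ((EtCoh.HF X n).map ((EtCoh.pull f).map t)).hom (EtCore.Hpull f G n e) := by
  change (Ext.mk₀ (EtCore.pullConst f ℤ).inv).comp
      (Ext.mapExactFunctor (EtCoh.pull f) (e.comp (Ext.mk₀ t) (add_zero n))) (zero_add n) =
    ((Ext.mk₀ (EtCore.pullConst f ℤ).inv).comp
      (Ext.mapExactFunctor (EtCoh.pull f) e) (zero_add n)).comp
        (Ext.mk₀ ((EtCoh.pull f).map t)) (add_zero n)
  rw [Ext.mapExactFunctor_comp, Ext.mapExactFunctor_mk₀, Ext.comp_assoc_of_third_deg_zero]

theorem Hpull_bijective_congr (f : X ⟶ Y) {G G' : EtCoh.Ab Y} (t : G ≅ G') (n : ℕ) :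
    Function.Bijective (EtCore.Hpull f G n) ↔ Function.Bijective (EtCore.Hpull f G' n) := by
  have h1 := postcomp_bijective _ _ t.hom n
  have h2 := postcomp_bijective _ _ ((EtCoh.pull f).map t.hom) n
  have e : (EtCore.Hpull f G' n : _ → _) ∘ ((EtCoh.HF Y n).map t.hom).hom =
      ((EtCoh.HF X n).map ((EtCoh.pull f).map t.hom)).hom ∘ (EtCore.Hpull f G n : _ → _) :=
    funext fun x => Hpull_map f t.hom n x
  have h3 := Function.Bijective.of_comp_iff' h2 (EtCore.Hpull f G n : _ → _)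
  rw [← e] at h3
  exact h3.symm.trans (Function.Bijective.of_comp_iff _ h1)

/-- bijectivity of `Hpull` on a two-step pullback, in terms of `res`. -/
theorem Hpull_pull_bijective_iff (F : EtCoh.Ab X) (g : Y ⟶ X) (a : T ⟶ Y) (b : T ⟶ X) (w : a ≫ g = b)
    (f : T' ⟶ T) (b' : T' ⟶ X) (w' : f ≫ b = b') (q : ℕ) :
    Function.Bijective (EtCore.Hpull f ((EtCoh.pull a).obj ((EtCoh.pull g).obj F)) q) ↔
      Function.Bijective (res F f b b' w' q) := by
  rw [res_bijective_iff]
  exact Hpull_bijective_congr f ((theta a g b w).app F) q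

/-- `res` for the pulled back sheaf. -/
theorem res_pull_bijective_iff (F : EtCoh.Ab X) (g : Y ⟶ X) (a : T ⟶ Y) (b : T ⟶ X) (w : a ≫ g = b)
    (f : T' ⟶ T) (a' : T' ⟶ Y) (wa : f ≫ a = a') (b' : T' ⟶ X) (w' : f ≫ b = b') (q : ℕ) :
    Function.Bijective (res ((EtCoh.pull g).obj F) f a a' wa q) ↔
      Function.Bijective (res F f b b' w' q) := by
  rw [res_bijective_iff]
  exact Hpull_pull_bijective_iff F g a b w f b' w' q

end Groth.Agent.Sga1.UlaRes
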