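import Groth.Agent.Desc.EtToDD
import Mathlib.AlgebraicGeometry.Morphisms.FlatRank
import Mathlib.AlgebraicGeometry.Morphisms.Etale
import Mathlib.AlgebraicGeometry.Morphisms.Proper
import Mathlib.RingTheory.LocalRing.ResidueField.Basic

/-!
# Lifting sections of finite étale covers from the closed fibre

* `exists_open_finrank_eq_one`: for `α : M ⟶ E` finite flat of finite presentation and `g : E ⟶ T` closed, if
  `α` has rank one at all points over `t : T` then it has rank one over a neighbourhood of `t`.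
* `ClopenLifts`: clopen subsets of the closed fibre lift.
* `exists_section_lift`: over a local ring, `X → Spec A` closed, `E → X` finite étale such that clopen subsets
  of `E_0` lift to `E`: every section of `E` over `X_0` lifts to a section over `X`.
-/

set_option autoImplicit false
set_option backward.isDefEq.respectTransparency false

open CategoryTheory CategoryTheory.Limits AlgebraicGeometry Opposite

namespace Groth.Agent.Sga1.RankOne

universe u

/-- The locus where a finite flat morphism has rank one spreads out along closed maps. -/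
theorem exists_open_finrank_eq_one {M E T : Scheme.{u}} (α : M ⟶ E) [IsFinite α] [Flat α]
    [LocallyOfFinitePresentation α] (g : E ⟶ T) (hg : IsClosedMap g) (t : T)
    (h : ∀ e : E, g e = t → α.finrank e = 1) :
    ∃ V : T.Opens, t ∈ V ∧ ∀ e : E, g e ∈ V → α.finrank e = 1 := by
  have hc : IsClosed (g '' {e : E | α.finrank e ≠ 1}) := by
    apply hg
    exact (α.isLocallyConstant_finrank.isClopen_fiber 1).compl.1
  refine ⟨⟨(g '' {e : E | α.finrank e ≠ 1})ᶜ, hc.isOpen_compl⟩, ?_, ?_⟩
  · rintro ⟨e, he, rfl⟩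
    exact he (h e rfl)
  · intro e he
    by_contra hne
    exact he ⟨e, hne, rfl⟩

section local_base

variable {A : Type u} [CommRing A] [IsLocalRing A]

/-- The only open subset of the spectrum of a local ring containing the closed point is everything. -/
theorem eq_top_of_closedPoint_mem (V : (Spec (CommRingCat.of A)).Opens)
    (hV : (IsLocalRing.closedPoint A : PrimeSpectrum A) ∈ V) : V = ⊤ := by
  rw [eq_top_iff]
  intro x _
  exact (IsLocalRing.specializes_closedPoint (R := A) x).mem_open V.2 hV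

/-- A finite flat morphism of rank one over the closed fibre is an isomorphism. -/
theorem isIso_of_finrank_closedFibre {M E : Scheme.{u}} (α : M ⟶ E) [IsFinite α] [Flat α]
    [LocallyOfFinitePresentation α] (g : E ⟶ Spec (CommRingCat.of A)) (hg : IsClosedMap g)
    (h : ∀ e : E, g e = (IsLocalRing.closedPoint A : PrimeSpectrum A) → α.finrank e = 1) :
    IsIso α := by
  obtain ⟨V, hV, h'⟩ := exists_open_finrank_eq_one α g hg _ h
  rw [eq_top_of_closedPoint_mem V hV] at h'
  rw [α.isIso_iff_finrank_eq]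
  ext e
  exact h' e trivial

variable (A) in
/-- the closed point -/
noncomputable abbrev cl : Spec (CommRingCat.of (IsLocalRing.ResidueField A)) ⟶ Spec (CommRingCat.of A) :=
  Spec.map (CommRingCat.ofHom (IsLocalRing.residue A))

/-- Clopen subsets of the closed fibre of `Z → Spec A` lift to clopen subsets of `Z`. -/
def ClopenLifts {Z : Scheme.{u}} (g : Z ⟶ Spec (CommRingCat.of A)) : Prop :=
  ∀ Y : (pullback g (cl A)).Opens, IsClosed (Y : Set ↑(pullback g (cl A))) →
    ∃ W : Z.Opens, IsClosed (W : Set Z) ∧ pullback.fst g (cl A) ⁻¹ᵁ W = Y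

/-- Points over the closed point come from the closed fibre. -/
theorem exists_closedFibre_point {Z : Scheme.{u}} (g : Z ⟶ Spec (CommRingCat.of A)) (z : Z)
    (hz : g z = (IsLocalRing.closedPoint A : PrimeSpectrum A)) :
    ∃ z₀ : ↑(pullback g (cl A)), pullback.fst g (cl A) z₀ = z := by
  have h : cl A (IsLocalRing.closedPoint (IsLocalRing.ResidueField A)) =
      (IsLocalRing.closedPoint A : PrimeSpectrum A) :=
    IsLocalRing.comap_closedPoint (IsLocalRing.residue A)
  obtain ⟨z₀, h1, _⟩ := Scheme.Pullback.exists_preimage_pullback (f := g) (g := cl A) z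
    (IsLocalRing.closedPoint (IsLocalRing.ResidueField A)) (hz.trans h.symm)
  exact ⟨z₀, h1⟩

/-- Sections of a finite étale cover lift from the closed fibre if clopen subsets do. -/
theorem exists_section_lift {X E : Scheme.{u}} (f : X ⟶ Spec (CommRingCat.of A))
    (hf : IsClosedMap f) (π : E ⟶ X) [IsFinite π] [Etale π] (hE : ClopenLifts (π ≫ f))
    (σ₀ : pullback f (cl A) ⟶ E) (hσ₀ : σ₀ ≫ π = pullback.fst f (cl A)) :
    ∃ σ : X ⟶ E, σ ≫ π = 𝟙 X ∧ pullback.fst f (cl A) ≫ σ = σ₀ := by
  let r : pullback f (cl A) ⟶ X := pullback.fst f (cl A)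
  let p : pullback (π ≫ f) (cl A) ⟶ E := pullback.fst (π ≫ f) (cl A)
  let q₀ : pullback (π ≫ f) (cl A) ⟶ pullback f (cl A) :=
    pullback.lift (pullback.fst (π ≫ f) (cl A) ≫ π) (pullback.snd _ _)
      (by rw [Category.assoc]; exact pullback.condition)
  have hq₁ : q₀ ≫ r = p ≫ π := pullback.lift_fst _ _ _
  have hq₂ : q₀ ≫ pullback.snd f (cl A) = pullback.snd (π ≫ f) (cl A) := pullback.lift_snd _ _ _
  -- the fibre square
  have sq : IsPullback p q₀ π r := by
    refine IsPullback.of_bot (h₃₁ := cl A) (v₂₁ := pullback.snd f (cl A)) (v₂₂ := f) ?_ hq₁.symm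
      (IsPullback.of_hasPullback f (cl A))
    rw [hq₂]
    exact IsPullback.of_hasPullback (π ≫ f) (cl A)
  have hq₀ : Etale q₀ := MorphismProperty.of_isPullback sq inferInstance
  have hq₀' : IsFinite q₀ := MorphismProperty.of_isPullback sq inferInstance
  let s₀ : pullback f (cl A) ⟶ pullback (π ≫ f) (cl A) :=
    pullback.lift σ₀ (pullback.snd f (cl A)) (by
      rw [← Category.assoc, hσ₀]; exact pullback.condition)
  have hs₁ : s₀ ≫ p = σ₀ := pullback.lift_fst _ _ _
  have hs₂ : s₀ ≫ q₀ = 𝟙 _ := by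
    apply pullback.hom_ext
    · have : (s₀ ≫ q₀) ≫ r = 𝟙 _ ≫ r := by
        rw [Category.assoc, hq₁, ← Category.assoc, hs₁, hσ₀, Category.id_comp]
      exact this
    · rw [Category.assoc, hq₂, Category.id_comp]
      exact pullback.lift_snd _ _ _
  have hs_et : Etale s₀ := by
    have : Etale (s₀ ≫ q₀) := by rw [hs₂]; infer_instance
    exact Etale.of_comp s₀ q₀
  have hs_mono : Mono s₀ := by
    have : Mono (s₀ ≫ q₀) := by rw [hs₂]; infer_instance
    exact mono_of_mono s₀ q₀
  have hs_open : IsOpenImmersion s₀ := IsOpenImmersion.of_flat_of_mono s₀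
  have hs_closed : IsClosedImmersion s₀ := by
    have : IsClosedImmersion (s₀ ≫ q₀) := by rw [hs₂]; infer_instance
    exact IsClosedImmersion.of_comp s₀ q₀
  obtain ⟨W, hW, hWY⟩ := hE s₀.opensRange s₀.isClosedEmbedding.isClosed_range
  have hσW : Set.range σ₀ ⊆ Set.range W.ι := by
    rw [Scheme.Opens.range_ι]
    rintro _ ⟨x, rfl⟩
    have h1 : s₀ x ∈ s₀.opensRange := ⟨x, rfl⟩
    rw [← hWY] at h1
    rw [← hs₁, Scheme.Hom.comp_apply]
    exact h1
  let l := IsOpenImmersion.lift W.ι σ₀ hσW
  have hl : l ≫ W.ι = σ₀ := IsOpenImmersion.lift_fac _ _ _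
  have sq' : IsPullback l s₀ W.ι p := by
    refine IsOpenImmersion.isPullback l s₀ W.ι p (by rw [hs₁, hl]) ?_
    rw [Scheme.Opens.opensRange_ι]
    exact hWY
  have sq'' : IsPullback l (𝟙 _) (W.ι ≫ π) r := by
    rw [← hs₂]
    exact sq'.paste_vert sq
  have hWc : IsClosedImmersion W.ι := by
    refine IsClosedImmersion.of_isPreimmersion _ ?_
    rw [Scheme.Opens.range_ι]
    exact hW
  have hα : IsIso (W.ι ≫ π) := by
    refine isIso_of_finrank_closedFibre (W.ι ≫ π) f hf ?_
    intro x hx
    obtain ⟨x₀, hx₀⟩ := exists_closedFibre_point f x hx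
    rw [← hx₀]
    have := Scheme.Hom.finrank_of_isPullback _ _ _ _ sq'' x₀
    rw [← this, Scheme.Hom.finrank_eq_one_of_isIso]
    rfl
  refine ⟨inv (W.ι ≫ π) ≫ W.ι, ?_, ?_⟩
  · rw [Category.assoc, IsIso.inv_hom_id]
  · have h1 : l = r ≫ inv (W.ι ≫ π) := by
      rw [IsIso.eq_comp_inv, sq''.w, Category.id_comp]
    rw [← Category.assoc]
    change (r ≫ inv (W.ι ≫ π)) ≫ W.ι = σ₀
    rw [← h1, hl]

end local_base

end Groth.Agent.Sga1.RankOne
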