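import Groth.Agent.Sga1.SectionSpread
import Groth.Agent.Sga1.RankOne
import Mathlib.RingTheory.Henselian

/-!
# Proper base change for sections of finite étale covers (degree zero, sets)

`A → C` ind-étale, `C` a henselian local ring with residue field `k`, `f : Z → Spec A` proper of finite
presentation, `E → W` finite étale. A `W`-morphism `Z_k → E` comes from a `W`-morphism `Z_B → E` for some étale
`A`-algebra `B → C`; two `W`-morphisms `Z_B → E` which agree on `Z_k` agree on `Z_{B'}` for some étale `B → B' → C`.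
The input is that clopen subsets of closed fibres lift for schemes proper over `C`.
-/

set_option autoImplicit false
set_option backward.isDefEq.respectTransparency false

open CategoryTheory CategoryTheory.Limits AlgebraicGeometry Opposite
open Groth.Agent.Sga1.SectionSpread Groth.Agent.Sga1.RankOne

namespace Groth.Agent.Sga1.ProperLift

universe u

section uniq

variable {A : Type u} [CommRing A] [IsLocalRing A]

/-- Two morphisms to a scheme unramified over the base which agree on the closed fibre agree, if the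
source is closed over the local base. -/
theorem eq_of_closedFibre {Y W E : Scheme.{u}} (g : Y ⟶ Spec (CommRingCat.of A)) (hg : IsClosedMap g)
    (π : E ⟶ W) [LocallyOfFiniteType π] [FormallyUnramified π] (σ τ : Y ⟶ E)
    (h : σ ≫ π = τ ≫ π) (h₀ : pullback.fst g (cl A) ≫ σ = pullback.fst g (cl A) ≫ τ) : σ = τ := by
  let k : Y ⟶ pullback π π := pullback.lift σ τ h
  let O : Y.Opens := k ⁻¹ᵁ (pullback.diagonal π).opensRange
  have hO : O = ⊤ := by
    have hc : IsClosed (g '' (O : Set Y)ᶜ) := hg _ O.2.isClosed_compl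
    have hmem : (IsLocalRing.closedPoint A : PrimeSpectrum A) ∈
        (⟨(g '' (O : Set Y)ᶜ)ᶜ, hc.isOpen_compl⟩ : (Spec (CommRingCat.of A)).Opens) := by
      rintro ⟨y, hy, hyc⟩
      apply hy
      obtain ⟨y₀, rfl⟩ := exists_closedFibre_point g y hyc
      refine ⟨σ (pullback.fst g (cl A) y₀), ?_⟩
      have e : (pullback.fst g (cl A) ≫ σ) ≫ pullback.diagonal π = pullback.fst g (cl A) ≫ k := by
        apply pullback.hom_ext
        · simp [k]
        · simp [k, h₀]
      rw [← Scheme.Hom.comp_apply, ← Scheme.Hom.comp_apply, ← Category.assoc, e,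
        Scheme.Hom.comp_apply]
    have htop := eq_top_of_closedPoint_mem _ hmem
    rw [eq_top_iff]
    intro y _
    by_contra hy
    have : g y ∈ (⟨(g '' (O : Set Y)ᶜ)ᶜ, hc.isOpen_compl⟩ : (Spec (CommRingCat.of A)).Opens) := by
      rw [htop]; trivial
    exact this ⟨y, hy, rfl⟩
  have hle : Set.range k ⊆ Set.range (pullback.diagonal π) := by
    rintro _ ⟨y, rfl⟩
    have : y ∈ O := by rw [hO]; trivial
    exact this
  have e := IsOpenImmersion.lift_fac (pullback.diagonal π) k hle
  have e1 : k ≫ pullback.fst _ _ = σ := pullback.lift_fst _ _ _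
  have e2 : k ≫ pullback.snd _ _ = τ := pullback.lift_snd _ _ _
  rw [← e1, ← e2, ← e, Category.assoc, Category.assoc, pullback.diagonal_fst, pullback.diagonal_snd]

end uniq

section lift

variable {A : Type u} [CommRing A] (C : Type u) [CommRing C] [IsLocalRing C] [Algebra A C]
variable {Z W E : Scheme.{u}} (f : Z ⟶ Spec (CommRingCat.of A)) (p : Z ⟶ W) (π : E ⟶ W)

variable (A) in
/-- The residue map as an `A`-algebra map. -/
noncomputable def res : C →ₐ[A] IsLocalRing.ResidueField C :=
  IsScalarTower.toAlgHom A C (IsLocalRing.ResidueField C)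

variable (A) in
theorem sp_res : sp (res A C) = cl C := rfl

/-- The closed fibre of `Z_C`. -/
noncomputable def closedFibreIso :
    bc f (IsLocalRing.ResidueField C) ≅ pullback (pullback.snd f (str A C)) (cl C) :=
  (isPullback_bcMap f (res A C)).isoPullback

@[reassoc (attr := simp)]
theorem closedFibreIso_hom_fst :
    (closedFibreIso C f).hom ≫ pullback.fst _ _ = bcMap f (res A C) :=
  (isPullback_bcMap f (res A C)).isoPullback_hom_fst

@[reassoc (attr := simp)]
theorem closedFibreIso_inv_bcMap :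
    (closedFibreIso C f).inv ≫ bcMap f (res A C) = pullback.fst _ _ :=
  (isPullback_bcMap f (res A C)).isoPullback_inv_fst

variable [IsFinite π] [Etale π]

/-- Lifting of `W`-morphisms `Z_k → E` to `Z_C`. -/
theorem exists_lift_local [IsProper f] [LocallyOfFinitePresentation f]
    (hcl : ∀ {Y : Scheme.{u}} (g : Y ⟶ Spec (CommRingCat.of C)) [IsProper g]
      [LocallyOfFinitePresentation g], ClopenLifts g)
    (σ₀ : bc f (IsLocalRing.ResidueField C) ⟶ E) (hσ₀ : σ₀ ≫ π = pullback.fst f _ ≫ p) :
    ∃ σ : bc f C ⟶ E, σ ≫ π = pullback.fst f (str A C) ≫ p ∧ bcMap f (res A C) ≫ σ = σ₀ := by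
  let b : bc f C ⟶ W := pullback.fst f (str A C) ≫ p
  let g : bc f C ⟶ Spec (CommRingCat.of C) := pullback.snd f (str A C)
  let π' : pullback π b ⟶ bc f C := pullback.snd π b
  let s : pullback g (cl C) ⟶ pullback π b :=
    pullback.lift ((closedFibreIso C f).inv ≫ σ₀) (pullback.fst g (cl C)) (by
      rw [Category.assoc, hσ₀, ← closedFibreIso_inv_bcMap C f, Category.assoc]
      simp [b])
  have hs₁ : s ≫ pullback.fst π b = (closedFibreIso C f).inv ≫ σ₀ := pullback.lift_fst _ _ _
  have hs₂ : s ≫ π' = pullback.fst g (cl C) := pullback.lift_snd _ _ _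
  obtain ⟨σ, h1, h2⟩ := exists_section_lift g g.isClosedMap π' (hcl (π' ≫ g)) s hs₂
  refine ⟨σ ≫ pullback.fst π b, ?_, ?_⟩
  · rw [Category.assoc, pullback.condition, ← Category.assoc, h1, Category.id_comp]
  · rw [← closedFibreIso_hom_fst C f, Category.assoc, ← Category.assoc (pullback.fst g (cl C)), h2,
      hs₁, Iso.hom_inv_id_assoc]

/-- Uniqueness of lifts. -/
theorem eq_of_eq_residue (hf : IsClosedMap (pullback.snd f (str A C)))
    (σ τ : bc f C ⟶ E) (hσ : σ ≫ π = pullback.fst f (str A C) ≫ p)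
    (hτ : τ ≫ π = pullback.fst f (str A C) ≫ p)
    (h : bcMap f (res A C) ≫ σ = bcMap f (res A C) ≫ τ) : σ = τ := by
  refine eq_of_closedFibre (pullback.snd f (str A C)) hf π σ τ (hσ.trans hτ.symm) ?_
  rw [← closedFibreIso_inv_bcMap C f, Category.assoc, Category.assoc, h]

end lift

section etale

variable {A : Type u} [CommRing A] (C : Type u) [CommRing C] [IsLocalRing C] [Algebra A C]
variable {Z W E : Scheme.{u}} (f : Z ⟶ Spec (CommRingCat.of A)) (p : Z ⟶ W) (π : E ⟶ W)
  [IsFinite π] [Etale π]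

/-- Proper base change for sections: existence. -/
theorem exists_etale_lift [IsProper f] [LocallyOfFinitePresentation f]
    (hC : ∀ (P : Type u) [CommRing P] [Algebra A P] [Algebra.FinitePresentation A P]
      (φ : P →ₐ[A] C), ∃ (E : Type u) (_ : CommRing E) (_ : Algebra A E) (_ : Algebra.Etale A E)
      (ψ : P →ₐ[A] E) (χ : E →ₐ[A] C), χ.comp ψ = φ)
    (hcl : ∀ {Y : Scheme.{u}} (g : Y ⟶ Spec (CommRingCat.of C)) [IsProper g]
      [LocallyOfFinitePresentation g], ClopenLifts g)
    (σ₀ : bc f (IsLocalRing.ResidueField C) ⟶ E) (hσ₀ : σ₀ ≫ π = pullback.fst f _ ≫ p) :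
    ∃ (B : Type u) (_ : CommRing B) (_ : Algebra A B) (_ : Algebra.Etale A B)
      (χ : B →ₐ[A] C) (σ : bc f B ⟶ E), σ ≫ π = pullback.fst f (str A B) ≫ p ∧
      bcMap f ((res A C).comp χ) ≫ σ = σ₀ := by
  obtain ⟨σC, h1, h2⟩ := exists_lift_local C f p π hcl σ₀ hσ₀
  obtain ⟨B, _, _, _, χ, σ, h3, h4⟩ := exists_etale f p C hC π σC h1
  refine ⟨B, inferInstance, inferInstance, inferInstance, χ, σ, h3, ?_⟩
  rw [← bcMap_comp_assoc, h4, h2]

/-- Proper base change for sections: uniqueness. -/
theorem exists_etale_eq_of_residue [UniversallyClosed f] [LocallyOfFinitePresentation f]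
    (hC : ∀ (P : Type u) [CommRing P] [Algebra A P] [Algebra.FinitePresentation A P]
      (φ : P →ₐ[A] C), ∃ (E : Type u) (_ : CommRing E) (_ : Algebra A E) (_ : Algebra.Etale A E)
      (ψ : P →ₐ[A] E) (χ : E →ₐ[A] C), χ.comp ψ = φ)
    (B : Type u) [CommRing B] [Algebra A B] [Algebra.FinitePresentation A B] (χ : B →ₐ[A] C)
    (σ τ : bc f B ⟶ E) (hσ : σ ≫ π = pullback.fst f (str A B) ≫ p)
    (hτ : τ ≫ π = pullback.fst f (str A B) ≫ p)
    (h : bcMap f ((res A C).comp χ) ≫ σ = bcMap f ((res A C).comp χ) ≫ τ) :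
    ∃ (B' : Type u) (_ : CommRing B') (_ : Algebra A B') (_ : Algebra.Etale A B')
      (ψ : B →ₐ[A] B') (χ' : B' →ₐ[A] C),
      χ'.comp ψ = χ ∧ bcMap f ψ ≫ σ = bcMap f ψ ≫ τ := by
  refine exists_etale_eq f p C hC π B χ σ τ hσ hτ ?_
  refine eq_of_eq_residue C f p π (pullback.snd f (str A C)).isClosedMap _ _ ?_ ?_ ?_
  · rw [Category.assoc, hσ, bcMap_fst_assoc]
  · rw [Category.assoc, hτ, bcMap_fst_assoc]
  · rw [bcMap_comp_assoc, bcMap_comp_assoc]
    exact h

end etale

end Groth.Agent.Sga1.ProperLift
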