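import Groth.Agent.Sga1.FPColim
import Mathlib.AlgebraicGeometry.AffineTransitionLimit
import Mathlib.AlgebraicGeometry.Morphisms.FinitePresentation
import Mathlib.RingTheory.Etale.Basic

/-!
# Spreading out sections along base change of rings

`X → Spec A` quasi-compact and quasi-separated, `E → X` locally of finite presentation and `C` an
`A`-algebra. An `X`-morphism `X_C → E` comes from an `X`-morphism `X_P → E` for a finitely presented
`A`-algebra `P` with a map to `C`; two `X`-morphisms `X_B → E` which agree on `X_C` agree on `X_P` for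
a finitely presented `B`-algebra `P` with a `B`-map to `C`.
-/

set_option autoImplicit false
set_option backward.isDefEq.respectTransparency false

open CategoryTheory CategoryTheory.Limits AlgebraicGeometry Opposite

namespace Groth.Agent.Sga1.SectionSpread

universe u

section bc

variable {A : Type u} [CommRing A] {X : Scheme.{u}} (f : X ⟶ Spec (CommRingCat.of A))

/-- the structure map of an algebra, on spectra. -/
noncomputable abbrev str (A B : Type u) [CommRing A] [CommRing B] [Algebra A B] :
    Spec (CommRingCat.of B) ⟶ Spec (CommRingCat.of A) :=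
  Spec.map (CommRingCat.ofHom (algebraMap A B))

/-- the map on spectra induced by an algebra map -/
noncomputable abbrev sp {B B' : Type u} [CommRing B] [CommRing B'] [Algebra A B] [Algebra A B']
    (φ : B →ₐ[A] B') : Spec (CommRingCat.of B') ⟶ Spec (CommRingCat.of B) :=
  Spec.map (CommRingCat.ofHom φ.toRingHom)

theorem sp_str {B B' : Type u} [CommRing B] [CommRing B'] [Algebra A B] [Algebra A B']
    (φ : B →ₐ[A] B') : sp φ ≫ str A B = str A B' := by
  rw [sp, str, ← Spec.map_comp, ← CommRingCat.ofHom_comp]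
  congr 2
  exact φ.comp_algebraMap

/-- Base change of `X → Spec A` to an `A`-algebra. -/
noncomputable abbrev bc (B : Type u) [CommRing B] [Algebra A B] : Scheme.{u} :=
  pullback f (str A B)

/-- The transition map of the base changes. -/
noncomputable def bcMap {B B' : Type u} [CommRing B] [CommRing B'] [Algebra A B] [Algebra A B']
    (φ : B →ₐ[A] B') : bc f B' ⟶ bc f B :=
  pullback.lift (pullback.fst _ _) (pullback.snd _ _ ≫ sp φ)
    (by rw [Category.assoc, sp_str, pullback.condition])

variable {B B' B'' : Type u} [CommRing B] [CommRing B'] [CommRing B''] [Algebra A B] [Algebra A B']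
  [Algebra A B'']

@[reassoc (attr := simp)]
theorem bcMap_fst (φ : B →ₐ[A] B') : bcMap f φ ≫ pullback.fst f (str A B) = pullback.fst f (str A B') :=
  pullback.lift_fst _ _ _

@[reassoc (attr := simp)]
theorem bcMap_snd (φ : B →ₐ[A] B') :
    bcMap f φ ≫ pullback.snd f (str A B) = pullback.snd f (str A B') ≫ sp φ :=
  pullback.lift_snd _ _ _

theorem bcMap_id : bcMap f (AlgHom.id A B) = 𝟙 _ := by
  apply pullback.hom_ext
  · simp
  · have : sp (AlgHom.id A B) = 𝟙 _ := by
      rw [sp, ← Spec.map_id]; rfl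
    rw [bcMap_snd, this, Category.comp_id, Category.id_comp]

@[reassoc]
theorem bcMap_comp (φ : B →ₐ[A] B') (ψ : B' →ₐ[A] B'') :
    bcMap f ψ ≫ bcMap f φ = bcMap f (ψ.comp φ) := by
  apply pullback.hom_ext
  · simp
  · have : sp ψ ≫ sp φ = sp (ψ.comp φ) := by
      rw [sp, sp, sp, ← Spec.map_comp, ← CommRingCat.ofHom_comp]; rfl
    rw [Category.assoc, bcMap_snd, bcMap_snd_assoc, bcMap_snd, this]

theorem isPullback_bcMap (φ : B →ₐ[A] B') :
    IsPullback (bcMap f φ) (pullback.snd f (str A B')) (pullback.snd f (str A B)) (sp φ) := by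
  refine IsPullback.of_right (h₁₂ := pullback.fst f (str A B)) (v₁₃ := f) (h₂₂ := str A B) ?_
    (bcMap_snd f φ) (IsPullback.of_hasPullback f (str A B))
  rw [bcMap_fst, sp_str]
  exact IsPullback.of_hasPullback f (str A B')

instance isAffineHom_bcMap (φ : B →ₐ[A] B') : IsAffineHom (bcMap f φ) :=
  MorphismProperty.of_isPullback (isPullback_bcMap f φ).flip inferInstance

instance [QuasiCompact f] : CompactSpace (bc f B) := by
  have : QuasiCompact (pullback.snd f (str A B)) := inferInstance
  exact (quasiCompact_iff_compactSpace (pullback.snd f (str A B))).mp this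

instance [QuasiSeparated f] : QuasiSeparatedSpace (bc f B) := by
  have : QuasiSeparated (pullback.snd f (str A B)) := inferInstance
  exact (quasiSeparated_iff_quasiSeparatedSpace (pullback.snd f (str A B))).mp this

end bc

section limit

open FPColim

variable {A : Type u} [CommRing A] {X : Scheme.{u}} (f : X ⟶ Spec (CommRingCat.of A))
variable (B C : Type u) [CommRing B] [CommRing C] [Algebra A B] [Algebra A C] [Algebra B C]
  [IsScalarTower A B C]

/-- transition maps as `A`-algebra maps -/
noncomputable def transA {i j : Idx B C} (h : i ≤ j) : Stage i →ₐ[A] Stage j :=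
  (FPColim.trans h).restrictScalars A

/-- map to `C` as `A`-algebra map -/
noncomputable def toCA (j : Idx B C) : Stage j →ₐ[A] C := (toC j).restrictScalars A

variable {B C} in
omit [Algebra A C] [IsScalarTower A B C] in
theorem transA_refl (i : Idx B C) (h : i ≤ i) : transA (A := A) B C h = AlgHom.id A _ :=
  AlgHom.ext fun x ↦ trans_refl i h x

variable {B C} in
omit [Algebra A C] [IsScalarTower A B C] in
theorem transA_trans {i j k : Idx B C} (h : i ≤ j) (h' : j ≤ k) (h'' : i ≤ k) :
    (transA (A := A) B C h').comp (transA B C h) = transA B C h'' :=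
  AlgHom.ext fun x ↦ trans_trans h h' h'' x

variable {B C} in
theorem toCA_transA {i j : Idx B C} (h : i ≤ j) :
    (toCA (A := A) B C j).comp (transA B C h) = toCA B C i :=
  AlgHom.ext fun x ↦ toC_trans h x

/-- The diagram of the `X_P`. -/
noncomputable def diag : (Idx B C)ᵒᵖ ⥤ Scheme.{u} where
  obj j := bc f (Stage j.unop)
  map h := bcMap f (transA B C h.unop.le)
  map_id j := by
    rw [transA_refl, bcMap_id]
  map_comp {i j k} g h := by
    rw [bcMap_comp, transA_trans]

/-- The cone with point `X_C`. -/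
noncomputable def cone : Cone (diag f B C) where
  pt := bc f C
  π :=
    { app j := bcMap f (toCA B C j.unop)
      naturality {i j} g := by
        have h : bcMap f (toCA B C i.unop) ≫ bcMap f (transA B C g.unop.le) =
            bcMap f (toCA B C j.unop) := by
          rw [bcMap_comp, toCA_transA]
        exact (Category.id_comp _).trans h.symm }

instance affMap {i j : (Idx B C)ᵒᵖ} (g : i ⟶ j) : IsAffineHom ((diag f B C).map g) :=
  isAffineHom_bcMap f _

/-- the diagram of spectra -/
noncomputable abbrev specDiag : (Idx B C)ᵒᵖ ⥤ Scheme.{u} := (ringDiagram B C).op ⋙ Scheme.Spec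

/-- the cone of spectra -/
noncomputable abbrev specCone : Cone (specDiag B C) := Scheme.Spec.mapCone (ringCocone B C).op

/-- the cone of spectra is a limit -/
noncomputable def isLimitSpecCone : IsLimit (specCone B C) :=
  isLimitOfPreserves Scheme.Spec (FPColim.isColimit B C).op

/-- projection of the diagram to the spectra -/
noncomputable def proj : diag f B C ⟶ specDiag B C where
  app j := pullback.snd f (str A (Stage j.unop))
  naturality {_ _} g := bcMap_snd f (transA B C g.unop.le)

/-- `X_C` is the limit of the `X_P`. -/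
noncomputable def isLimitCone : IsLimit (cone f B C) := by
  haveI : IsCofiltered (Idx B C)ᵒᵖ := inferInstance
  haveI : IsConnected (Idx B C)ᵒᵖ := IsCofiltered.isConnected _
  refine isLimitOfIsPullbackOfIsConnected (proj f B C) (cone f B C) (specCone B C)
    { hom := pullback.snd f (str A C)
      w := fun j ↦ (bcMap_snd f (toCA B C j.unop)).symm }
    (fun j ↦ isPullback_bcMap f (toCA B C j.unop)) (isLimitSpecCone B C)

variable {W : Scheme.{u}} (p : X ⟶ W)

/-- projection of the diagram to `W`. -/
noncomputable def toX : diag f B C ⟶ (Functor.const (Idx B C)ᵒᵖ).obj W where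
  app j := pullback.fst f (str A (Stage j.unop)) ≫ p
  naturality {_ _} g := (bcMap_fst_assoc f (transA B C g.unop.le) p).trans (Category.comp_id _).symm

instance compactDiag [QuasiCompact f] (j : (Idx B C)ᵒᵖ) : CompactSpace ((diag f B C).obj j) :=
  inferInstanceAs (CompactSpace (bc f (Stage j.unop)))

instance qsDiag [QuasiSeparated f] (j : (Idx B C)ᵒᵖ) : QuasiSeparatedSpace ((diag f B C).obj j) :=
  inferInstanceAs (QuasiSeparatedSpace (bc f (Stage j.unop)))

/-- Spreading out of `W`-morphisms `X_C → E`. -/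
theorem exists_stage [QuasiCompact f] [QuasiSeparated f] {E : Scheme.{u}} (π : E ⟶ W)
    [LocallyOfFinitePresentation π] (σ : bc f C ⟶ E) (hσ : σ ≫ π = pullback.fst f (str A C) ≫ p) :
    ∃ (j : Idx B C) (τ : bc f (Stage j) ⟶ E), τ ≫ π = pullback.fst f (str A (Stage j)) ≫ p ∧
      bcMap f (toCA B C j) ≫ τ = σ := by
  have : IsCofiltered (Idx B C)ᵒᵖ := inferInstance
  obtain ⟨j, τ, h1, h2⟩ := Scheme.exists_π_app_comp_eq_of_locallyOfFinitePresentation (diag f B C)
    (toX f B C p) π (cone f B C) (isLimitCone f B C) σ (by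
      ext j
      have h : bcMap f (toCA B C j.unop) ≫ pullback.fst f (str A (Stage j.unop)) ≫ p = σ ≫ π := by
        rw [bcMap_fst_assoc, hσ]
      exact h)
  exact ⟨j.unop, τ, h2, h1⟩

/-- Spreading out of equality of `W`-morphisms `X_B → E` which agree on `X_C`. -/
theorem exists_stage_eq [QuasiCompact f] {E : Scheme.{u}} (π : E ⟶ W)
    [LocallyOfFiniteType π] (σ τ : bc f B ⟶ E) (hσ : σ ≫ π = pullback.fst f (str A B) ≫ p)
    (hτ : τ ≫ π = pullback.fst f (str A B) ≫ p)
    (h : bcMap f (IsScalarTower.toAlgHom A B C) ≫ σ = bcMap f (IsScalarTower.toAlgHom A B C) ≫ τ) :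
    ∃ (j : Idx B C), bcMap f (IsScalarTower.toAlgHom A B (Stage j)) ≫ σ =
      bcMap f (IsScalarTower.toAlgHom A B (Stage j)) ≫ τ := by
  have : IsCofiltered (Idx B C)ᵒᵖ := inferInstance
  let j₀ : Idx B C := Classical.arbitrary _
  let a := bcMap f (IsScalarTower.toAlgHom A B (Stage j₀)) ≫ σ
  let b := bcMap f (IsScalarTower.toAlgHom A B (Stage j₀)) ≫ τ
  have e : (toCA B C j₀).comp (IsScalarTower.toAlgHom A B (Stage j₀)) =
      IsScalarTower.toAlgHom A B C := by
    ext x
    exact (toC j₀).commutes x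
  obtain ⟨k, hik, h'⟩ := Scheme.exists_hom_comp_eq_comp_of_locallyOfFiniteType (diag f B C)
    (toX f B C p) π (cone f B C) (isLimitCone f B C) (i := op j₀) a b
    (by
      have : pullback.fst f (str A (Stage j₀)) ≫ p = a ≫ π := by
        rw [Category.assoc, hσ, bcMap_fst_assoc]
      exact this)
    (by
      have : pullback.fst f (str A (Stage j₀)) ≫ p = b ≫ π := by
        rw [Category.assoc, hτ, bcMap_fst_assoc]
      exact this)
    (by
      have : bcMap f (toCA B C j₀) ≫ a = bcMap f (toCA B C j₀) ≫ b := by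
        rw [bcMap_comp_assoc, bcMap_comp_assoc, e, h]
      exact this)
  refine ⟨k.unop, ?_⟩
  have e' : (transA B C hik.unop.le).comp (IsScalarTower.toAlgHom A B (Stage j₀)) =
      IsScalarTower.toAlgHom A B (Stage k.unop) := by
    ext x
    exact (FPColim.trans hik.unop.le).commutes x
  have h'' : bcMap f (transA B C hik.unop.le) ≫ a = bcMap f (transA B C hik.unop.le) ≫ b := h'
  rw [bcMap_comp_assoc, bcMap_comp_assoc, e'] at h''
  exact h''

end limit

section etale

variable {A : Type u} [CommRing A] {X W : Scheme.{u}} (f : X ⟶ Spec (CommRingCat.of A))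
  (p : X ⟶ W) (C : Type u) [CommRing C] [Algebra A C]

/-- Spreading out of `W`-morphisms `X_C → E` to a finitely presented algebra. -/
theorem exists_fp [QuasiCompact f] [QuasiSeparated f] {E : Scheme.{u}} (π : E ⟶ W)
    [LocallyOfFinitePresentation π] (σ : bc f C ⟶ E) (hσ : σ ≫ π = pullback.fst f (str A C) ≫ p) :
    ∃ (B : Type u) (_ : CommRing B) (_ : Algebra A B) (_ : Algebra.FinitePresentation A B)
      (χ : B →ₐ[A] C) (τ : bc f B ⟶ E),
      τ ≫ π = pullback.fst f (str A B) ≫ p ∧ bcMap f χ ≫ τ = σ := by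
  obtain ⟨j, τ, h1, h2⟩ := exists_stage f A C p π σ hσ
  exact ⟨FPColim.Stage j, inferInstance, inferInstance, inferInstance, toCA A C j, τ, h1, h2⟩

/-- Spreading out of equality of `W`-morphisms `X_B → E` to a finitely presented algebra. -/
theorem exists_fp_eq [QuasiCompact f] {E : Scheme.{u}} (π : E ⟶ W)
    [LocallyOfFiniteType π] (B : Type u) [CommRing B] [Algebra A B] (χ : B →ₐ[A] C)
    (σ τ : bc f B ⟶ E) (hσ : σ ≫ π = pullback.fst f (str A B) ≫ p)
    (hτ : τ ≫ π = pullback.fst f (str A B) ≫ p) (h : bcMap f χ ≫ σ = bcMap f χ ≫ τ) :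
    ∃ (B' : Type u) (_ : CommRing B') (_ : Algebra A B') (ψ : B →ₐ[A] B') (χ' : B' →ₐ[A] C),
      ψ.toRingHom.FinitePresentation ∧ χ'.comp ψ = χ ∧ bcMap f ψ ≫ σ = bcMap f ψ ≫ τ := by
  let _ : Algebra B C := χ.toRingHom.toAlgebra
  have : IsScalarTower A B C := IsScalarTower.of_algebraMap_eq fun x ↦ (χ.commutes x).symm
  have hχ : IsScalarTower.toAlgHom A B C = χ := by ext x; rfl
  rw [← hχ] at h
  obtain ⟨j, hj⟩ := exists_stage_eq f B C p π σ τ hσ hτ h
  refine ⟨FPColim.Stage j, inferInstance, inferInstance, IsScalarTower.toAlgHom A B _,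
    toCA B C j, ?_, ?_, hj⟩
  · have : Algebra.FinitePresentation B (FPColim.Stage j) := inferInstance
    exact RingHom.finitePresentation_algebraMap.mpr this
  · ext x
    exact (FPColim.toC j).commutes x

/-- Spreading out of `W`-morphisms `X_C → E` to an etale algebra if `C` is ind-etale over `A`. -/
theorem exists_etale (hC : ∀ (P : Type u) [CommRing P] [Algebra A P] [Algebra.FinitePresentation A P]
      (φ : P →ₐ[A] C), ∃ (E : Type u) (_ : CommRing E) (_ : Algebra A E) (_ : Algebra.Etale A E)
      (ψ : P →ₐ[A] E) (χ : E →ₐ[A] C), χ.comp ψ = φ)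
    [QuasiCompact f] [QuasiSeparated f] {E : Scheme.{u}} (π : E ⟶ W)
    [LocallyOfFinitePresentation π] (σ : bc f C ⟶ E) (hσ : σ ≫ π = pullback.fst f (str A C) ≫ p) :
    ∃ (B : Type u) (_ : CommRing B) (_ : Algebra A B) (_ : Algebra.Etale A B)
      (χ : B →ₐ[A] C) (τ : bc f B ⟶ E),
      τ ≫ π = pullback.fst f (str A B) ≫ p ∧ bcMap f χ ≫ τ = σ := by
  obtain ⟨P, _, _, _, φ, τ, h1, h2⟩ := exists_fp f p C π σ hσ
  obtain ⟨B, _, _, _, ψ, χ, h⟩ := hC P φ
  refine ⟨B, inferInstance, inferInstance, inferInstance, χ, bcMap f ψ ≫ τ, ?_, ?_⟩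
  · rw [Category.assoc, h1, bcMap_fst_assoc]
  · rw [bcMap_comp_assoc, h, h2]

/-- Spreading out of equality of `W`-morphisms `X_B → E` to an etale algebra if `C` is ind-etale
over `A`. -/
theorem exists_etale_eq
    (hC : ∀ (P : Type u) [CommRing P] [Algebra A P] [Algebra.FinitePresentation A P]
      (φ : P →ₐ[A] C), ∃ (E : Type u) (_ : CommRing E) (_ : Algebra A E) (_ : Algebra.Etale A E)
      (ψ : P →ₐ[A] E) (χ : E →ₐ[A] C), χ.comp ψ = φ)
    [QuasiCompact f] {E : Scheme.{u}} (π : E ⟶ W)
    [LocallyOfFiniteType π] (B : Type u) [CommRing B] [Algebra A B]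
    [Algebra.FinitePresentation A B] (χ : B →ₐ[A] C)
    (σ τ : bc f B ⟶ E) (hσ : σ ≫ π = pullback.fst f (str A B) ≫ p)
    (hτ : τ ≫ π = pullback.fst f (str A B) ≫ p) (h : bcMap f χ ≫ σ = bcMap f χ ≫ τ) :
    ∃ (B' : Type u) (_ : CommRing B') (_ : Algebra A B') (_ : Algebra.Etale A B')
      (ψ : B →ₐ[A] B') (χ' : B' →ₐ[A] C),
      χ'.comp ψ = χ ∧ bcMap f ψ ≫ σ = bcMap f ψ ≫ τ := by
  obtain ⟨P, _, _, ψ, χ', hfp, h1, h2⟩ := exists_fp_eq f p C π B χ σ τ hσ hτ h
  have : Algebra.FinitePresentation A P := by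
    have h3 : (algebraMap A B).FinitePresentation := RingHom.finitePresentation_algebraMap.mpr ‹_›
    have h4 := hfp.comp h3
    have h5 : ψ.toRingHom.comp (algebraMap A B) = algebraMap A P := ψ.comp_algebraMap
    rw [h5] at h4
    exact RingHom.finitePresentation_algebraMap.mp h4
  obtain ⟨B', _, _, _, ψ', χ'', h3⟩ := hC P χ'
  refine ⟨B', inferInstance, inferInstance, inferInstance, ψ'.comp ψ, χ'', ?_, ?_⟩
  · rw [← AlgHom.comp_assoc, h3, h1]
  · rw [← bcMap_comp_assoc, ← bcMap_comp_assoc, h2]

end etale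

end Groth.Agent.Sga1.SectionSpread
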