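import Groth.Agent.Hensel.Lazard
import Groth.Agent.CalgC.IndEtale
import Groth.Agent.Sga1.SectionSpread

/-!
# Strict henselizations at a point of an affine scheme
-/

set_option autoImplicit false

open CategoryTheory AlgebraicGeometry
open Groth.Agent.Sga1.SectionSpread

namespace Groth.Agent.Sga1.StrictHens

universe u

/-- Strict henselizations at a point of `Spec A`, as ind-étale `A`-algebras. -/
theorem exists_strictHens (A : Type u) [CommRing A] (a : PrimeSpectrum A) :
    ∃ (C : Type u) (_ : CommRing C) (_ : HenselianLocalRing C) (_ : Algebra A C),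
      IsSepClosed (IsLocalRing.ResidueField C) ∧
      PrimeSpectrum.comap (algebraMap A C) (IsLocalRing.closedPoint C) = a ∧
      ∀ (P : Type u) [CommRing P] [Algebra A P] [Algebra.FinitePresentation A P]
      (φ : P →ₐ[A] C), ∃ (E : Type u) (_ : CommRing E) (_ : Algebra A E) (_ : Algebra.Etale A E)
      (ψ : P →ₐ[A] E) (χ : E →ₐ[A] C), χ.comp ψ = φ := by
  let R := Localization.AtPrime a.asIdeal
  obtain ⟨C, i1, i2, i3, i4, hC, -⟩ := Groth.Agent.Hensel.Exist.exists_isStrictHenselization R
  have hhens : HenselianLocalRing C := hC.henselian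
  have hsep := hC.isSepClosure
  have hlaz : CalgC.IndEtale.IsIndEtale R C := Groth.Agent.Hensel.Lazard.laz_of_isStrictHenselization R C
  let _ : Algebra A C := ((algebraMap R C).comp (algebraMap A R)).toAlgebra
  have : IsScalarTower A R C := IsScalarTower.of_algebraMap_eq fun x => rfl
  have hloc : CalgC.IndEtale.IsIndEtale A R :=
    CalgC.IndEtale.isIndEtale_of_isLocalization a.asIdeal.primeCompl R
  have hAC : CalgC.IndEtale.IsIndEtale A C :=
    CalgC.IndEtale.IsInd.comp CalgC.IndEtale.isGood_etale hloc hlaz
  refine ⟨C, i1, hhens, inferInstance, hsep.sep_closed, ?_, hAC⟩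
  have h1 : PrimeSpectrum.comap (algebraMap R C) (IsLocalRing.closedPoint C) =
      IsLocalRing.closedPoint R := IsLocalRing.comap_closedPoint (algebraMap R C)
  have h2 : PrimeSpectrum.comap (algebraMap A R) (IsLocalRing.closedPoint R) = a :=
    PrimeSpectrum.ext (Localization.AtPrime.under_maximalIdeal (I := a.asIdeal))
  have h3 : algebraMap A C = (algebraMap R C).comp (algebraMap A R) := rfl
  rw [h3, PrimeSpectrum.comap_comp_apply, h1, h2]

end Groth.Agent.Sga1.StrictHens
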