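import Groth.Agent.Sga1.SecLocal
import Groth.Agent.S0783

/-!
# Effectivity of etale descent data, etale-locally on the base
-/

set_option autoImplicit false
set_option maxHeartbeats 400000
set_option backward.isDefEq.respectTransparency false
set_option backward.isDefEq.respectTransparency.types false
open CategoryTheory CategoryTheory.Limits AlgebraicGeometry Opposite
universe u
open _root_.Desc Groth.Agent.Desc.SecFunctor Groth.Agent.Desc.SecPresheaf

namespace Groth.Agent.Sga1.EffLocal

open SGA1 Groth.Agent.Sga1.UnivSub Groth.Agent.Desc.SecDescent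

variable {X S : Scheme.{u}} {p : X ⟶ S}

/-- An etale separated quasi-compact descent datum relative to `p` is effective if, etale locally on
`S`, `p` is dominated by a surjective integral morphism. -/
theorem effective_of_integral_cover (D : SchDD p) [QuasiCompact D.obj.hom] [IsSeparated D.obj.hom]
    [Etale D.obj.hom]
    (H : ∀ s : S, ∃ (T : Scheme.{u}) (q : T ⟶ S) (t : T) (Y : Scheme.{u}) (π : Y ⟶ T) (r : Y ⟶ X),
      Etale q ∧ q.base t = s ∧ IsIntegralHom π ∧ Surjective π ∧ r ≫ p = π ≫ q) :
    ∃ U : Over S, QuasiCompact U.hom ∧ IsSeparated U.hom ∧ Etale U.hom ∧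
      Nonempty ((toDD p).obj U ≅ D) := by
  obtain ⟨E, h1, h2, h3, ⟨e⟩⟩ := Groth.Agent.Desc.LocalRep.exists_rep_of_local (secFunctor D)
    (Groth.Agent.Desc.ZarSec.isZarSheaf_secFunctor D) (fun {T' T} g hg hg' =>
      SecEtale.isDesc_of_univSubmersive D g
        (SecLocal.univSubmersive_of_universallyOpen g.left)) (fun s => by
      obtain ⟨T, q, t, Y, π, r, hq, ht, hπ, hπs, hr⟩ := H s
      obtain ⟨U, ⟨hU1, hU2⟩, hU3, hU4⟩ := SecLocal.exists_representableBy D q π
        (SecLocal.univSubmersive_of_universallyClosed π) r hr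
        (fun U => QuasiCompact U.hom ∧ IsSeparated U.hom) (fun D' hD' => by
          have : QuasiCompact D'.obj.hom := by
            rw [hD']
            exact MorphismProperty.pullback_snd _ _ ‹QuasiCompact D.obj.hom›
          have : IsSeparated D'.obj.hom := by
            rw [hD']
            exact MorphismProperty.pullback_snd _ _ ‹IsSeparated D.obj.hom›
          have : Etale D'.obj.hom := by
            rw [hD']
            exact MorphismProperty.pullback_snd _ _ ‹Etale D.obj.hom›
          obtain ⟨U, hU1, hU2, hU3, hU4⟩ := Groth.Agent.S0783.result π D'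
          exact ⟨U, ⟨hU1, hU2⟩, hU3, hU4⟩)
      exact ⟨Over.mk q, hq, t, ht, U, hU3, hU2, hU1, hU4⟩)
  exact ⟨E, h3, h2, h1, effective_of_representableBy e⟩

end Groth.Agent.Sga1.EffLocal
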