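import Groth.Agent.Sga1.FinPartSurj
import Groth.Agent.Sga1.SigmaFinite
import Groth.Agent.Flat2D.EtNbhd5
import Mathlib.AlgebraicGeometry.Morphisms.Finite
import Mathlib.AlgebraicGeometry.Morphisms.QuasiFinite

/-!
# Universally submersive quasi-finite morphisms over locally noetherian bases are dominated,
etale locally on the base, by finite surjective morphisms
-/

set_option autoImplicit false
set_option maxHeartbeats 400000
set_option backward.isDefEq.respectTransparency false
open CategoryTheory CategoryTheory.Limits AlgebraicGeometry Opposite TopologicalSpace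
universe u

namespace Groth.Agent.Sga1.QFCover

open SGA1 Groth.Agent.Sga1.UnivSub

/-- A finite family of opens, finite over the base, gives after shrinking the base a finite
surjective morphism, if the union of the images is a neighbourhood of the point. -/
theorem exists_finite_surjective {X' U : Scheme.{u}} (f : X' ⟶ U) {ι : Type} [Finite ι]
    (V : ι → X'.Opens) (hV : ∀ i, IsFinite ((V i).ι ≫ f)) (u : U)
    (hu : u ∈ interior (f.base '' (⋃ i, (V i : Set X')))) :
    ∃ (T : U.Opens) (_ : u ∈ T) (Y : Scheme.{u}) (π : Y ⟶ (T : Scheme.{u})) (r : Y ⟶ X'),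
      IsFinite π ∧ Surjective π ∧ r ≫ f = π ≫ T.ι := by
  let T : U.Opens := ⟨interior (f.base '' (⋃ i, (V i : Set X'))), isOpen_interior⟩
  let Z : Scheme.{u} := ∐ fun i : ULift.{u} ι => (V i.down : Scheme.{u})
  let r₀ : Z ⟶ X' := Sigma.desc fun i => (V i.down).ι
  have hfin : IsFinite (r₀ ≫ f) := by
    have : r₀ ≫ f = Sigma.desc fun i : ULift.{u} ι => (V i.down).ι ≫ f := by
      apply Limits.Sigma.hom_ext
      intro i
      simp [r₀]
    rw [this]
    have := fun i : ULift.{u} ι => hV i.down
    exact SigmaFinite.isFinite_sigmaDesc _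
  let π : pullback (r₀ ≫ f) T.ι ⟶ (T : Scheme.{u}) := pullback.snd _ _
  refine ⟨T, hu, pullback (r₀ ≫ f) T.ι, π, pullback.fst _ _ ≫ r₀, inferInstance, ?_, ?_⟩
  · refine ⟨fun t => ?_⟩
    have ht : T.ι.base t ∈ f.base '' (⋃ i, (V i : Set X')) := interior_subset t.2
    obtain ⟨x, hx, hxt⟩ := ht
    obtain ⟨i, hi⟩ := Set.mem_iUnion.1 hx
    obtain ⟨z, hz⟩ : ∃ z : Z, (r₀ ≫ f).base z = T.ι.base t := by
      refine ⟨(Sigma.ι (fun i : ULift.{u} ι => (V i.down : Scheme.{u})) ⟨i⟩).base ⟨x, hi⟩, ?_⟩
      rw [← Scheme.Hom.comp_apply, ← Category.assoc, Sigma.ι_desc, Scheme.Hom.comp_apply]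
      exact hxt
    obtain ⟨y, -, hy⟩ := Scheme.Pullback.exists_preimage_pullback z t hz
    exact ⟨y, hy⟩
  · rw [Category.assoc, pullback.condition]

theorem exists_finite_cover {S' S : Scheme.{u}} [IsLocallyNoetherian S] (g : S' ⟶ S)
    (hg : UnivSubmersive g) [LocallyOfFiniteType g] [QuasiCompact g] [LocallyQuasiFinite g]
    (s : S) : ∃ (T : Scheme.{u}) (q : T ⟶ S) (t : T) (Y : Scheme.{u}) (π : Y ⟶ T) (r : Y ⟶ S'),
      Etale q ∧ q.base t = s ∧ IsFinite π ∧ Surjective π ∧ r ≫ g = π ≫ q := by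
  -- the points of the fibre
  have hfin : (g.base ⁻¹' {s}).Finite := g.finite_preimage_singleton s
  obtain ⟨n, x, hx⟩ : ∃ (n : ℕ) (x : Fin n → S'), Set.range x = g.base ⁻¹' {s} := by
    obtain ⟨n, f, hf⟩ := Set.Finite.fin_param hfin
    exact ⟨n, f, hf.2⟩
  have hxs : ∀ i, g.base (x i) = s := fun i => by
    have : x i ∈ g.base ⁻¹' {s} := hx ▸ ⟨i, rfl⟩
    exact this
  obtain ⟨U, q, u, hu, H⟩ := Groth.Agent.Flat2D.EtNbhd.exists_forall_split g s x hxs
    (fun i => g.quasiFiniteAt (x i))
  choose V v hvV hVfin hvu hvun hvx hvb using H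
  have hq : Etale q := hu.etale
  have hqu : q.base u = s := hu.base_eq
  have hN : IsLocallyNoetherian U := LocallyOfFiniteType.isLocallyNoetherian q
  have hgU : UnivSubmersive (pullback.snd g q) := MorphismProperty.pullback_snd _ _ hg
  let W : (pullback g q).Opens := ⨆ i, V i
  have hWset : (W : Set ↑(pullback g q)) = ⋃ i, (V i : Set ↑(pullback g q)) := by
    simp [W]
  have hclosed : IsClosed ((pullback.snd g q).base '' (W : Set ↑(pullback g q))) := by
    rw [hWset, Set.image_iUnion]
    refine isClosed_iUnion_of_finite (fun i => ?_)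
    have : (pullback.snd g q).base '' (V i : Set ↑(pullback g q)) =
        Set.range ((V i).ι ≫ pullback.snd g q).base := by
      rw [Scheme.Hom.comp_base, TopCat.coe_comp, Set.range_comp, Scheme.Opens.range_ι]
    rw [this]
    have := hVfin i
    exact ((V i).ι ≫ pullback.snd g q).isClosedMap.isClosed_range
  have hmem := FinPartSurj.mem_interior_image (pullback.snd g q) hgU W hclosed u (by
    intro y hy
    have h1 : g.base ((pullback.fst g q).base y) = s := by
      rw [← Scheme.Hom.comp_apply, pullback.condition, Scheme.Hom.comp_apply, hy, hqu]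
    have h2 : (pullback.fst g q).base y ∈ Set.range x := by rw [hx]; exact h1
    obtain ⟨i, hi⟩ := h2
    obtain ⟨x', -, -, hun, -⟩ := Groth.Agent.Flat2D.EtNbhd.exists_unique_point
      (IsPullback.of_hasPullback g q) u (x i) ((hxs i).trans hqu.symm) hu.residue_bijective
    have e1 := hun y hi.symm hy
    have e2 := hun (v i) (hvx i) (hvu i)
    rw [e1, ← e2]
    exact TopologicalSpace.Opens.mem_iSup.2 ⟨i, hvV i⟩)
  rw [hWset] at hmem
  obtain ⟨T, huT, Y, π, r, h1, h2, h3⟩ := exists_finite_surjective (pullback.snd g q) V hVfin u hmem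
  refine ⟨T, T.ι ≫ q, ⟨u, huT⟩, Y, π, r ≫ pullback.fst g q, inferInstance, hqu, h1, h2, ?_⟩
  rw [Category.assoc, pullback.condition, ← Category.assoc, h3, Category.assoc]

end Groth.Agent.Sga1.QFCover
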