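import Groth.Agent.Sga1.TwoPoint
import Groth.Agent.Flat2D.EtNbhd5
import Mathlib.AlgebraicGeometry.Morphisms.QuasiFinite
import Mathlib.AlgebraicGeometry.Morphisms.Preimmersion
import Mathlib.AlgebraicGeometry.Noetherian

/-!
# Geometric part of the slicing argument for universally open morphisms
-/

set_option autoImplicit false
set_option maxHeartbeats 400000
set_option backward.isDefEq.respectTransparency false
open CategoryTheory CategoryTheory.Limits AlgebraicGeometry Opposite TopologicalSpace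
universe u

namespace Groth.Agent.Sga1.SliceGeom

open IsLocalRing

theorem residueFieldMap_bijective_of_isPreimmersion {X Y : Scheme.{u}} (f : X ⟶ Y)
    [IsPreimmersion f] (x : X) : Function.Bijective (f.residueFieldMap x) := by
  refine ⟨RingHom.injective (f.residueFieldMap x).hom, ?_⟩
  intro z
  obtain ⟨z', rfl⟩ := IsLocalRing.residue_surjective z
  obtain ⟨w, rfl⟩ := f.stalkMap_surjective x z'
  exact ⟨IsLocalRing.residue _ w, rfl⟩

/-- If `u` is in the closed set `Z` and one of its generizations is not, there is a map from the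
spectrum of a local ring with (at most) two primes, sending the closed point to `u` and the other
point outside `Z`. -/
theorem exists_two_point {U : Scheme.{u}} [IsLocallyNoetherian U] (Z : Set U) (hZ : IsClosed Z)
    (u' u : U) (h : u' ⤳ u) (hu' : u' ∉ Z) :
    ∃ (R₁ : CommRingCat.{u}) (_ : IsLocalRing R₁) (_ : IsNoetherianRing R₁) (j : Spec R₁ ⟶ U)
      (η : Spec R₁), j (closedPoint R₁) = u ∧
      Function.Bijective (j.residueFieldMap (closedPoint R₁)) ∧ j η ∉ Z ∧
      ∀ w : Spec R₁, w = η ∨ w = closedPoint R₁ := by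
  have hu'' : u' ∈ Set.range (U.fromSpecStalk u) := by
    rw [Scheme.range_fromSpecStalk]; exact h
  obtain ⟨p', hp'⟩ := hu''
  have hZ' : IsClosed ((U.fromSpecStalk u) ⁻¹' Z) := hZ.preimage (U.fromSpecStalk u).continuous
  obtain ⟨J, hJ⟩ := (PrimeSpectrum.isClosed_iff_zeroLocus_ideal _).1 hZ'
  have hmem : ∀ w : Spec (U.presheaf.stalk u), U.fromSpecStalk u w ∈ Z ↔ J ≤ w.asIdeal := by
    intro w
    have : w ∈ (U.fromSpecStalk u) ⁻¹' Z ↔ w ∈ PrimeSpectrum.zeroLocus (J : Set _) := by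
      rw [hJ]
    exact this
  obtain ⟨p, hp, hJp, hpq⟩ := TwoPoint.exists_prime_two_points J ⟨p'.asIdeal, p'.isPrime, by
    rw [← hmem, hp']; exact hu'⟩
  let R₁ : CommRingCat.{u} := CommRingCat.of (U.presheaf.stalk u ⧸ p)
  have hnt : Nontrivial (U.presheaf.stalk u ⧸ p) := Ideal.Quotient.nontrivial_iff.2 hp.ne_top
  have hloc : IsLocalRing R₁ := IsLocalRing.of_surjective' (Ideal.Quotient.mk p)
    Ideal.Quotient.mk_surjective
  have hnoeth : IsNoetherianRing R₁ := inferInstanceAs (IsNoetherianRing (U.presheaf.stalk u ⧸ p))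
  have hdom : IsDomain (U.presheaf.stalk u ⧸ p) := Ideal.Quotient.isDomain p
  let mk : U.presheaf.stalk u ⟶ R₁ := CommRingCat.ofHom (Ideal.Quotient.mk p)
  have : IsClosedImmersion (Spec.map mk) := IsClosedImmersion.spec_of_surjective _
    Ideal.Quotient.mk_surjective
  have hlh : IsLocalHom (Ideal.Quotient.mk p) :=
    IsLocalHom.of_surjective _ Ideal.Quotient.mk_surjective
  have h1 : Spec.map mk (closedPoint R₁) = closedPoint (U.presheaf.stalk u) :=
    IsLocalRing.comap_closedPoint (Ideal.Quotient.mk p)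
  let j : Spec R₁ ⟶ U := Spec.map mk ≫ U.fromSpecStalk u
  let η : Spec R₁ := (⟨⊥, Ideal.isPrime_bot⟩ : PrimeSpectrum (U.presheaf.stalk u ⧸ p))
  refine ⟨R₁, hloc, hnoeth, j, η, ?_, residueFieldMap_bijective_of_isPreimmersion j _, ?_, ?_⟩
  · rw [Scheme.Hom.comp_apply, h1, Scheme.fromSpecStalk_closedPoint]
  · rw [Scheme.Hom.comp_apply, hmem]
    intro h
    apply hJp
    refine h.trans ?_
    intro x hx
    have : Ideal.Quotient.mk p x ∈ (⊥ : Ideal (U.presheaf.stalk u ⧸ p)) := hx
    rwa [Ideal.mem_bot, Ideal.Quotient.eq_zero_iff_mem] at this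
  · intro w
    have hw := hpq (w.asIdeal.comap (Ideal.Quotient.mk p)) inferInstance (by
      intro x hx
      change Ideal.Quotient.mk p x ∈ w.asIdeal
      rw [Ideal.Quotient.eq_zero_iff_mem.2 hx]
      exact zero_mem _)
    have hinj := Ideal.comap_injective_of_surjective (Ideal.Quotient.mk p)
      Ideal.Quotient.mk_surjective
    rcases hw with hw | hw
    · left
      apply PrimeSpectrum.ext
      apply hinj
      rw [hw]
      change p = Ideal.comap (Ideal.Quotient.mk p) ⊥
      rw [← RingHom.ker, Ideal.mk_ker]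
    · right
      apply PrimeSpectrum.ext
      apply hinj
      rw [hw]
      exact congrArg PrimeSpectrum.asIdeal h1.symm

/-- Let `V` be an open of the base change of `i ≫ g` to `U`, with a unique point `v` over `u`, and
suppose that `j : Spec R₁ ⟶ U` hits `u` at the closed point `c`, and is outside the image of `V` at
the other points. Then the point of `X₁ = X ×_S Spec R₁` over `i y` and `c` has no generization in
`i(Y)`. -/
theorem eq_of_specializes {X S Y U : Scheme.{u}} (g : X ⟶ S) (i : Y ⟶ X) [IsClosedImmersion i]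
    (y : Y) (q : U ⟶ S) (u : U) (hq : Function.Bijective (q.residueFieldMap u))
    (hqu : g (i y) = q u)
    (V : (pullback (i ≫ g) q).Opens) (v : ↑(pullback (i ≫ g) q)) (hvV : v ∈ V)
    (hvu : pullback.snd (i ≫ g) q v = u) (hvy : pullback.fst (i ≫ g) q v = y)
    (hvun : ∀ w : ↑(pullback (i ≫ g) q), w ∈ V → pullback.snd (i ≫ g) q w = u → w = v)
    {T X₁ : Scheme.{u}} (j : T ⟶ U) (c : T) (hjc : j c = u)
    (hj : Function.Bijective (j.residueFieldMap c))
    (hT : ∀ w : T, w ≠ c → ∀ z ∈ V, pullback.snd (i ≫ g) q z ≠ j w)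
    (a : X₁ ⟶ X) (b : X₁ ⟶ T) (hpb : IsPullback a b g (j ≫ q)) (x₁ z : X₁) (hx₁ : a x₁ = i y)
    (hx₁c : b x₁ = c) (hz : a z ∈ Set.range i) (hzx : z ⤳ x₁) : z = x₁ := by
  have hY₁ : IsPullback (pullback.fst i a) (pullback.snd i a ≫ b) (i ≫ g) (j ≫ q) :=
    (IsPullback.paste_horiz (IsPullback.of_hasPullback i a).flip hpb.flip).flip
  obtain ⟨y', hy'⟩ := hz
  obtain ⟨wz, hwz1, hwz2⟩ := Scheme.Pullback.exists_preimage_pullback (f := i) (g := a) y' z hy'
  obtain ⟨w₁, hw₁1, hw₁2⟩ := Scheme.Pullback.exists_preimage_pullback (f := i) (g := a) y x₁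
    hx₁.symm
  have hspec : wz ⤳ w₁ := by
    have hci : IsClosedImmersion (pullback.snd i a) := inferInstance
    rw [← (pullback.snd i a).isClosedEmbedding.isInducing.specializes_iff, hwz2, hw₁2]
    exact hzx
  let τ : pullback i a ⟶ pullback (i ≫ g) q := pullback.lift (pullback.fst i a)
    (pullback.snd i a ≫ b ≫ j) (by
      have := hY₁.w
      simpa only [Category.assoc] using this)
  have hτ1 : τ ≫ pullback.fst (i ≫ g) q = pullback.fst i a := pullback.lift_fst _ _ _
  have hτ2 : τ ≫ pullback.snd (i ≫ g) q = pullback.snd i a ≫ b ≫ j := pullback.lift_snd _ _ _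
  have hτ1' : ∀ w, pullback.fst (i ≫ g) q (τ w) = pullback.fst i a w := fun w => by
    rw [← Scheme.Hom.comp_apply, hτ1]
  have hτ2' : ∀ w, pullback.snd (i ≫ g) q (τ w) = j (b (pullback.snd i a w)) := fun w => by
    rw [← Scheme.Hom.comp_apply, hτ2, Scheme.Hom.comp_apply, Scheme.Hom.comp_apply]
  have hyu : (i ≫ g) y = q u := by rw [Scheme.Hom.comp_apply, hqu]
  -- `τ w₁ = v`
  obtain ⟨v', -, -, hv'un, -⟩ := Groth.Agent.Flat2D.EtNbhd.exists_unique_point
    (IsPullback.of_hasPullback (i ≫ g) q) u y hyu hq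
  have hτw₁ : τ w₁ = v := by
    rw [hv'un (τ w₁) (by rw [hτ1', hw₁1]) (by rw [hτ2', hw₁2, hx₁c, hjc])]
    exact (hv'un v hvy hvu).symm
  have hw₁V : τ w₁ ∈ V := by rw [hτw₁]; exact hvV
  have hwzV : τ wz ∈ V := (hspec.map τ.continuous).mem_open V.2 hw₁V
  have hbz : b z = c := by
    by_contra hne
    refine hT (b z) hne (τ wz) hwzV ?_
    rw [hτ2', hwz2]
  have hτwz : τ wz = v := hvun _ hwzV (by rw [hτ2', hwz2, hbz, hjc])
  have hwzy : pullback.fst i a wz = y := by rw [← hτ1', hτwz, hvy]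
  -- uniqueness
  have hjq : Function.Bijective ((j ≫ q).residueFieldMap c) :=
    Groth.Agent.Flat2D.EtNbhd.residueFieldMap_comp_bijective hjc hj hq
  obtain ⟨w', -, -, hw'un, -⟩ := Groth.Agent.Flat2D.EtNbhd.exists_unique_point hY₁ c y (by
    rw [hyu, Scheme.Hom.comp_apply, hjc]) hjq
  have e1 := hw'un wz hwzy (by rw [Scheme.Hom.comp_apply, hwz2, hbz])
  have e2 := hw'un w₁ hw₁1 (by rw [Scheme.Hom.comp_apply, hw₁2, hx₁c])
  rw [← hwz2, e1, ← e2, hw₁2]

/-- A point isolated in its fibre is a point of quasi-finiteness. -/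
theorem quasiFiniteAt_of_isolated {Y S : Scheme.{u}} (f : Y ⟶ S) [LocallyOfFiniteType f] (y : Y)
    (W : Set Y) (hW : IsOpen W) (hyW : y ∈ W) (h : ∀ w ∈ W, f w = f y → w = y) :
    f.QuasiFiniteAt y := by
  rw [Scheme.Hom.quasiFiniteAt_iff_isOpen_singleton_asFiber, ← (f.fiberHomeo (f y)).isOpen_image]
  simp only [Set.image_singleton, Scheme.Hom.asFiber, Homeomorph.apply_symm_apply]
  refine isOpen_induced_iff.2 ⟨W, hW, ?_⟩
  ext ⟨w, hw⟩
  simp only [Set.mem_preimage, Set.mem_singleton_iff, Subtype.mk.injEq]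
  exact ⟨fun hwW => h w hwW hw, fun e => e ▸ hyW⟩

end Groth.Agent.Sga1.SliceGeom
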