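import Groth.Agent.Sga1.SliceAlg
import Groth.Agent.Sga1.SliceGeom
import Groth.Agent.Sga1.QFCover
import Groth.Agent.Flat2D.EtNbhd5
import Mathlib.AlgebraicGeometry.Morphisms.UniversallyOpen

/-!
# Universally open finite type morphisms over noetherian bases are dominated, etale locally on the
base, by finite surjective morphisms
-/

set_option autoImplicit false
set_option maxHeartbeats 400000
set_option backward.isDefEq.respectTransparency false
set_option backward.isDefEq.respectTransparency.types false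
open CategoryTheory CategoryTheory.Limits AlgebraicGeometry Opposite TopologicalSpace
open scoped TensorProduct
universe u

namespace Groth.Agent.Sga1.SliceCover

open IsLocalRing

theorem exists_residue_retract {R R₁ : CommRingCat.{u}} [IsLocalRing R₁] (φ : R ⟶ R₁) (p : Spec R)
    (h : Spec.map φ (closedPoint R₁) = p)
    (hb : Function.Bijective ((Spec.map φ).residueFieldMap (closedPoint R₁))) :
    ∃ ρ : R₁ →+* p.asIdeal.ResidueField, Function.Surjective ρ ∧
      (∀ r : R, ρ (φ.hom r) = algebraMap R p.asIdeal.ResidueField r) ∧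
      ∀ x ∈ maximalIdeal R₁, ρ x = 0 := by
  have h' : p.asIdeal = (closedPoint R₁).asIdeal.comap φ.hom := by
    rw [← h]; rfl
  have h1 := Groth.Agent.Flat2D.EtNbhd.residueFieldMap_SpecMap_eq φ p (closedPoint R₁) h h'
  have h2 : IsIso ((Spec.map φ).residueFieldMap (closedPoint R₁)) :=
    (ConcreteCategory.isIso_iff_bijective _).mpr hb
  have h3 : IsIso (CommRingCat.ofHom (Ideal.ResidueField.map p.asIdeal (closedPoint R₁).asIdeal
      φ.hom h')) := by
    rw [← h1]; infer_instance
  have h4 : Function.Bijective (Ideal.ResidueField.map p.asIdeal (closedPoint R₁).asIdeal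
      φ.hom h') := (ConcreteCategory.isIso_iff_bijective _).mp h3
  let e := RingEquiv.ofBijective _ h4
  have hmax : (closedPoint R₁).asIdeal.IsMaximal :=
    inferInstanceAs (maximalIdeal R₁).IsMaximal
  refine ⟨e.symm.toRingHom.comp (algebraMap R₁ (closedPoint R₁).asIdeal.ResidueField), ?_, ?_, ?_⟩
  · exact e.symm.surjective.comp (Ideal.algebraMap_residueField_surjective _)
  · intro r
    change e.symm (algebraMap R₁ _ (φ.hom r)) = _
    rw [RingEquiv.symm_apply_eq]
    exact (Ideal.ResidueField.map_algebraMap _ _ _ h' r).symm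
  · intro x hx
    change e.symm (algebraMap R₁ (closedPoint R₁).asIdeal.ResidueField x) = 0
    have : algebraMap R₁ (closedPoint R₁).asIdeal.ResidueField x = 0 :=
      Ideal.algebraMap_residueField_eq_zero.2 hx
    exact (congrArg e.symm this).trans (map_zero _)

/-- Generizations along an open map to a local scheme with two points. -/
theorem exists_generization {X T : Type*} [TopologicalSpace X] [TopologicalSpace T]
    [NoetherianSpace X] [QuasiSober X] (b : X → T) (hbc : Continuous b) (hb : IsOpenMap b)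
    (c η : T) (hc : IsClosed {c}) (hη : η ≠ c) (hηc : η ⤳ c) (Q : X) (hQ : b Q = c) :
    ∃ Q' : X, Q' ⤳ Q ∧ Q' ≠ Q := by
  have hmem : Q ∈ closure (b ⁻¹' {c}ᶜ) := by
    by_contra hcon
    have h1 : IsOpen (b '' (closure (b ⁻¹' {c}ᶜ))ᶜ) := hb _ isClosed_closure.isOpen_compl
    have h2 : c ∈ b '' (closure (b ⁻¹' {c}ᶜ))ᶜ := ⟨Q, hcon, hQ⟩
    obtain ⟨z, hz, hzη⟩ := hηc.mem_open h1 h2
    apply hz
    apply subset_closure
    change b z ∉ ({c} : Set T)
    rw [hzη]
    exact hη
  obtain ⟨Q', hQ', hQ'Q⟩ := FinPartSurj.exists_specializes_of_mem_closure _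
    (hc.isOpen_compl.preimage hbc) Q hmem
  refine ⟨Q', hQ'Q, fun h => ?_⟩
  rw [h] at hQ'
  exact hQ' hQ

/-- The key point: the image of a finite part of an etale localization of the slice is a
neighbourhood. -/
theorem exists_finite_cover_spec {R A : CommRingCat.{u}} [IsNoetherianRing R] (φ : R ⟶ A)
    [LocallyOfFiniteType (Spec.map φ)] [UniversallyOpen (Spec.map φ)] (s : Spec R)
    (hs : s ∈ Set.range (Spec.map φ)) :
    ∃ (T : Scheme.{u}) (q : T ⟶ Spec R) (t : T) (Y : Scheme.{u}) (π : Y ⟶ T) (r : Y ⟶ Spec A),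
      Etale q ∧ q t = s ∧ IsFinite π ∧ Surjective π ∧ r ≫ Spec.map φ = π ≫ q := by
  have hft : φ.hom.FiniteType := by
    rwa [← HasRingHomProperty.Spec_iff (P := @LocallyOfFiniteType)]
  algebraize [φ.hom]
  obtain ⟨m, hm, f, h, x, hxm, hcard, hfx, hhx, hxs, hiso⟩ := SliceAlg.exists_slice' (A := A) s hs
  let I : Ideal A := Ideal.span (f : Set A)
  let B : CommRingCat.{u} := CommRingCat.of (A ⧸ I)
  let i : Spec B ⟶ Spec A := Spec.map (CommRingCat.ofHom (Ideal.Quotient.mk I))
  have hi : IsClosedImmersion i := IsClosedImmersion.spec_of_surjective _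
    Ideal.Quotient.mk_surjective
  have hrange : Set.range i = PrimeSpectrum.zeroLocus (f : Set A) := by
    have := range_comap_of_surjective (A ⧸ I) (Ideal.Quotient.mk I)
      Ideal.Quotient.mk_surjective
    rw [Ideal.mk_ker, PrimeSpectrum.zeroLocus_span] at this
    exact this
  obtain ⟨y, hy⟩ : ∃ y, i y = x := by
    have : x ∈ Set.range i := by rw [hrange]; exact hfx
    exact this
  have hxs' : Spec.map φ x = s := hxs
  have hqf : (i ≫ Spec.map φ).QuasiFiniteAt y := by
    refine SliceGeom.quasiFiniteAt_of_isolated _ y (i ⁻¹' (PrimeSpectrum.basicOpen h).1)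
      ((PrimeSpectrum.basicOpen h).2.preimage i.continuous) ?_ ?_
    · change h ∉ (i y).asIdeal
      rw [hy]; exact hhx
    · intro w hw hws
      apply i.isClosedEmbedding.injective
      rw [hy]
      refine hiso _ ?_ ?_ hw
      · rw [Scheme.Hom.comp_apply, Scheme.Hom.comp_apply, hy, hxs'] at hws
        exact hws
      · have : i w ∈ Set.range i := ⟨w, rfl⟩
        rw [hrange] at this
        exact this
  obtain ⟨U, q, u, hu, V, v, hvV, hVfin, hvu, hvun, hvy, hvb⟩ :=
    Groth.Agent.Flat2D.EtNbhd.exists_split (i ≫ Spec.map φ) y hqf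
  have hq : Etale q := hu.etale
  have hqu : q u = s := by
    have h1 : q u = (i ≫ Spec.map φ) y := hu.base_eq
    rw [h1, Scheme.Hom.comp_apply, hy, hxs']
  have hN : IsLocallyNoetherian (Spec R) := inferInstance
  have hNU : IsLocallyNoetherian U := LocallyOfFiniteType.isLocallyNoetherian q
  -- the image of `V` is closed
  have himg : (pullback.snd (i ≫ Spec.map φ) q).base '' (V : Set _) =
      Set.range (V.ι ≫ pullback.snd (i ≫ Spec.map φ) q).base := by
    rw [Scheme.Hom.comp_base, TopCat.coe_comp, Set.range_comp, Scheme.Opens.range_ι]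
  have hclosed : IsClosed ((pullback.snd (i ≫ Spec.map φ) q).base '' (V : Set _)) := by
    rw [himg]
    exact (V.ι ≫ pullback.snd (i ≫ Spec.map φ) q).isClosedMap.isClosed_range
  have huZ : u ∈ (pullback.snd (i ≫ Spec.map φ) q).base '' (V : Set _) := ⟨v, hvV, hvu⟩
  have hint : u ∈ interior ((pullback.snd (i ≫ Spec.map φ) q).base '' (V : Set _)) := by
    refine FinPartSurj.mem_interior_of_generizations _ hclosed u (fun u' hu' => ?_)
    by_contra hcon
    obtain ⟨R₁, hloc, hnoeth, j, η, hjc, hjb, hjη, hT⟩ :=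
      SliceGeom.exists_two_point _ hclosed u' u hu' hcon
    obtain ⟨ψ, hψ⟩ : ∃ ψ : R ⟶ R₁, Spec.map ψ = j ≫ q := ⟨Spec.preimage _, Spec.map_preimage _⟩
    have hψc : Spec.map ψ (closedPoint R₁) = s := by
      rw [hψ, Scheme.Hom.comp_apply, hjc, hqu]
    have hψb : Function.Bijective ((Spec.map ψ).residueFieldMap (closedPoint R₁)) :=
      Groth.Agent.Flat2D.EtNbhd.residueFieldMap_bijective_congr hψ.symm _
        (Groth.Agent.Flat2D.EtNbhd.residueFieldMap_comp_bijective hjc hjb hu.residue_bijective)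
    obtain ⟨ρ, hρs, hρR, hρ0⟩ := exists_residue_retract ψ s hψc hψb
    algebraize [ψ.hom]
    let ρ' : R₁ →ₐ[R] s.asIdeal.ResidueField := { ρ with commutes' := hρR }
    let θ : R₁ ⊗[R] A →ₐ[R] s.asIdeal.Fiber A := Algebra.TensorProduct.map ρ' (AlgHom.id R A)
    have hθs : Function.Surjective θ := by
      exact TensorProduct.map_surjective (g := ρ'.toLinearMap) (g' := LinearMap.id) hρs
        Function.surjective_id
    have hθR : ∀ a : A, θ ((1 : R₁) ⊗ₜ[R] a) = (1 : s.asIdeal.ResidueField) ⊗ₜ[R] a := by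
      intro a
      simp [θ]
    have hθL : ∀ r ∈ maximalIdeal R₁, θ (r ⊗ₜ[R] (1 : A)) = 0 := by
      intro r hr
      have : ρ' r = 0 := hρ0 r hr
      simp [θ, this]
    -- the base change
    let A₁ : CommRingCat.{u} := CommRingCat.of (R₁ ⊗[R] A)
    let b : Spec A₁ ⟶ Spec R₁ := Spec.map (CommRingCat.ofHom (S := R₁ ⊗[R] A)
      Algebra.TensorProduct.includeLeftRingHom)
    let a : Spec A₁ ⟶ Spec A := Spec.map (CommRingCat.ofHom (S := R₁ ⊗[R] A)
      (Algebra.TensorProduct.includeRight : A →ₐ[R] R₁ ⊗[R] A).toRingHom)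
    have hpb : IsPullback a b (Spec.map φ) (Spec.map ψ) :=
      (isPullback_SpecMap_of_isPushout _ _ _ _
        (CommRingCat.isPushout_tensorProduct R R₁ A)).flip
    have hbuo : UniversallyOpen b := MorphismProperty.of_isPullback hpb inferInstance
    have hA₁ : IsNoetherianRing (R₁ ⊗[R] A) := Algebra.FiniteType.isNoetherianRing R₁ _
    have hF : IsNoetherianRing (s.asIdeal.Fiber A) :=
      Algebra.FiniteType.isNoetherianRing s.asIdeal.ResidueField _
    have hηc : η ≠ closedPoint R₁ := by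
      intro h
      apply hjη
      rw [h, hjc]
      exact huZ
    have hbQ : ∀ Q : PrimeSpectrum (R₁ ⊗[R] A), RingHom.ker θ.toRingHom ≤ Q.asIdeal →
        b Q = closedPoint R₁ := by
      intro Q hQ
      apply PrimeSpectrum.ext
      symm
      refine Ideal.IsMaximal.eq_of_le (inferInstanceAs (maximalIdeal R₁).IsMaximal)
        (b Q).isPrime.ne_top (fun r hr => ?_)
      exact hQ (hθL r hr)
    have hgd : ∀ Q : PrimeSpectrum (R₁ ⊗[R] A), RingHom.ker θ.toRingHom ≤ Q.asIdeal →
        ∃ Q' : PrimeSpectrum (R₁ ⊗[R] A), Q' < Q := by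
      intro Q hQ
      obtain ⟨Q', hQ'1, hQ'2⟩ := exists_generization (X := PrimeSpectrum (R₁ ⊗[R] A))
        (T := PrimeSpectrum R₁) b b.continuous b.isOpenMap
        (closedPoint R₁) η ((PrimeSpectrum.isClosed_singleton_iff_isMaximal _).2
          (inferInstanceAs (maximalIdeal R₁).IsMaximal)) hηc
          (IsLocalRing.specializes_closedPoint η) Q (hbQ Q hQ)
      exact ⟨Q', lt_of_le_of_ne ((PrimeSpectrum.le_iff_specializes _ _).2 hQ'1) hQ'2⟩
    classical
    let f₁ : Finset (R₁ ⊗[R] A) := f.image (fun a => (1 : R₁) ⊗ₜ[R] a)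
    have hf₁ : (f₁.card : ℕ∞) ≤ m.height := by
      refine le_trans ?_ hcard
      exact_mod_cast Finset.card_image_le
    refine SliceAlg.not_minimal θ.toRingHom hθs m hgd f₁ hf₁ ?_
    let x₁ : PrimeSpectrum (R₁ ⊗[R] A) := ⟨m.comap θ.toRingHom, inferInstance⟩
    have hax₁ : a x₁ = x := by
      apply PrimeSpectrum.ext
      rw [hxm]
      ext r
      change θ ((1 : R₁) ⊗ₜ[R] r) ∈ m ↔ (1 : s.asIdeal.ResidueField) ⊗ₜ[R] r ∈ m
      rw [hθR]
    have hker : RingHom.ker θ.toRingHom ≤ x₁.asIdeal := by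
      intro z hz
      change θ z ∈ m
      have : θ z = 0 := hz
      rw [this]; exact zero_mem _
    refine ⟨⟨inferInstance, ?_⟩, ?_⟩
    · rw [Ideal.span_le]
      intro z hz
      obtain ⟨r, hr, rfl⟩ := Finset.mem_image.1 hz
      have h1 : r ∈ x.asIdeal := hfx hr
      rw [← hax₁] at h1
      exact h1
    · rintro Q ⟨hQ, hfQ⟩ hQx
      have key := SliceGeom.eq_of_specializes (Spec.map φ) i y q u hu.residue_bijective
        (by rw [hy, hxs', hqu]) V v hvV hvu hvy hvun j (closedPoint R₁) hjc hjb (by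
          intro w hw z hz hzw
          rcases hT w with h | h
          · apply hjη
            rw [← h, ← hzw]
            exact ⟨z, hz, rfl⟩
          · exact hw h) a b (hψ ▸ hpb) x₁ (⟨Q, hQ⟩ : PrimeSpectrum (R₁ ⊗[R] A))
          (by rw [hax₁, hy]) (hbQ x₁ hker) (by
            rw [hrange]
            intro r hr
            exact hfQ (Ideal.subset_span (Finset.mem_image_of_mem _ hr)))
          ((PrimeSpectrum.le_iff_specializes _ _).1 hQx)
      exact (congrArg PrimeSpectrum.asIdeal key).ge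
  obtain ⟨T, huT, Y, π, r, h1, h2, h3⟩ := QFCover.exists_finite_surjective
    (pullback.snd (i ≫ Spec.map φ) q) (fun _ : Unit => V) (fun _ => hVfin) u (by
      rw [Set.iUnion_const]; exact hint)
  refine ⟨T, T.ι ≫ q, ⟨u, huT⟩, Y, π, r ≫ pullback.fst (i ≫ Spec.map φ) q ≫ i, inferInstance,
    hqu, h1, h2, ?_⟩
  rw [Category.assoc, Category.assoc, pullback.condition, ← Category.assoc, h3, Category.assoc]

theorem universallyOpen_of_comp_mono {X Y Z : Scheme.{u}} (f : X ⟶ Y) (i : Y ⟶ Z) [Mono i]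
    [UniversallyOpen (f ≫ i)] : UniversallyOpen f := by
  have h : IsPullback f (𝟙 X) i (f ≫ i) := by
    have h1 : IsPullback f (𝟙 X) (𝟙 Y) f := IsPullback.of_vert_isIso ⟨by simp⟩
    have h2 := h1.paste_horiz (IsKernelPair.id_of_mono i)
    rwa [Category.comp_id] at h2
  exact MorphismProperty.of_isPullback h.flip inferInstance

/-- A surjective universally open morphism of finite type with locally noetherian target is
dominated, etale locally on the target, by a finite surjective morphism. -/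
theorem exists_finite_cover {S' S : Scheme.{u}} [IsLocallyNoetherian S] (g : S' ⟶ S)
    [LocallyOfFiniteType g] [Surjective g] [UniversallyOpen g] (s : S) :
    ∃ (T : Scheme.{u}) (q : T ⟶ S) (t : T) (Y : Scheme.{u}) (π : Y ⟶ T) (r : Y ⟶ S'),
      Etale q ∧ q t = s ∧ IsFinite π ∧ Surjective π ∧ r ≫ g = π ≫ q := by
  obtain ⟨x, hx⟩ := g.surjective s
  obtain ⟨_, ⟨U, hU, rfl⟩, hsU, -⟩ := S.isBasis_affineOpens.exists_subset_of_mem_open
    (Set.mem_univ s) isOpen_univ
  have hxU : x ∈ g ⁻¹ᵁ U := by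
    change g x ∈ U
    rw [hx]; exact hsU
  obtain ⟨_, ⟨V, hV, rfl⟩, hxV, hVU : V ≤ g ⁻¹ᵁ U⟩ :=
    S'.isBasis_affineOpens.exists_subset_of_mem_open hxU (g ⁻¹ᵁ U).2
  have hR : IsNoetherianRing Γ(S, U) := IsLocallyNoetherian.component_noetherian ⟨U, hU⟩
  have hcomm : Spec.map (g.appLE U V hVU) ≫ hU.fromSpec = hV.fromSpec ≫ g :=
    IsAffineOpen.SpecMap_appLE_fromSpec ..
  have huo : UniversallyOpen (Spec.map (g.appLE U V hVU)) := by
    have : UniversallyOpen (Spec.map (g.appLE U V hVU) ≫ hU.fromSpec) := by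
      rw [hcomm]; infer_instance
    exact universallyOpen_of_comp_mono _ hU.fromSpec
  have hft : LocallyOfFiniteType (Spec.map (g.appLE U V hVU)) := by
    rw [HasRingHomProperty.Spec_iff (P := @LocallyOfFiniteType)]
    exact g.finiteType_appLE hU hV hVU
  have hs' : hU.primeIdealOf ⟨s, hsU⟩ ∈ Set.range (Spec.map (g.appLE U V hVU)) := by
    refine ⟨hV.primeIdealOf ⟨x, hxV⟩, ?_⟩
    apply hU.fromSpec.isOpenEmbedding.injective
    rw [← Scheme.Hom.comp_apply, hcomm, Scheme.Hom.comp_apply, hV.fromSpec_primeIdealOf,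
      hU.fromSpec_primeIdealOf]
    exact hx
  obtain ⟨T, q, t, Y, π, r, h1, h2, h3, h4, h5⟩ := exists_finite_cover_spec _ _ hs'
  refine ⟨T, q ≫ hU.fromSpec, t, Y, π, r ≫ hV.fromSpec, inferInstance, ?_, h3, h4, ?_⟩
  · rw [Scheme.Hom.comp_apply, h2, hU.fromSpec_primeIdealOf]
  · rw [Category.assoc, ← hcomm, ← Category.assoc, h5, Category.assoc]

end Groth.Agent.Sga1.SliceCover
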