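import Groth.Agent.Sga1.StableAffine
import Mathlib.AlgebraicGeometry.Morphisms.OpenImmersion
import Mathlib.AlgebraicGeometry.Cover.Directed

/-!
# Existence of quotients by finite groups (SGA 1 V 1.8)
-/

set_option autoImplicit false
set_option linter.style.haveILetI false

universe u

open CategoryTheory CategoryTheory.Limits AlgebraicGeometry

namespace Groth.Agent.Sga1.QuotExists

open Groth.Agent.Sga1.QuotBasic Groth.Agent.Sga1.StableAffine

variable {X : Scheme.{u}} {G : Type u} [Group G] {ρ : G →* Aut X}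

/-- The invariant sections over a stable open. -/
noncomputable def invSub {U : X.Opens} (hU : Stable ρ U) : Subring Γ(X, U) where
  carrier := {s | ∀ g, (act ρ hU g).hom s = s}
  mul_mem' ha hb g := by rw [map_mul, ha g, hb g]
  one_mem' g := map_one _
  add_mem' ha hb g := by rw [map_add, ha g, hb g]
  zero_mem' g := map_zero _
  neg_mem' ha g := by rw [map_neg, ha g]

theorem mem_invSub {U : X.Opens} (hU : Stable ρ U) (s : Γ(X, U)) :
    s ∈ invSub hU ↔ ∀ g, (act ρ hU g).hom s = s := Iff.rfl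

theorem isUnit_invSub {U : X.Opens} (hU : Stable ρ U) (s : invSub hU) (h : IsUnit (s : Γ(X, U))) :
    IsUnit s := by
  obtain ⟨w, hw⟩ := h
  have hwi : (↑w⁻¹ : Γ(X, U)) ∈ invSub hU := by
    intro g
    have h1 : (act ρ hU g).hom (w : Γ(X, U)) = w := by rw [hw]; exact s.2 g
    have h2 : (w : Γ(X, U)) * (act ρ hU g).hom (↑w⁻¹ : Γ(X, U)) = 1 :=
      calc (w : Γ(X, U)) * (act ρ hU g).hom (↑w⁻¹ : Γ(X, U))
          = (act ρ hU g).hom (w : Γ(X, U)) * (act ρ hU g).hom (↑w⁻¹ : Γ(X, U)) := by rw [h1]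
        _ = 1 := by rw [← map_mul, Units.mul_inv, map_one]
    exact (Units.eq_inv_of_mul_eq_one_left h2)
  refine IsUnit.of_mul_eq_one ⟨_, hwi⟩ ?_
  apply Subtype.ext
  change (s : Γ(X, U)) * ↑w⁻¹ = 1
  rw [← hw, Units.mul_inv]

/-- Restriction of invariant sections. -/
noncomputable def resInv {U V : X.Opens} (hU : Stable ρ U) (hV : Stable ρ V) (i : V ≤ U) :
    invSub hU →+* invSub hV :=
  ((X.presheaf.map (homOfLE i).op).hom.comp (invSub hU).subtype).codRestrict (invSub hV) (by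
    intro s g
    change (act ρ hV g).hom ((X.presheaf.map (homOfLE i).op).hom s.1) = _
    rw [← act_res_apply hU hV i g, s.2 g]
    rfl)

theorem resInv_coe {U V : X.Opens} (hU : Stable ρ U) (hV : Stable ρ V) (i : V ≤ U) (s : invSub hU) :
    (resInv hU hV i s : Γ(X, V)) = (X.presheaf.map (homOfLE i).op).hom s := rfl

theorem resInv_self {U : X.Opens} (hU : Stable ρ U) : resInv hU hU le_rfl = RingHom.id _ := by
  ext s
  rw [resInv_coe]
  exact congrArg (fun k => k.hom (s : Γ(X, U))) (X.presheaf.map_id _)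

theorem resInv_comp {U V W : X.Opens} (hU : Stable ρ U) (hV : Stable ρ V) (hW : Stable ρ W)
    (i : V ≤ U) (j : W ≤ V) :
    (resInv hV hW j).comp (resInv hU hV i) = resInv hU hW (j.trans i) := by
  ext s
  change (X.presheaf.map (homOfLE j).op).hom ((X.presheaf.map (homOfLE i).op).hom s) = _
  rw [← CommRingCat.comp_apply, ← Functor.map_comp]
  rfl

/-- Localization of the invariants: `Γ(D(f))^G = (Γ(U)^G)_f`. -/
theorem isLocalization_invSub [Finite G] {U : X.Opens} (hU : Stable ρ U) (hUa : IsAffineOpen U)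
    (f : invSub hU) (hD : Stable ρ (X.basicOpen (f : Γ(X, U)))) :
    letI := (resInv hU hD (X.basicOpen_le _)).toAlgebra
    IsLocalization.Away f (invSub hD) := by
  letI := (resInv hU hD (X.basicOpen_le _)).toAlgebra
  have hu : IsUnit (resInv hU hD (X.basicOpen_le _) f) := by
    apply isUnit_invSub
    exact RingedSpace.isUnit_res_basicOpen _ _
  let ψ : Localization.Away f →+* invSub hD := IsLocalization.Away.lift f hu
  have hψ : ∀ s, ψ (algebraMap _ _ s) = resInv hU hD (X.basicOpen_le _) s :=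
    IsLocalization.Away.lift_eq f hu
  have key := bijective_invariants_of_away (invSub hU).subtype ((invSub hD).subtype.comp ψ)
    (algebraMap (invSub hU) (Localization.Away f)) (X.presheaf.map (homOfLE (X.basicOpen_le _)).op).hom
    (by
      ext s
      exact congrArg Subtype.val (hψ s)) f (by
        have : (algebraMap (invSub hU) (Localization.Away f)).toAlgebra =
            (inferInstance : Algebra (invSub hU) (Localization.Away f)) :=
          Algebra.algebra_ext _ _ (fun _ => rfl)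
        rw [this]
        infer_instance) (hUa.isLocalization_basicOpen (f : Γ(X, U)))
    (fun g : G => (act ρ hU g).hom) (fun g : G => (act ρ hD g).hom)
    (fun g => by
      rw [← CommRingCat.hom_comp, ← CommRingCat.hom_comp]
      exact congrArg (fun k => k.hom) (act_res hU hD (X.basicOpen_le _) g).symm)
    (fun g a => a.2 g) Subtype.val_injective (fun b hb => ⟨⟨b, hb⟩, rfl⟩)
  have hinj : Function.Injective ψ := fun a b hab => key.1 (congrArg (invSub hD).subtype hab)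
  have hsurj : Function.Surjective ψ := by
    intro s
    obtain ⟨a, ha⟩ := key.2 s.1 s.2
    exact ⟨a, Subtype.ext ha⟩
  let e : Localization.Away f ≃ₐ[invSub hU] invSub hD :=
    AlgEquiv.ofBijective { ψ with commutes' := hψ } ⟨hinj, hsurj⟩
  exact IsLocalization.isLocalization_of_algEquiv (Submonoid.powers f) e

/-! ## The local quotients -/

variable (ρ) in
/-- Stable affine opens. -/
abbrev Idx : Type u := {U : X.Opens // IsAffineOpen U ∧ Stable ρ U}

/-- The affine quotient of a stable affine open. -/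
noncomputable abbrev Q (U : Idx ρ) : Scheme.{u} := Spec (CommRingCat.of (invSub U.2.2))

/-- The quotient map of a stable affine open. -/
noncomputable def pm (U : Idx ρ) : (U.1 : Scheme.{u}) ⟶ Q U :=
  U.1.toSpecΓ ≫ Spec.map (CommRingCat.ofHom (invSub U.2.2).subtype)

/-- The transition maps. -/
noncomputable def tr {V U : Idx ρ} (i : V ≤ U) : Q V ⟶ Q U :=
  Spec.map (CommRingCat.ofHom (resInv U.2.2 V.2.2 i))

theorem tr_self (U : Idx ρ) : tr (le_refl U) = 𝟙 _ := by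
  unfold tr
  rw [resInv_self]
  exact Spec.map_id _

theorem tr_comp {W V U : Idx ρ} (j : W ≤ V) (i : V ≤ U) : tr j ≫ tr i = tr (j.trans i) := by
  unfold tr
  rw [← Spec.map_comp, ← CommRingCat.ofHom_comp, resInv_comp]

theorem homOfLE_pm {V U : Idx ρ} (i : V ≤ U) : X.homOfLE i ≫ pm U = pm V ≫ tr i := by
  unfold pm tr
  rw [← Scheme.Opens.toSpecΓ_SpecMap_presheaf_map_assoc _ _ i, Category.assoc, ← Spec.map_comp,
    ← Spec.map_comp]
  rfl

variable (ρ) in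
/-- The diagram of affine quotients. -/
noncomputable def F : Idx ρ ⥤ Scheme.{u} where
  obj U := Q U
  map i := tr (leOfHom i)
  map_id U := tr_self U
  map_comp i j := (tr_comp (leOfHom i) (leOfHom j)).symm

theorem isInvariant_invSub {U : X.Opens} (hU : Stable ρ U) :
    letI := mulSemiringAction ρ hU
    Algebra.IsInvariant (invSub hU) Γ(X, U) G := by
  letI := mulSemiringAction ρ hU
  exact ⟨fun b hb => ⟨⟨b, (forall_smul_iff ρ hU b).mp hb⟩, rfl⟩⟩

theorem smulCommClass_invSub {U : X.Opens} (hU : Stable ρ U) :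
    letI := mulSemiringAction ρ hU
    SMulCommClass G (invSub hU) Γ(X, U) := by
  letI := mulSemiringAction ρ hU
  refine ⟨fun g a b => ?_⟩
  rw [Algebra.smul_def, Algebra.smul_def, smul_mul']
  congr 1
  exact a.2 g⁻¹

variable [Finite G]

theorem isIntegral_invSub {U : X.Opens} (hU : Stable ρ U) : (invSub hU).subtype.IsIntegral := by
  letI := mulSemiringAction ρ hU
  haveI := isInvariant_invSub hU
  exact algebraMap_isIntegral_iff.mpr
    (Algebra.IsInvariant.isIntegral (invSub hU) Γ(X, U) G)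

instance pm_surjective (U : Idx ρ) : Surjective (pm U) := by
  have : IsAffine (U.1 : Scheme.{u}) := U.2.1
  have h1 : IsIso U.1.toSpecΓ := by
    rw [← U.2.1.isoSpec_hom]
    infer_instance
  have h2 : Surjective (Spec.map (CommRingCat.ofHom (invSub U.2.2).subtype)) :=
    ⟨(isIntegral_invSub U.2.2).comap_surjective Subtype.val_injective⟩
  unfold pm
  infer_instance

theorem pm_apply_eq_iff (U : Idx ρ) (z z' : (U.1 : Scheme.{u})) :
    pm U z = pm U z' ↔ ∃ g : G, (ρ g).hom z.1 = z'.1 := by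
  letI := mulSemiringAction ρ U.2.2
  haveI := isInvariant_invSub U.2.2
  haveI := smulCommClass_invSub U.2.2
  have hU := U.2.1
  have e0 : ∀ z : (U.1 : Scheme.{u}), pm U z =
      (hU.primeIdealOf z).comap (invSub U.2.2).subtype := by
    intro z
    have : hU.primeIdealOf z = U.1.toSpecΓ z := by
      rw [← hU.isoSpec_hom]; rfl
    rw [this]
    rfl
  have e4 : ∀ (g : G) (z : (U.1 : Scheme.{u})), (hU.primeIdealOf z).comap (act ρ U.2.2 g).hom =
      hU.primeIdealOf ⟨(ρ g).hom z.1, U.2.2 g z.2⟩ := fun g z =>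
    IsAffineOpen.comap_primeIdealOf_appLE (f := (ρ g).hom) (x := z.1) U.1 hU U.1 hU (U.2.2 g) z.2
  constructor
  · intro h
    rw [e0, e0] at h
    obtain ⟨g, hg⟩ := Algebra.IsInvariant.exists_smul_of_under_eq (invSub U.2.2) Γ(X, U.1) G
      (hU.primeIdealOf z).asIdeal (hU.primeIdealOf z').asIdeal (congrArg PrimeSpectrum.asIdeal h)
    refine ⟨g, ?_⟩
    apply eq_of_primeIdealOf_eq hU (U.2.2 g z.2) z'.2
    rw [← e4 g z]
    ext a
    change _ ↔ a ∈ (hU.primeIdealOf z').asIdeal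
    rw [hg, Ideal.mem_pointwise_smul_iff_inv_smul_mem]
    change (act ρ U.2.2 g).hom a ∈ (hU.primeIdealOf z).asIdeal ↔
      (act ρ U.2.2 g⁻¹⁻¹).hom a ∈ (hU.primeIdealOf z).asIdeal
    rw [inv_inv]
  · rintro ⟨g, hg⟩
    rw [e0, e0]
    have : hU.primeIdealOf z' = (hU.primeIdealOf z).comap (act ρ U.2.2 g).hom := by
      rw [e4]
      congr 1
      exact Subtype.ext hg.symm
    rw [this]
    refine PrimeSpectrum.ext (Ideal.ext fun a => ?_)
    change _ ↔ (act ρ U.2.2 g).hom a.1 ∈ (hU.primeIdealOf z).asIdeal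
    rw [a.2 g]
    rfl

/-! ## The transition maps are open immersions -/

omit [Finite G] in
theorem tr_pm_apply {V U : Idx ρ} (i : V ≤ U) (z : (V.1 : Scheme.{u})) :
    tr i (pm V z) = pm U (X.homOfLE i z) := by
  rw [← Scheme.Hom.comp_apply, ← Scheme.Hom.comp_apply, homOfLE_pm]

theorem isOpenImmersion_tr_of_eq {D U : Idx ρ} (i : D ≤ U) (f : invSub U.2.2)
    (hD : D.1 = X.basicOpen (f : Γ(X, U.1))) : IsOpenImmersion (tr i) := by
  obtain ⟨D, hDa, hDs⟩ := D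
  subst hD
  letI := (resInv U.2.2 hDs (X.basicOpen_le _)).toAlgebra
  haveI := isLocalization_invSub U.2.2 U.2.1 f hDs
  exact IsOpenImmersion.of_isLocalization (R := invSub U.2.2) (S := invSub hDs) f

theorem exists_idx_basicOpen {V U : Idx ρ} (i : V ≤ U) {x : X} (hx : x ∈ V.1) :
    ∃ (D : Idx ρ) (j : D ≤ V), x ∈ D.1 ∧ IsOpenImmersion (tr j) ∧ IsOpenImmersion (tr (j.trans i)) := by
  obtain ⟨f, hf1, hf2, hf3⟩ := exists_invariant_basicOpen U.2.1 U.2.2 V.2.2 (i hx) hx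
  have hDs : Stable ρ (X.basicOpen f) := stable_basicOpen ρ U.2.2 f hf1
  let D : Idx ρ := ⟨X.basicOpen f, U.2.1.basicOpen f, hDs⟩
  refine ⟨D, hf3, hf2, ?_, ?_⟩
  · refine isOpenImmersion_tr_of_eq (D := D) hf3 (resInv U.2.2 V.2.2 i ⟨f, hf1⟩) ?_
    change X.basicOpen f = X.basicOpen ((X.presheaf.map (homOfLE i).op).hom f)
    rw [Scheme.basicOpen_res]
    exact (inf_eq_right.mpr hf3).symm
  · exact isOpenImmersion_tr_of_eq (D := D) _ ⟨f, hf1⟩ rfl

omit [Finite G] in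
theorem homOfLE_apply_coe {V U : X.Opens} (i : V ≤ U) (w : (V : Scheme.{u})) :
    (X.homOfLE i w).1 = w.1 :=
  congrArg (fun k : (V : Scheme.{u}) ⟶ X => k w) (X.homOfLE_ι i)

theorem tr_injective {V U : Idx ρ} (i : V ≤ U) : Function.Injective (tr i) := by
  intro y y' h
  obtain ⟨z, rfl⟩ := (pm V).surjective y
  obtain ⟨z', rfl⟩ := (pm V).surjective y'
  rw [tr_pm_apply, tr_pm_apply, pm_apply_eq_iff] at h
  rw [pm_apply_eq_iff]
  obtain ⟨g, hg⟩ := h
  refine ⟨g, ?_⟩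
  rw [homOfLE_apply_coe, homOfLE_apply_coe] at hg
  exact hg

instance isOpenImmersion_tr {V U : Idx ρ} (i : V ≤ U) : IsOpenImmersion (tr i) := by
  refine IsOpenImmersion.of_forall_source_exists (tr i) (tr_injective i) (fun y => ?_)
  obtain ⟨z, rfl⟩ := (pm V).surjective y
  obtain ⟨D, j, hz, h1, h2⟩ := exists_idx_basicOpen i z.2
  refine ⟨Q D, tr j, h1, ⟨pm D ⟨z.1, hz⟩, ?_⟩, ?_⟩
  · rw [tr_pm_apply]
    congr 1
    apply Subtype.ext
    exact homOfLE_apply_coe j _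
  · rw [tr_comp]; exact h2

instance isOpenImmersion_F_map {V U : Idx ρ} (i : V ⟶ U) : IsOpenImmersion ((F ρ).map i) :=
  isOpenImmersion_tr (leOfHom i)

theorem exists_idx_le_le {U₁ U₂ : Idx ρ} {x : X} (h₁ : x ∈ U₁.1) (h₂ : x ∈ U₂.1) :
    ∃ (D : Idx ρ), D ≤ U₁ ∧ D ≤ U₂ ∧ x ∈ D.1 := by
  obtain ⟨V, hV1, hV2, hV3, hV4, -⟩ := exists_stable_affine (x := x) U₁.2.1
    (fun g => U₁.2.2.apply_mem g h₁) (U₁.2.2.inf U₂.2.2) ⟨h₁, h₂⟩
  exact ⟨⟨V, hV1, hV2⟩, fun z hz => (hV4 hz).1, fun z hz => (hV4 hz).2, hV3⟩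

instance isLocallyDirected_F : ((F ρ) ⋙ Scheme.forget).IsLocallyDirected where
  cond {U₁ U₂ U} i₁ i₂ x₁ x₂ h := by
    obtain ⟨z₁, rfl⟩ := (pm U₁).surjective x₁
    obtain ⟨z₂, rfl⟩ := (pm U₂).surjective x₂
    have h' : tr (leOfHom i₁) (pm U₁ z₁) = tr (leOfHom i₂) (pm U₂ z₂) := h
    rw [tr_pm_apply, tr_pm_apply, pm_apply_eq_iff, homOfLE_apply_coe, homOfLE_apply_coe] at h'
    obtain ⟨g, hg⟩ := h'
    have hz₁ : z₁.1 ∈ U₂.1 := (U₂.2.2.apply_mem_iff g).mp (hg ▸ z₂.2)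
    obtain ⟨D, hD₁, hD₂, hD⟩ := exists_idx_le_le z₁.2 hz₁
    refine ⟨D, homOfLE hD₁, homOfLE hD₂, pm D ⟨z₁.1, hD⟩, ?_, ?_⟩
    · change tr hD₁ (pm D ⟨z₁.1, hD⟩) = _
      rw [tr_pm_apply]
      congr 1
      exact Subtype.ext (homOfLE_apply_coe _ _)
    · change tr hD₂ (pm D ⟨z₁.1, hD⟩) = _
      rw [tr_pm_apply, pm_apply_eq_iff]
      exact ⟨g, by rw [homOfLE_apply_coe]; exact hg⟩

/-! ## Gluing -/

variable (ρ) in
/-- The quotient. -/
noncomputable def Y : Scheme.{u} := colimit (F ρ)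

/-- The inclusions of the pieces. -/
noncomputable def inc (U : Idx ρ) : Q U ⟶ Y ρ := colimit.ι (F ρ) U

instance isOpenImmersion_inc (U : Idx ρ) : IsOpenImmersion (inc U) :=
  inferInstanceAs (IsOpenImmersion (colimit.ι (F ρ) U))

theorem tr_inc {V U : Idx ρ} (i : V ≤ U) : tr i ≫ inc U = inc V :=
  colimit.w (F ρ) (homOfLE i)

theorem inc_jointly_surjective (y : Y ρ) : ∃ (U : Idx ρ) (x : Q U), inc U x = y :=
  Scheme.IsLocallyDirected.ι_jointly_surjective (F ρ) y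

theorem inc_eq_inc_iff {U₁ U₂ : Idx ρ} (x₁ : Q U₁) (x₂ : Q U₂) :
    inc U₁ x₁ = inc U₂ x₂ ↔ ∃ (D : Idx ρ) (i₁ : D ≤ U₁) (i₂ : D ≤ U₂) (x : Q D),
      tr i₁ x = x₁ ∧ tr i₂ x = x₂ := by
  refine (Scheme.IsLocallyDirected.ι_eq_ι_iff (F ρ)).trans ?_
  constructor
  · rintro ⟨D, i₁, i₂, x, h₁, h₂⟩
    exact ⟨D, leOfHom i₁, leOfHom i₂, x, h₁, h₂⟩
  · rintro ⟨D, i₁, i₂, x, h₁, h₂⟩
    exact ⟨D, homOfLE i₁, homOfLE i₂, x, h₁, h₂⟩

/-- The cover of `X` by stable affine opens. -/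
noncomputable def cov (hX : ∀ x : X, ∃ U : Idx ρ, x ∈ U.1) : X.OpenCover where
  I₀ := Idx ρ
  X U := U.1
  f U := U.1.ι
  mem₀ := by
    rw [Scheme.presieve₀_mem_precoverage_iff]
    refine ⟨fun x => ?_, inferInstance⟩
    obtain ⟨U, hU⟩ := hX x
    exact ⟨U, ⟨x, hU⟩, rfl⟩

theorem homOfLE_pm_inc {V U : Idx ρ} (i : V ≤ U) : X.homOfLE i ≫ pm U ≫ inc U = pm V ≫ inc V := by
  rw [← Category.assoc, homOfLE_pm, Category.assoc, tr_inc]

theorem pm_inc_compat (U₁ U₂ : Idx ρ) :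
    pullback.fst U₁.1.ι U₂.1.ι ≫ pm U₁ ≫ inc U₁ = pullback.snd U₁.1.ι U₂.1.ι ≫ pm U₂ ≫ inc U₂ := by
  apply Scheme.hom_ext_of_forall
  intro w
  have hx₁ : (pullback.fst U₁.1.ι U₂.1.ι ≫ U₁.1.ι) w ∈ U₁.1 := (pullback.fst U₁.1.ι U₂.1.ι w).2
  have hx₂ : (pullback.fst U₁.1.ι U₂.1.ι ≫ U₁.1.ι) w ∈ U₂.1 := by
    rw [pullback.condition]
    exact (pullback.snd U₁.1.ι U₂.1.ι w).2
  obtain ⟨D, i₁, i₂, hD⟩ := exists_idx_le_le hx₁ hx₂
  let O := (pullback.fst U₁.1.ι U₂.1.ι ≫ U₁.1.ι) ⁻¹ᵁ D.1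
  refine ⟨O, hD, ?_⟩
  let k : (O : Scheme.{u}) ⟶ D.1 := IsOpenImmersion.lift D.1.ι
    (O.ι ≫ pullback.fst U₁.1.ι U₂.1.ι ≫ U₁.1.ι) (by
      rintro _ ⟨z, rfl⟩
      rw [Scheme.Opens.range_ι]
      exact z.2)
  have hk : k ≫ D.1.ι = O.ι ≫ pullback.fst U₁.1.ι U₂.1.ι ≫ U₁.1.ι := IsOpenImmersion.lift_fac _ _ _
  have h1 : O.ι ≫ pullback.fst U₁.1.ι U₂.1.ι = k ≫ X.homOfLE i₁ := by
    rw [← cancel_mono U₁.1.ι, Category.assoc, Category.assoc, X.homOfLE_ι, hk]
  have h2 : O.ι ≫ pullback.snd U₁.1.ι U₂.1.ι = k ≫ X.homOfLE i₂ := by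
    rw [← cancel_mono U₂.1.ι, Category.assoc, Category.assoc, X.homOfLE_ι, hk, pullback.condition]
  rw [← Category.assoc, h1, ← Category.assoc O.ι, h2, Category.assoc, Category.assoc,
    homOfLE_pm_inc, homOfLE_pm_inc]

/-- The quotient map. -/
noncomputable def quot (hX : ∀ x : X, ∃ U : Idx ρ, x ∈ U.1) : X ⟶ Y ρ :=
  (cov hX).glueMorphisms (fun U => pm U ≫ inc U) (fun U₁ U₂ => pm_inc_compat U₁ U₂)

variable (hX : ∀ x : X, ∃ U : Idx ρ, x ∈ U.1)

theorem ι_quot (U : Idx ρ) : U.1.ι ≫ quot hX = pm U ≫ inc U :=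
  (cov hX).ι_glueMorphisms (fun U => pm U ≫ inc U) (fun U₁ U₂ => pm_inc_compat U₁ U₂) U

theorem quot_apply {U : Idx ρ} {x : X} (hx : x ∈ U.1) : quot hX x = inc U (pm U ⟨x, hx⟩) :=
  congrArg (fun k : (U.1 : Scheme.{u}) ⟶ Y ρ => k ⟨x, hx⟩) (ι_quot hX U)

theorem preimage_opensRange_inc (U : Idx ρ) : quot hX ⁻¹ᵁ (inc U).opensRange = U.1 := by
  ext x
  constructor
  · rintro ⟨y, hy⟩
    obtain ⟨z, rfl⟩ := (pm U).surjective y
    obtain ⟨U', hx⟩ := hX x
    rw [quot_apply hX hx, inc_eq_inc_iff] at hy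
    obtain ⟨D, i₁, i₂, w, h₁, h₂⟩ := hy
    obtain ⟨v, rfl⟩ := (pm D).surjective w
    rw [tr_pm_apply, pm_apply_eq_iff, homOfLE_apply_coe] at h₂
    obtain ⟨g, hg⟩ := h₂
    have h3 := D.2.2.apply_mem g v.2
    rw [hg] at h3
    exact i₁ h3
  · intro hx
    exact ⟨pm U ⟨x, hx⟩, (quot_apply hX hx).symm⟩

theorem isAffineOpen_opensRange_inc (U : Idx ρ) : IsAffineOpen (inc U).opensRange :=
  isAffineOpen_opensRange (inc U)

instance isAffineHom_quot : IsAffineHom (quot hX) := by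
  apply isAffineHom_of_forall_exists_isAffineOpen
  intro y
  obtain ⟨U, x, rfl⟩ := inc_jointly_surjective y
  refine ⟨(inc U).opensRange, ⟨x, rfl⟩, isAffineOpen_opensRange_inc U, ?_⟩
  rw [preimage_opensRange_inc]
  exact U.2.1

theorem quot_inv (g : G) : (ρ g).hom ≫ quot hX = quot hX := by
  apply Scheme.hom_ext_of_forall
  intro x
  obtain ⟨U, hx⟩ := hX x
  refine ⟨U.1, hx, ?_⟩
  have h1 : U.1.ι ≫ (ρ g).hom = (ρ g).hom.resLE U.1 U.1 (U.2.2 g) ≫ U.1.ι := by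
    rw [Scheme.Hom.resLE_comp_ι]
  rw [← Category.assoc, h1, Category.assoc, ι_quot, ← Category.assoc]
  congr 1
  unfold pm
  rw [← Category.assoc, ← Scheme.Opens.toSpecΓ_SpecMap_appLE, Category.assoc, ← Spec.map_comp]
  congr 2
  ext a
  exact a.2 g

/-- The comparison on sections over a piece. -/
theorem quot_app_comp (U : Idx ρ) (V : (Y ρ).Opens) (e₁ : ⊤ ≤ inc U ⁻¹ᵁ V)
    (e₂ : ⊤ ≤ U.1.ι ⁻¹ᵁ (quot hX ⁻¹ᵁ V)) :
    (quot hX).app V ≫ U.1.ι.appLE (quot hX ⁻¹ᵁ V) ⊤ e₂ =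
      (inc U).appLE V ⊤ e₁ ≫ (Scheme.ΓSpecIso _).hom ≫ CommRingCat.ofHom (invSub U.2.2).subtype ≫
        U.1.topIso.inv := by
  rw [Scheme.Hom.app_eq_appLE, Scheme.Hom.appLE_comp_appLE, appLE_congr_hom (ι_quot hX U),
    ← Scheme.Hom.appLE_comp_appLE (pm U) (inc U) V ⊤ ⊤ e₁ le_top]
  congr 1
  rw [show (pm U).appLE ⊤ ⊤ le_top = (pm U).appTop from (Scheme.Hom.app_eq_appLE _).symm]
  unfold pm
  rw [Scheme.Hom.comp_appTop, Scheme.Opens.toSpecΓ_appTop, ← Category.assoc,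
    Scheme.ΓSpecIso_naturality, Category.assoc]

omit [Finite G] in
theorem isIso_appLE_top {Z W : Scheme.{u}} (f : Z ⟶ W) [IsOpenImmersion f] (V : W.Opens)
    (hV : V = f ''ᵁ ⊤) (e : ⊤ ≤ f ⁻¹ᵁ V) : IsIso (f.appLE V ⊤ e) := by
  subst hV
  rw [← Scheme.Hom.appIso_hom']
  infer_instance

theorem quotOn_opensRange_inc (U : Idx ρ) : QuotOn (quot_inv hX) (inc U).opensRange := by
  set V := (inc U).opensRange with hVdef
  have hpre : quot hX ⁻¹ᵁ V = U.1 := preimage_opensRange_inc hX U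
  have e₁ : ⊤ ≤ inc U ⁻¹ᵁ V := fun x _ => ⟨x, rfl⟩
  have e₂ : ⊤ ≤ U.1.ι ⁻¹ᵁ (quot hX ⁻¹ᵁ V) := fun x _ => by
    change x.1 ∈ quot hX ⁻¹ᵁ V
    rw [hpre]
    exact x.2
  have i₁ : IsIso ((inc U).appLE V ⊤ e₁) := isIso_appLE_top _ _ (Scheme.Hom.image_top_eq_opensRange _).symm _
  have i₂ : IsIso (U.1.ι.appLE (quot hX ⁻¹ᵁ V) ⊤ e₂) :=
    isIso_appLE_top _ _ (by rw [hpre, Scheme.Opens.ι_image_top]) _
  have key := quot_app_comp hX U V e₁ e₂
  let α := (inc U).appLE V ⊤ e₁ ≫ (Scheme.ΓSpecIso (CommRingCat.of (invSub U.2.2))).hom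
  have hα : Function.Bijective α.hom := ConcreteCategory.bijective_of_isIso (C := CommRingCat) α
  let β := U.1.ι.appLE (quot hX ⁻¹ᵁ V) ⊤ e₂
  have hβ : Function.Bijective β.hom := ConcreteCategory.bijective_of_isIso (C := CommRingCat) β
  have hγ : Function.Bijective U.1.topIso.inv.hom :=
    ConcreteCategory.bijective_of_isIso (C := CommRingCat) U.1.topIso.inv
  have key' : ∀ a, β.hom (((quot hX).app V).hom a) = U.1.topIso.inv.hom (α.hom a).1 := fun a =>
    congrArg (fun k => k.hom a) key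
  constructor
  · intro a b hab
    apply hα.1
    apply Subtype.val_injective
    apply hγ.1
    rw [← key', ← key', hab]
  · intro s hs
    have hle : U.1 ≤ quot hX ⁻¹ᵁ V := hpre.ge
    let s₁ : Γ(X, U.1) := (X.presheaf.map (homOfLE hle).op).hom s
    have hs₁ : s₁ ∈ invSub U.2.2 := by
      intro g
      rw [← act_res_apply (stable_preimage (quot_inv hX) V) U.2.2 hle g, hs g]
    obtain ⟨a, ha⟩ := hα.2 ⟨s₁, hs₁⟩
    refine ⟨a, hβ.1 ?_⟩
    rw [key', ha]
    change U.1.topIso.inv.hom ((X.presheaf.map (homOfLE hle).op).hom s) =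
      (U.1.ι.appLE (quot hX ⁻¹ᵁ V) ⊤ e₂).hom s
    rw [Scheme.Opens.ι_appLE, Scheme.Opens.topIso_inv]
    exact congrArg (fun k => k.hom s)
      (X.presheaf.map_comp (homOfLE hle).op (eqToHom U.1.ι_image_top).op).symm

/-- Existence of the quotient, given a cover of `X` by stable affine opens. -/
theorem isQuot_quot : SGA1.IsQuot ρ (quot hX) := by
  refine isQuot_of_affine_cover (quot_inv hX) (fun y => ?_)
  obtain ⟨U, x, rfl⟩ := inc_jointly_surjective y
  exact ⟨(inc U).opensRange, ⟨x, rfl⟩, isAffineOpen_opensRange_inc U, quotOn_opensRange_inc hX U⟩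

/-- SGA 1 V 1.8. -/
theorem exists_isQuot (ρ : G →* Aut X)
    (h : ∀ x : X, ∃ U : X.Opens, IsAffineOpen U ∧ ∀ g : G, (ρ g).hom.base x ∈ U) :
    ∃ (Y : Scheme.{u}) (p : X ⟶ Y), SGA1.IsQuot ρ p := by
  have hX : ∀ x : X, ∃ U : Idx ρ, x ∈ U.1 := by
    intro x
    obtain ⟨U, hU, hx⟩ := h x
    obtain ⟨V, hV1, hV2, hV3, -, -⟩ := exists_stable_affine (x := x) hU hx stable_top trivial
    exact ⟨⟨V, hV1, hV2⟩, hV3⟩
  exact ⟨_, _, isQuot_quot hX⟩

end Groth.Agent.Sga1.QuotExists
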