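import Groth.Prelude.Def_SGA1
import Mathlib.RingTheory.Invariant.Basic
import Mathlib.AlgebraicGeometry.Morphisms.Integral
import Mathlib.AlgebraicGeometry.Morphisms.Affine

/-!
# Quotients of schemes by finite groups: basic facts

`SGA1.IsQuot ρ p` unpacked: for every open `V` of `Y` the ring `Γ(Y, V)` is the ring of invariants of
`Γ(X, p⁻¹ V)`.
-/

set_option autoImplicit false
set_option linter.style.haveILetI false

universe u

open CategoryTheory CategoryTheory.Limits AlgebraicGeometry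

namespace Groth.Agent.Sga1.QuotBasic

/-! ## Pure algebra: invariants and localization -/

/-- Localizing the invariants of a finite family of ring endomorphisms. -/
theorem bijective_invariants_of_away {A B A' B' : Type*} [CommRing A] [CommRing B] [CommRing A']
    [CommRing B'] (φ : A →+* B) (φ' : A' →+* B') (i : A →+* A') (j : B →+* B')
    (comm : φ'.comp i = j.comp φ) (f : A)
    (hA' : letI := i.toAlgebra; IsLocalization.Away f A')
    (hB' : letI := j.toAlgebra; IsLocalization.Away (φ f) B')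
    {ι : Type*} [Finite ι] (σ : ι → B →+* B) (σ' : ι → B' →+* B')
    (compat : ∀ g, (σ' g).comp j = j.comp (σ g)) (hσ : ∀ g a, σ g (φ a) = φ a)
    (hinj : Function.Injective φ) (hinv : ∀ b, (∀ g, σ g b = b) → b ∈ Set.range φ) :
    Function.Injective φ' ∧ ∀ b', (∀ g, σ' g b' = b') → b' ∈ Set.range φ' := by
  let := i.toAlgebra
  let := j.toAlgebra
  have := hA'
  have := hB'
  have hcomm : ∀ a, φ' (i a) = j (φ a) := fun a => congrArg (fun h => h a) comm
  have hcompat : ∀ g b, σ' g (j b) = j (σ g b) := fun g b => congrArg (fun h => h b) (compat g)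
  constructor
  · rw [injective_iff_map_eq_zero]
    intro a' ha'
    obtain ⟨n, a, ha⟩ := IsLocalization.Away.surj f a'
    have h1 : j (φ a) = 0 := by
      rw [← hcomm, show i a = algebraMap A A' a from rfl, ← ha, map_mul, ha', zero_mul]
    have h2 : algebraMap B B' (φ a) = algebraMap B B' 0 := by
      rw [map_zero]; exact h1
    obtain ⟨m, hm⟩ := IsLocalization.Away.exists_of_eq (φ f) h2
    have h3 : f ^ m * a = 0 := by
      apply hinj
      rw [map_mul, map_pow, hm, mul_zero, map_zero]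
    have hu : IsUnit (algebraMap A A' f) := IsLocalization.Away.algebraMap_isUnit f
    have h4 : algebraMap A A' f ^ (m + n) * a' = 0 := by
      rw [pow_add, mul_assoc, mul_comm (algebraMap A A' f ^ n) a', ha, ← map_pow, ← map_mul, h3,
        map_zero]
    exact (hu.pow (m + n)).mul_right_eq_zero.mp h4
  · intro b' hb'
    obtain ⟨n, b, hb⟩ := IsLocalization.Away.surj (φ f) b'
    have hff : algebraMap B B' (φ f) = φ' (i f) := (hcomm f).symm
    have key : ∀ g, ∃ m : ℕ, (φ f) ^ m * σ g b = (φ f) ^ m * b := by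
      intro g
      apply IsLocalization.Away.exists_of_eq (S := B') (φ f)
      change j (σ g b) = j b
      rw [← hcompat]
      change σ' g (algebraMap B B' b) = algebraMap B B' b
      rw [← hb, map_mul, hb' g, map_pow]
      congr 2
      change σ' g (j (φ f)) = j (φ f)
      rw [hcompat, hσ]
    choose m hm using key
    obtain ⟨M, hM⟩ : ∃ M, ∀ g, m g ≤ M := by
      cases nonempty_fintype ι
      exact ⟨Finset.univ.sup m, fun g => Finset.le_sup (Finset.mem_univ g)⟩
    have hM' : ∀ g, (φ f) ^ M * σ g b = (φ f) ^ M * b := by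
      intro g
      obtain ⟨k, hk⟩ := Nat.exists_eq_add_of_le (hM g)
      rw [hk, add_comm, pow_add, mul_assoc, hm g, mul_assoc]
    obtain ⟨a, ha⟩ := hinv ((φ f) ^ M * b) (fun g => by
      rw [map_mul, map_pow, hσ, hM' g])
    have hu : IsUnit (algebraMap A A' f) := IsLocalization.Away.algebraMap_isUnit f
    obtain ⟨w, hw⟩ := hu.pow (M + n)
    refine ⟨i a * (↑w⁻¹ : A'), ?_⟩
    have hu' : IsUnit (φ' (w : A')) := (w.isUnit).map φ'
    have : φ' (i a) = b' * φ' (w : A') := by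
      rw [hcomm, ha, map_mul, map_pow, hw, map_pow, pow_add]
      change (algebraMap B B' (φ f)) ^ M * algebraMap B B' b = _
      rw [← hb, hff]
      change _ = b' * (φ' (i f) ^ M * φ' (i f) ^ n)
      ring
    rw [map_mul, this, mul_assoc, ← map_mul, Units.mul_inv, map_one, mul_one]

/-! ## The action on sections over stable opens -/

section Act

variable {X : Scheme.{u}} {G : Type u} [Group G] (ρ : G →* Aut X)

/-- An open subset of `X` stable under the action of `G`. -/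
def Stable (U : X.Opens) : Prop := ∀ g : G, U ≤ (ρ g).hom ⁻¹ᵁ U

theorem hom_mul (g h : G) : (ρ (g * h)).hom = (ρ h).hom ≫ (ρ g).hom := by
  rw [map_mul]; rfl

theorem hom_one : (ρ 1).hom = 𝟙 X := by
  rw [map_one]; rfl

theorem hom_inv_comp (g : G) : (ρ g).hom ≫ (ρ g⁻¹).hom = 𝟙 X := by
  rw [← hom_mul, inv_mul_cancel, hom_one]

theorem hom_comp_inv (g : G) : (ρ g⁻¹).hom ≫ (ρ g).hom = 𝟙 X := by
  rw [← hom_mul, mul_inv_cancel, hom_one]

theorem mul_apply (g h : G) (x : X) : (ρ (g * h)).hom x = (ρ g).hom ((ρ h).hom x) := by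
  rw [hom_mul]; rfl

theorem one_apply (x : X) : (ρ 1).hom x = x := by
  rw [hom_one]; rfl

theorem inv_apply_apply (g : G) (x : X) : (ρ g⁻¹).hom ((ρ g).hom x) = x := by
  rw [← mul_apply, inv_mul_cancel, one_apply]

theorem apply_inv_apply (g : G) (x : X) : (ρ g).hom ((ρ g⁻¹).hom x) = x := by
  rw [← mul_apply, mul_inv_cancel, one_apply]

variable {ρ}

theorem Stable.preimage_eq {U : X.Opens} (hU : Stable ρ U) (g : G) : (ρ g).hom ⁻¹ᵁ U = U := by
  refine le_antisymm (fun x hx => ?_) (hU g)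
  have h := hU g⁻¹ (show (ρ g).hom x ∈ U from hx)
  change (ρ g⁻¹).hom ((ρ g).hom x) ∈ U at h
  rwa [inv_apply_apply] at h

theorem Stable.apply_mem {U : X.Opens} (hU : Stable ρ U) (g : G) {x : X} (hx : x ∈ U) :
    (ρ g).hom x ∈ U := hU g hx

theorem Stable.apply_mem_iff {U : X.Opens} (hU : Stable ρ U) (g : G) {x : X} :
    (ρ g).hom x ∈ U ↔ x ∈ U :=
  ⟨fun h => by have := hU.apply_mem g⁻¹ h; rwa [inv_apply_apply] at this, hU.apply_mem g⟩

theorem Stable.inf {U V : X.Opens} (hU : Stable ρ U) (hV : Stable ρ V) : Stable ρ (U ⊓ V) :=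
  fun g _ hx => ⟨hU g hx.1, hV g hx.2⟩

theorem stable_top : Stable ρ (⊤ : X.Opens) := fun _ _ _ => trivial

variable (ρ)

/-- The action of `g : G` on sections over a stable open `U`: pullback along `ρ g`. -/
noncomputable def act {U : X.Opens} (hU : Stable ρ U) (g : G) : Γ(X, U) ⟶ Γ(X, U) :=
  (ρ g).hom.appLE U U (hU g)

variable {ρ}

theorem appLE_congr_hom {Z W : Scheme.{u}} {f f' : Z ⟶ W} (h : f = f') (U : W.Opens) (V : Z.Opens)
    (e : V ≤ f ⁻¹ᵁ U) : f.appLE U V e = f'.appLE U V (h ▸ e) := by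
  subst h; rfl

theorem id_appLE_self (U : X.Opens) (e : U ≤ (𝟙 X : X ⟶ X) ⁻¹ᵁ U) :
    (𝟙 X : X ⟶ X).appLE U U e = 𝟙 _ := by
  rw [Scheme.Hom.appLE, Scheme.Hom.id_app]
  exact (Category.id_comp _).trans (X.presheaf.map_id _)

theorem act_one {U : X.Opens} (hU : Stable ρ U) : act ρ hU 1 = 𝟙 _ := by
  unfold act
  rw [appLE_congr_hom (hom_one ρ)]
  exact id_appLE_self _ _

theorem act_mul {U : X.Opens} (hU : Stable ρ U) (g h : G) :
    act ρ hU (g * h) = act ρ hU g ≫ act ρ hU h := by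
  unfold act
  rw [appLE_congr_hom (hom_mul ρ g h), Scheme.Hom.appLE_comp_appLE]

theorem act_mul_apply {U : X.Opens} (hU : Stable ρ U) (g h : G) (s : Γ(X, U)) :
    (act ρ hU (g * h)).hom s = (act ρ hU h).hom ((act ρ hU g).hom s) := by
  rw [act_mul]; rfl

theorem act_one_apply {U : X.Opens} (hU : Stable ρ U) (s : Γ(X, U)) :
    (act ρ hU 1).hom s = s := by
  rw [act_one]; rfl

/-- Compatibility of the action with restriction. -/
theorem act_res {U V : X.Opens} (hU : Stable ρ U) (hV : Stable ρ V) (i : V ≤ U) (g : G) :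
    act ρ hU g ≫ X.presheaf.map (homOfLE i).op = X.presheaf.map (homOfLE i).op ≫ act ρ hV g := by
  unfold act
  rw [Scheme.Hom.appLE_map, Scheme.Hom.map_appLE]

theorem act_res_apply {U V : X.Opens} (hU : Stable ρ U) (hV : Stable ρ V) (i : V ≤ U) (g : G)
    (s : Γ(X, U)) :
    (X.presheaf.map (homOfLE i).op).hom ((act ρ hU g).hom s) =
      (act ρ hV g).hom ((X.presheaf.map (homOfLE i).op).hom s) :=
  congrArg (fun f => f.hom s) (act_res hU hV i g)

variable (ρ)

/-- The action of `G` on the sections over a stable open, `g • s = (ρ g⁻¹)^* s`. -/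
@[implicit_reducible]
noncomputable def mulSemiringAction {U : X.Opens} (hU : Stable ρ U) :
    MulSemiringAction G Γ(X, U) where
  smul g s := (act ρ hU g⁻¹).hom s
  one_smul s := by
    change (act ρ hU 1⁻¹).hom s = s
    rw [inv_one, act_one_apply]
  mul_smul g h s := by
    change (act ρ hU (g * h)⁻¹).hom s = (act ρ hU g⁻¹).hom ((act ρ hU h⁻¹).hom s)
    rw [mul_inv_rev, act_mul_apply]
  smul_zero g := map_zero (act ρ hU g⁻¹).hom
  smul_add g := map_add (act ρ hU g⁻¹).hom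
  smul_one g := map_one (act ρ hU g⁻¹).hom
  smul_mul g := map_mul (act ρ hU g⁻¹).hom

theorem smul_def {U : X.Opens} (hU : Stable ρ U) (g : G) (s : Γ(X, U)) :
    letI := mulSemiringAction ρ hU
    g • s = (act ρ hU g⁻¹).hom s := rfl

theorem forall_smul_iff {U : X.Opens} (hU : Stable ρ U) (s : Γ(X, U)) :
    letI := mulSemiringAction ρ hU
    (∀ g : G, g • s = s) ↔ ∀ g : G, (act ρ hU g).hom s = s := by
  constructor
  · intro h g
    have := h g⁻¹
    rw [smul_def, inv_inv] at this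
    exact this
  · intro h g
    rw [smul_def]
    exact h _

/-- `D((ρ g)^* f) = (ρ g)⁻¹ D(f)`. -/
theorem basicOpen_act {U : X.Opens} (hU : Stable ρ U) (g : G) (s : Γ(X, U)) :
    X.basicOpen ((act ρ hU g).hom s) = (ρ g).hom ⁻¹ᵁ X.basicOpen s := by
  unfold act
  rw [Scheme.Hom.appLE, CommRingCat.comp_apply, Scheme.basicOpen_res, ← Scheme.preimage_basicOpen]
  refine inf_eq_right.mpr (fun x hx => ?_)
  exact (hU.apply_mem_iff g).mp (X.basicOpen_le s hx)

theorem stable_basicOpen {U : X.Opens} (hU : Stable ρ U) (s : Γ(X, U))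
    (hs : ∀ g, (act ρ hU g).hom s = s) : Stable ρ (X.basicOpen s) := by
  intro g
  rw [← basicOpen_act ρ hU, hs g]

end Act

/-! ## Quotient maps -/

section Quot

variable {X Y : Scheme.{u}} {G : Type u} [Group G] {ρ : G →* Aut X} {p : X ⟶ Y}

theorem stable_preimage (hinv : ∀ g : G, (ρ g).hom ≫ p = p) (V : Y.Opens) :
    Stable ρ (p ⁻¹ᵁ V) :=
  fun g => SGA1.preimage_le_of_inv ρ p hinv g V

theorem apply_apply_of_inv (hinv : ∀ g : G, (ρ g).hom ≫ p = p) (g : G) (x : X) :
    p ((ρ g).hom x) = p x := by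
  rw [← Scheme.Hom.comp_apply, hinv g]

theorem act_app (hinv : ∀ g : G, (ρ g).hom ≫ p = p) (V : Y.Opens) (g : G) :
    p.app V ≫ act ρ (stable_preimage hinv V) g = p.app V := by
  unfold act
  rw [Scheme.Hom.app_eq_appLE, Scheme.Hom.appLE_comp_appLE, appLE_congr_hom (hinv g)]

theorem act_app_apply (hinv : ∀ g : G, (ρ g).hom ≫ p = p) (V : Y.Opens) (g : G) (a : Γ(Y, V)) :
    (act ρ (stable_preimage hinv V) g).hom ((p.app V).hom a) = (p.app V).hom a :=
  congrArg (fun f => f.hom a) (act_app hinv V g)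

/-- Over the open `V`, the sections of `Y` are the invariant sections of `X`. -/
structure QuotOn (hinv : ∀ g : G, (ρ g).hom ≫ p = p) (V : Y.Opens) : Prop where
  injective : Function.Injective (p.app V).hom
  surj : ∀ s : Γ(X, p ⁻¹ᵁ V), (∀ g, (act ρ (stable_preimage hinv V) g).hom s = s) →
    s ∈ Set.range (p.app V).hom

theorem quotOn_of_isQuot (hp : SGA1.IsQuot ρ p) (V : Y.Opens) : QuotOn hp.inv V :=
  ⟨hp.injective V, fun s hs => (hp.range_iff V s).mpr hs⟩

theorem isQuot_of_quotOn [IsAffineHom p] (hinv : ∀ g : G, (ρ g).hom ≫ p = p)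
    (h : ∀ V, QuotOn hinv V) : SGA1.IsQuot ρ p where
  affine := inferInstance
  inv := hinv
  injective V := (h V).injective
  range_iff V s := ⟨by rintro ⟨a, rfl⟩ g; exact act_app_apply hinv V g a, (h V).surj s⟩

theorem QuotOn.basicOpen [Finite G] [IsAffineHom p] {hinv : ∀ g : G, (ρ g).hom ≫ p = p}
    {V : Y.Opens} (h : QuotOn hinv V) (hV : IsAffineOpen V) (f : Γ(Y, V)) :
    QuotOn hinv (Y.basicOpen f) := by
  have hle : p ⁻¹ᵁ Y.basicOpen f ≤ p ⁻¹ᵁ V := fun x hx => Y.basicOpen_le f hx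
  have key := bijective_invariants_of_away (p.app V).hom (p.app (Y.basicOpen f)).hom
    (Y.presheaf.map (homOfLE (Y.basicOpen_le f)).op).hom
    (X.presheaf.map (homOfLE hle).op).hom (by
      rw [← CommRingCat.hom_comp, ← CommRingCat.hom_comp, Scheme.Hom.naturality]; rfl) f
    (hV.isLocalization_basicOpen f)
    ((hV.preimage p).isLocalization_of_eq_basicOpen (p.app V f) (homOfLE hle)
      (Scheme.preimage_basicOpen p f))
    (fun g => (act ρ (stable_preimage hinv V) g).hom)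
    (fun g => (act ρ (stable_preimage hinv (Y.basicOpen f)) g).hom)
    (fun g => by
      rw [← CommRingCat.hom_comp, ← CommRingCat.hom_comp]
      exact congrArg (fun k => k.hom)
        (act_res (stable_preimage hinv V) (stable_preimage hinv (Y.basicOpen f)) hle g).symm)
    (fun g a => act_app_apply hinv V g a) h.injective h.surj
  exact ⟨key.1, key.2⟩

/-- Being a quotient on sections is a local property on `Y`. -/
theorem quotOn_of_basis (hinv : ∀ g : G, (ρ g).hom ≫ p = p)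
    (h : ∀ (V : Y.Opens) (y : Y), y ∈ V → ∃ V' : Y.Opens, V' ≤ V ∧ y ∈ V' ∧ QuotOn hinv V')
    (V : Y.Opens) : QuotOn hinv V := by
  have hinj : ∀ V : Y.Opens, Function.Injective (p.app V).hom := by
    intro V
    rw [injective_iff_map_eq_zero]
    intro a ha
    choose W hWV hyW hW using fun y : V => h V y.1 y.2
    refine TopCat.Sheaf.eq_of_locally_eq' Y.sheaf W V (fun y => homOfLE (hWV y))
      (fun y hy => TopologicalSpace.Opens.mem_iSup.mpr ⟨⟨y, hy⟩, hyW ⟨y, hy⟩⟩) a 0 (fun y => ?_)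
    apply (hW y).injective
    have h1 := congrArg (fun k => k.hom a) (Scheme.Hom.naturality p (homOfLE (hWV y)).op)
    have h2 : (p.app (W y)).hom ((Y.presheaf.map (homOfLE (hWV y)).op).hom a) = 0 := by
      refine h1.trans ?_
      change (X.presheaf.map _).hom ((p.app V).hom a) = 0
      rw [ha, map_zero]
    refine h2.trans ?_
    change 0 = (p.app (W y)).hom ((Y.presheaf.map (homOfLE (hWV y)).op).hom 0)
    rw [map_zero, map_zero]
  refine ⟨hinj V, fun s hs => ?_⟩
  choose W hWV hyW hW using fun y : V => h V y.1 y.2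
  have hle : ∀ y, p ⁻¹ᵁ W y ≤ p ⁻¹ᵁ V := fun y x hx => hWV y hx
  have hs' : ∀ y, ∃ a : Γ(Y, W y), (p.app (W y)).hom a =
      (X.presheaf.map (homOfLE (hle y)).op).hom s := by
    intro y
    apply (hW y).surj
    intro g
    rw [← act_res_apply (stable_preimage hinv V) (stable_preimage hinv (W y)) (hle y) g s, hs g]
  choose a ha using hs'
  have hcomp : TopCat.Presheaf.IsCompatible Y.sheaf.1 W a := by
    intro y z
    apply hinj (W y ⊓ W z)
    have h1 : ∀ (V₁ V₂ : Y.Opens) (i : V₂ ≤ V₁) (b : Γ(Y, V₁)),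
        (p.app V₂).hom ((Y.presheaf.map (homOfLE i).op).hom b) =
        (X.presheaf.map (homOfLE (show p ⁻¹ᵁ V₂ ≤ p ⁻¹ᵁ V₁ from fun x hx => i hx)).op).hom
          ((p.app V₁).hom b) :=
      fun V₁ V₂ i b => congrArg (fun k => k.hom b) (Scheme.Hom.naturality p (homOfLE i).op)
    refine (h1 _ _ inf_le_left (a y)).trans (Eq.trans ?_ (h1 _ _ inf_le_right (a z)).symm)
    rw [ha, ha, ← CommRingCat.comp_apply, ← CommRingCat.comp_apply, ← Functor.map_comp,
      ← Functor.map_comp]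
    rfl
  obtain ⟨b, hb, -⟩ := TopCat.Sheaf.existsUnique_gluing' Y.sheaf W V (fun y => homOfLE (hWV y))
      (fun y hy => TopologicalSpace.Opens.mem_iSup.mpr ⟨⟨y, hy⟩, hyW ⟨y, hy⟩⟩) a hcomp
  refine ⟨b, ?_⟩
  refine TopCat.Sheaf.eq_of_locally_eq' X.sheaf (fun y => p ⁻¹ᵁ W y) (p ⁻¹ᵁ V)
    (fun y => homOfLE (hle y)) (fun x hx => TopologicalSpace.Opens.mem_iSup.mpr
      ⟨⟨p x, hx⟩, hyW ⟨p x, hx⟩⟩) _ s (fun y => ?_)
  refine Eq.trans ?_ (ha y)
  rw [← hb y]
  exact (congrArg (fun k => k.hom b) (Scheme.Hom.naturality p (homOfLE (hWV y)).op)).symm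

theorem isQuot_of_affine_cover [Finite G] [IsAffineHom p] (hinv : ∀ g : G, (ρ g).hom ≫ p = p)
    (h : ∀ y : Y, ∃ V : Y.Opens, y ∈ V ∧ IsAffineOpen V ∧ QuotOn hinv V) : SGA1.IsQuot ρ p := by
  apply isQuot_of_quotOn hinv
  apply quotOn_of_basis hinv
  intro V y hy
  obtain ⟨W, hyW, hW, hq⟩ := h y
  obtain ⟨f, hf, hyf⟩ := hW.exists_basicOpen_le ⟨y, hy⟩ hyW
  exact ⟨Y.basicOpen f, hf, hyf, hq.basicOpen hW f⟩

/-- The algebra structure of `Γ(X, p⁻¹ V)` over `Γ(Y, V)`. -/
@[implicit_reducible]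
noncomputable def sectionAlgebra (p : X ⟶ Y) (V : Y.Opens) : Algebra Γ(Y, V) Γ(X, p ⁻¹ᵁ V) :=
  (p.app V).hom.toAlgebra

theorem QuotOn.isInvariant {hinv : ∀ g : G, (ρ g).hom ≫ p = p} {V : Y.Opens}
    (h : QuotOn hinv V) :
    letI := sectionAlgebra p V
    letI := mulSemiringAction ρ (stable_preimage hinv V)
    Algebra.IsInvariant Γ(Y, V) Γ(X, p ⁻¹ᵁ V) G := by
  letI := sectionAlgebra p V
  letI := mulSemiringAction ρ (stable_preimage hinv V)
  exact ⟨fun b hb => h.surj b ((forall_smul_iff ρ (stable_preimage hinv V) b).mp hb)⟩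

theorem smulCommClass_sections (hinv : ∀ g : G, (ρ g).hom ≫ p = p) (V : Y.Opens) :
    letI := sectionAlgebra p V
    letI := mulSemiringAction ρ (stable_preimage hinv V)
    SMulCommClass G Γ(Y, V) Γ(X, p ⁻¹ᵁ V) := by
  letI := sectionAlgebra p V
  letI := mulSemiringAction ρ (stable_preimage hinv V)
  refine ⟨fun g a b => ?_⟩
  rw [Algebra.smul_def, Algebra.smul_def, smul_mul']
  congr 1
  exact act_app_apply hinv V g⁻¹ a

theorem QuotOn.isIntegral_app [Finite G] {hinv : ∀ g : G, (ρ g).hom ≫ p = p} {V : Y.Opens}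
    (h : QuotOn hinv V) : (p.app V).hom.IsIntegral := by
  letI := sectionAlgebra p V
  letI := mulSemiringAction ρ (stable_preimage hinv V)
  haveI := h.isInvariant
  have := Algebra.IsInvariant.isIntegral Γ(Y, V) Γ(X, p ⁻¹ᵁ V) G
  exact algebraMap_isIntegral_iff.mpr this

variable [Finite G]

theorem isIntegralHom_of_isQuot (hp : SGA1.IsQuot ρ p) : IsIntegralHom p := by
  have := hp.affine
  exact ⟨fun U _ => (quotOn_of_isQuot hp U).isIntegral_app⟩

omit [Finite G] in
theorem eq_of_primeIdealOf_eq {U : X.Opens} (hU : IsAffineOpen U) {x x' : X} (hx : x ∈ U)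
    (hx' : x' ∈ U) (h : hU.primeIdealOf ⟨x, hx⟩ = hU.primeIdealOf ⟨x', hx'⟩) : x = x' := by
  have h1 := hU.fromSpec_primeIdealOf ⟨x, hx⟩
  rw [h, hU.fromSpec_primeIdealOf] at h1
  exact h1.symm

/-- Over an affine open over which `p` is a quotient, the fibres are nonempty. -/
theorem QuotOn.exists_preimage [IsAffineHom p] {hinv : ∀ g : G, (ρ g).hom ≫ p = p} {V : Y.Opens}
    (h : QuotOn hinv V) (hV : IsAffineOpen V) {y : Y} (hy : y ∈ V) : ∃ x : X, p x = y := by
  obtain ⟨Q, hQ⟩ := h.isIntegral_app.comap_surjective h.injective (hV.primeIdealOf ⟨y, hy⟩)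
  have hU := hV.preimage p
  have hx : hU.fromSpec Q ∈ p ⁻¹ᵁ V := by
    have := hU.range_fromSpec
    exact this.le ⟨Q, rfl⟩
  have hQ' : hU.primeIdealOf ⟨hU.fromSpec Q, hx⟩ = Q := by
    apply hU.fromSpec.isOpenEmbedding.injective
    exact hU.fromSpec_primeIdealOf _
  refine ⟨hU.fromSpec Q, ?_⟩
  have h1 := IsAffineOpen.comap_primeIdealOf_appLE (f := p) (x := hU.fromSpec Q) V hV (p ⁻¹ᵁ V) hU
    le_rfl hx
  rw [hQ', ← Scheme.Hom.app_eq_appLE, hQ] at h1
  exact (eq_of_primeIdealOf_eq hV hy _ h1).symm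

/-- Over an affine open over which `p` is a quotient, the fibres are orbits. -/
theorem QuotOn.exists_apply_eq [IsAffineHom p] {hinv : ∀ g : G, (ρ g).hom ≫ p = p} {V : Y.Opens}
    (h : QuotOn hinv V) (hV : IsAffineOpen V) {x x' : X} (hx : p x ∈ V) (hxx' : p x = p x') :
    ∃ g : G, (ρ g).hom x = x' := by
  letI := sectionAlgebra p V
  letI := mulSemiringAction ρ (stable_preimage hinv V)
  haveI := h.isInvariant
  haveI := smulCommClass_sections hinv V
  have hU := hV.preimage p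
  have hx' : p x' ∈ V := hxx' ▸ hx
  have e1 := IsAffineOpen.comap_primeIdealOf_appLE (f := p) (x := x) V hV (p ⁻¹ᵁ V) hU le_rfl hx
  have e2 := IsAffineOpen.comap_primeIdealOf_appLE (f := p) (x := x') V hV (p ⁻¹ᵁ V) hU le_rfl hx'
  have e3 : (hU.primeIdealOf ⟨x, hx⟩).asIdeal.under Γ(Y, V) =
      (hU.primeIdealOf ⟨x', hx'⟩).asIdeal.under Γ(Y, V) := by
    have : (hV.primeIdealOf ⟨p x, hx⟩) = hV.primeIdealOf ⟨p x', hx'⟩ := by
      congr 1; exact Subtype.ext hxx'
    rw [← this, ← e1, ← Scheme.Hom.app_eq_appLE] at e2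
    exact (congrArg PrimeSpectrum.asIdeal e2).symm
  obtain ⟨g, hg⟩ := Algebra.IsInvariant.exists_smul_of_under_eq Γ(Y, V) Γ(X, p ⁻¹ᵁ V) G
    (hU.primeIdealOf ⟨x, hx⟩).asIdeal (hU.primeIdealOf ⟨x', hx'⟩).asIdeal e3
  refine ⟨g, ?_⟩
  have hgx : (ρ g).hom x ∈ p ⁻¹ᵁ V := (stable_preimage hinv V).apply_mem g hx
  apply eq_of_primeIdealOf_eq hU hgx hx'
  have e4 := IsAffineOpen.comap_primeIdealOf_appLE (f := (ρ g).hom) (x := x) (p ⁻¹ᵁ V) hU (p ⁻¹ᵁ V) hU
    (stable_preimage hinv V g) hx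
  rw [← e4]
  ext a
  rw [hg, Ideal.mem_pointwise_smul_iff_inv_smul_mem]
  change (act ρ (stable_preimage hinv V) g).hom a ∈ (hU.primeIdealOf ⟨x, hx⟩).asIdeal ↔
    (act ρ (stable_preimage hinv V) g⁻¹⁻¹).hom a ∈ (hU.primeIdealOf ⟨x, hx⟩).asIdeal
  rw [inv_inv]

theorem exists_affine_mem (y : Y) : ∃ V : Y.Opens, IsAffineOpen V ∧ y ∈ V := by
  obtain ⟨V, hV, hy, -⟩ := TopologicalSpace.Opens.isBasis_iff_nbhd.mp Y.isBasis_affineOpens
    (show y ∈ (⊤ : Y.Opens) from trivial)
  exact ⟨V, hV, hy⟩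

theorem surjective_of_isQuot (hp : SGA1.IsQuot ρ p) : Function.Surjective p := by
  intro y
  have := hp.affine
  obtain ⟨V, hV, hy⟩ := exists_affine_mem y
  exact (quotOn_of_isQuot hp V).exists_preimage hV hy

theorem exists_apply_eq_of_isQuot (hp : SGA1.IsQuot ρ p) {x x' : X} (h : p x = p x') :
    ∃ g : G, (ρ g).hom x = x' := by
  have := hp.affine
  obtain ⟨V, hV, hy⟩ := exists_affine_mem (p x)
  exact (quotOn_of_isQuot hp V).exists_apply_eq hV hy h

theorem apply_eq_iff_of_isQuot (hp : SGA1.IsQuot ρ p) (x x' : X) :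
    p x = p x' ↔ ∃ g : G, (ρ g).hom x = x' := by
  refine ⟨exists_apply_eq_of_isQuot hp, ?_⟩
  rintro ⟨g, rfl⟩
  exact (apply_apply_of_inv hp.inv g x).symm

theorem isClosedMap_of_isQuot (hp : SGA1.IsQuot ρ p) : IsClosedMap p := by
  have := isIntegralHom_of_isQuot hp
  exact p.isClosedMap

theorem isQuotientMap_of_isQuot (hp : SGA1.IsQuot ρ p) : Topology.IsQuotientMap p :=
  (isClosedMap_of_isQuot hp).isQuotientMap p.continuous (surjective_of_isQuot hp)

theorem isOpenMap_of_isQuot (hp : SGA1.IsQuot ρ p) : IsOpenMap p := by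
  intro U hU
  rw [← (isQuotientMap_of_isQuot hp).isOpen_preimage]
  have : p ⁻¹' (p '' U) = ⋃ g : G, (ρ g).hom ⁻¹' U := by
    ext x
    simp only [Set.mem_preimage, Set.mem_image, Set.mem_iUnion]
    constructor
    · rintro ⟨x', hx', e⟩
      obtain ⟨g, rfl⟩ := exists_apply_eq_of_isQuot hp e.symm
      exact ⟨g, hx'⟩
    · rintro ⟨g, hg⟩
      exact ⟨_, hg, apply_apply_of_inv hp.inv g x⟩
  rw [this]
  exact isOpen_iUnion fun g => hU.preimage (ρ g).hom.continuous

end Quot

end Groth.Agent.Sga1.QuotBasic
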