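import Groth.Agent.Sga1.FreeQuotSch
import Mathlib.RingTheory.Adjoin.Tower
import Mathlib.AlgebraicGeometry.Morphisms.Proper

/-!
Quotients `p : X ⟶ Y = X/G`: an open `V` of `Y` is affine as soon as `p⁻¹V` is; separatedness; finiteness.
-/

set_option autoImplicit false
open CategoryTheory CategoryTheory.Limits AlgebraicGeometry
universe u

namespace Groth.Agent.Sga1.QuotAffine

open Groth.Agent.Sga1 MulSemiringAction Polynomial

section ring

variable {B G : Type*} [CommRing B] [Group G] [Fintype G] [MulSemiringAction G B]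

theorem exists_coeff_notMem (b : B) (P : Ideal B) [P.IsPrime] (hb : b ∉ P) :
    ∃ i, i < (charpoly G b).natDegree ∧ (charpoly G b).coeff i ∉ P := by
  by_contra! hc
  apply hb
  have h0 := eval_charpoly G b
  rw [eval_eq_sum_range, Finset.sum_range_succ, (monic_charpoly G b).coeff_natDegree, one_mul] at h0
  have h1 : b ^ (charpoly G b).natDegree ∈ P := by
    rw [eq_neg_of_add_eq_zero_right h0]
    exact P.neg_mem (P.sum_mem fun i hi => P.mul_mem_right _ (hc i (Finset.mem_range.mp hi)))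
  exact Ideal.IsPrime.mem_of_pow_mem ‹_› _ h1

theorem exists_smul_notMem (b : B) (P : Ideal B) (i : ℕ) (hi : i < (charpoly G b).natDegree)
    (h : (charpoly G b).coeff i ∉ P) : ∃ g : G, g • b ∉ P := by
  by_contra! hc
  apply h
  have h0 : (charpoly G b).map (Ideal.Quotient.mk P) = X ^ (Fintype.card G) := by
    rw [charpoly_eq, Polynomial.map_prod]
    simp only [Polynomial.map_sub, map_X, map_C]
    rw [Finset.prod_congr rfl (fun g _ => show (X : (B ⧸ P)[X]) - C (Ideal.Quotient.mk P (g • b)) = X by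
      rw [Ideal.Quotient.eq_zero_iff_mem.mpr (hc g), C_0, sub_zero])]
    simp
  have hne : i ≠ Fintype.card G := by
    intro hh
    rw [charpoly_eq, natDegree_prod_of_monic _ _ (fun g _ => monic_X_sub_C _)] at hi
    have : ∑ g : G, (X - C (g • b)).natDegree ≤ Fintype.card G := by
      refine (Finset.sum_le_card_nsmul _ _ 1 fun g _ => natDegree_X_sub_C_le _).trans ?_
      simp
    omega
  rw [← Ideal.Quotient.eq_zero_iff_mem, ← coeff_map, h0, coeff_X_pow, if_neg hne]

end ring

variable {X Y : Scheme.{u}} {G : Type u} [Group G]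

theorem isAffineOpen_of_preimage [Finite G] {ρ : G →* Aut X} {p : X ⟶ Y} (hp : SGA1.IsQuot ρ p)
    (V : Y.Opens) (hV : IsAffineOpen (p ⁻¹ᵁ V)) : IsAffineOpen V := by
  have := hp.affine
  cases nonempty_fintype G
  let := QuotAct.act ρ p hp.inv V
  let := (p.app V).hom.toAlgebra
  have := QuotAct.isInvariant hp V
  have := QuotAct.smulCommClass hp.inv V
  have hint : Algebra.IsIntegral Γ(Y, V) Γ(X, p ⁻¹ᵁ V) := Algebra.IsInvariant.isIntegral _ _ G
  have hsurj := FreeQuotSch.surjective_of_isQuot hp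
  let s : Set Γ(Y, V) := {a | ∃ U : Y.Opens, IsAffineOpen U ∧ U ≤ V ∧ Y.basicOpen a ≤ U}
  have hmem : ∀ (P : Spec Γ(X, p ⁻¹ᵁ V)) (b : Γ(X, p ⁻¹ᵁ V)), hV.fromSpec P ∈ X.basicOpen b ↔ b ∉ P.asIdeal := by
    intro P b
    have := hV.fromSpec_preimage_basicOpen b
    rw [← PrimeSpectrum.mem_basicOpen, ← this]
    rfl
  refine isAffineOpen_of_isAffineOpen_basicOpen V s ?_ ?_
  · by_contra hne
    obtain ⟨m, hm, hle⟩ := Ideal.exists_le_maximal _ hne
    obtain ⟨P, hP, hPm⟩ := Ideal.exists_ideal_over_maximal_of_isIntegral (S := Γ(X, p ⁻¹ᵁ V)) m (by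
      intro a ha
      have h0 : (p.app V).hom a = 0 := ha
      have : a = 0 := hp.injective V (by rw [h0, map_zero])
      rw [this]; exact m.zero_mem)
    let P' : Spec Γ(X, p ⁻¹ᵁ V) := ⟨P, hP.isPrime⟩
    have hx : hV.fromSpec P' ∈ p ⁻¹ᵁ V := by
      have := hV.range_fromSpec
      rw [← SetLike.mem_coe, ← this]
      exact ⟨P', rfl⟩
    obtain ⟨_, ⟨U, hU, rfl⟩, hxU, hUV⟩ := Y.isBasis_affineOpens.exists_subset_of_mem_open hx V.isOpen
    obtain ⟨b, hb1, hb2⟩ := hV.exists_basicOpen_le (V := p ⁻¹ᵁ U) ⟨_, hxU⟩ hx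
    rw [hmem] at hb2
    have := hP.isPrime
    obtain ⟨i, hi1, hi2⟩ := exists_coeff_notMem (G := G) b P hb2
    obtain ⟨a, ha⟩ := (QuotAct.mem_range_iff hp V ((charpoly G b).coeff i)).mpr
      (fun g => smul_coeff_charpoly b i g)
    have has : a ∈ s := by
      refine ⟨U, hU, hUV, ?_⟩
      intro y hy
      obtain ⟨x, rfl⟩ := hsurj.surj y
      have hy' : x ∈ X.basicOpen ((p.app V).hom a) := by
        rw [← Scheme.preimage_basicOpen]; exact hy
      rw [ha] at hy'
      have hxV : x ∈ p ⁻¹ᵁ V := X.basicOpen_le _ hy'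
      have hxe := hV.fromSpec_primeIdealOf ⟨x, hxV⟩
      set Q := hV.primeIdealOf ⟨x, hxV⟩ with hQ
      have hxe' : hV.fromSpec Q = x := hxe
      rw [← hxe', hmem] at hy'
      obtain ⟨g, hg⟩ := exists_smul_notMem (G := G) b Q.asIdeal i hi1 hy'
      rw [← hmem, hxe', QuotAct.smul_def, Scheme.basicOpen_appLE] at hg
      have h2 : (ρ g⁻¹).hom x ∈ p ⁻¹ᵁ U := hb1 hg.2
      have h3 : ((ρ g⁻¹).hom ≫ p) x ∈ U := by rw [Scheme.Hom.comp_apply]; exact h2
      rw [hp.inv] at h3
      exact h3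
    have h4 : a ∈ m := hle (Ideal.subset_span has)
    rw [← hPm] at h4
    apply hi2
    rw [← ha]
    exact h4
  · rintro a ⟨U, hU, hUV, haU⟩
    have : Y.basicOpen ((Y.presheaf.map (homOfLE hUV).op).hom a) = Y.basicOpen a := by
      rw [Scheme.basicOpen_res]
      exact inf_eq_right.mpr haU
    rw [← this]
    exact hU.basicOpen _

section rel

variable {Z : Scheme.{u}} {ρ : G →* Aut X} {p : X ⟶ Y} {f : X ⟶ Z} {q : Y ⟶ Z}

theorem isAffineHom_of_isQuot [Finite G] (hp : SGA1.IsQuot ρ p) (hq : p ≫ q = f) [IsAffineHom f] :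
    IsAffineHom q := by
  refine ⟨fun U hU => isAffineOpen_of_preimage hp _ ?_⟩
  rw [← Scheme.Hom.comp_preimage, hq]
  exact hU.preimage f

/-- Separatedness descends along universally closed surjective morphisms. -/
theorem isSeparated_of_comp (hq : p ≫ q = f) [UniversallyClosed p] [Surjective p] [IsSeparated f] :
    IsSeparated q := by
  subst hq
  let m := pullback.map (p ≫ q) (p ≫ q) q q p p (𝟙 Z) (by simp) (by simp)
  have hm : UniversallyClosed m := MorphismProperty.pullbackMap (P := @UniversallyClosed) ‹_› ‹_› rfl rfl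
  have hcomm : p ≫ pullback.diagonal q = pullback.diagonal (p ≫ q) ≫ m := by
    apply pullback.hom_ext
    · simp only [m, Category.assoc, pullback.diagonal_fst, pullback.map, pullback.lift_fst, Category.comp_id,
        pullback.diagonal_fst_assoc]
    · simp only [m, Category.assoc, pullback.diagonal_snd, pullback.map, pullback.lift_snd, Category.comp_id,
        pullback.diagonal_snd_assoc]
  have hrange : Set.range (pullback.diagonal q) = m '' (Set.range (pullback.diagonal (p ≫ q))) := by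
    have h1 : Set.range (p ≫ pullback.diagonal q) = Set.range (pullback.diagonal (p ≫ q) ≫ m) := by rw [hcomm]
    rw [← Set.range_comp]
    rw [Scheme.Hom.comp_base, Scheme.Hom.comp_base, TopCat.coe_comp, TopCat.coe_comp] at h1
    rw [← h1, Set.range_comp, (Surjective.surj (f := p)).range_eq, Set.image_univ]
  have hcl : IsClosed (Set.range (pullback.diagonal q)) := by
    rw [hrange]
    exact m.isClosedMap _ (pullback.diagonal (p ≫ q)).isClosedEmbedding.isClosed_range
  exact ⟨IsClosedImmersion.of_isPreimmersion _ hcl⟩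

theorem quasiCompact_of_comp (hq : p ≫ q = f) [Surjective p] [QuasiCompact f] : QuasiCompact q := by
  subst hq
  refine ⟨fun U hU hcU => ?_⟩
  have h1 := QuasiCompact.isCompact_preimage (f := p ≫ q) U hU hcU
  have h2 : q ⁻¹' U = p '' ((p ≫ q) ⁻¹' U) := by
    rw [Scheme.Hom.comp_base, TopCat.coe_comp, Set.preimage_comp, Set.image_preimage_eq _ (Surjective.surj (f := p))]
  rw [h2]
  exact h1.image p.continuous

theorem isFinite_of_isQuot [Finite G] (hp : SGA1.IsQuot ρ p) (hq : p ≫ q = f) [LocallyOfFiniteType f] :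
    IsFinite p := by
  subst hq
  rw [IsFinite.iff_isIntegralHom_and_locallyOfFiniteType]
  exact ⟨FreeQuotSch.isIntegralHom_of_isQuot hp, locallyOfFiniteType_of_comp p q⟩

theorem locallyOfFiniteType_of_isQuot [Finite G] (hp : SGA1.IsQuot ρ p) (hq : p ≫ q = f)
    [LocallyOfFiniteType f] [IsLocallyNoetherian Z] : LocallyOfFiniteType q := by
  have h1 := isFinite_of_isQuot hp hq
  subst hq
  refine ⟨fun {W} hW {U} hU e => ?_⟩
  have hV : IsAffineOpen (p ⁻¹ᵁ U) := hU.preimage p
  have h2 : (p.app U).hom.Finite := h1.finite_app U hU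
  have e' : p ⁻¹ᵁ U ≤ (p ≫ q) ⁻¹ᵁ W := by
    rw [Scheme.Hom.comp_preimage]; exact p.preimage_mono e
  have h3 := (p ≫ q).finiteType_appLE hW hV e'
  let := (p.app U).hom.toAlgebra
  let := (q.appLE W U e).hom.toAlgebra
  let := ((p ≫ q).appLE W (p ⁻¹ᵁ U) e').hom.toAlgebra
  have : IsScalarTower Γ(Z, W) Γ(Y, U) Γ(X, p ⁻¹ᵁ U) := by
    refine IsScalarTower.of_algebraMap_eq' ?_
    change ((p ≫ q).appLE W (p ⁻¹ᵁ U) e').hom = (p.app U).hom.comp (q.appLE W U e).hom
    rw [← CommRingCat.hom_comp, Scheme.Hom.app_eq_appLE, Scheme.Hom.appLE_comp_appLE]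
  have : IsNoetherianRing Γ(Z, W) := IsLocallyNoetherian.component_noetherian ⟨W, hW⟩
  have h4 : (⊤ : Subalgebra Γ(Z, W) Γ(Y, U)).FG :=
    fg_of_fg_of_fg Γ(Z, W) Γ(Y, U) Γ(X, p ⁻¹ᵁ U) h3.out h2.1 (hp.injective U)
  exact ⟨h4⟩

end rel

end Groth.Agent.Sga1.QuotAffine
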