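import Groth.Agent.Sga1.QuotAct
import Mathlib.AlgebraicGeometry.Morphisms.Etale

/-!
* transitivity of `G` on field valued points of the fibres of `X → X/G`;
* rigidity: two morphisms from a connected scheme to an unramified separated scheme agreeing somewhere are equal.
-/

set_option autoImplicit false
open CategoryTheory CategoryTheory.Limits AlgebraicGeometry
universe u

namespace Groth.Agent.Sga1.Transit

open Groth.Agent.Sga1

variable {X Y : Scheme.{u}} {G : Type u} [Group G]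

theorem hom_eq_of_appLE_eq {Z X : Scheme.{u}} (a b : Z ⟶ X) [IsAffine Z] {U : X.Opens} (hU : IsAffineOpen U)
    (ea : (⊤ : Z.Opens) ≤ a ⁻¹ᵁ U) (eb : (⊤ : Z.Opens) ≤ b ⁻¹ᵁ U) (h : a.appLE U ⊤ ea = b.appLE U ⊤ eb) :
    a = b := by
  have h1 := IsAffineOpen.SpecMap_appLE_fromSpec a hU (isAffineOpen_top Z) ea
  have h2 := IsAffineOpen.SpecMap_appLE_fromSpec b hU (isAffineOpen_top Z) eb
  rw [IsAffineOpen.fromSpec_top] at h1 h2
  rw [← cancel_epi Z.isoSpec.inv, ← h1, ← h2, h]

theorem congr_appLE {Z X : Scheme.{u}} {a b : Z ⟶ X} (h : a = b) (U : X.Opens) (V : Z.Opens)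
    (ea : V ≤ a ⁻¹ᵁ U) (eb : V ≤ b ⁻¹ᵁ U) : a.appLE U V ea = b.appLE U V eb := by
  subst h; rfl

/-- `G` acts transitively on the points of `X` with values in an affine integral scheme `Z` (e.g. the spectrum
of a field), landing over an affine open of `Y`, with a given image in `Y`. -/
theorem exists_comp_eq_of_isDomain [Finite G] {ρ : G →* Aut X} {p : X ⟶ Y} (hp : SGA1.IsQuot ρ p)
    {Z : Scheme.{u}} [IsAffine Z] [IsDomain Γ(Z, ⊤)] (a b : Z ⟶ X) (h : a ≫ p = b ≫ p)
    (U : Y.Opens) (hU : IsAffineOpen U) (e : (⊤ : Z.Opens) ≤ (a ≫ p) ⁻¹ᵁ U) :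
    ∃ g : G, a = b ≫ (ρ g).hom := by
  have := hp.affine
  have hV : IsAffineOpen (p ⁻¹ᵁ U) := hU.preimage p
  have ea : (⊤ : Z.Opens) ≤ a ⁻¹ᵁ (p ⁻¹ᵁ U) := by rwa [← Scheme.Hom.comp_preimage]
  have eb : (⊤ : Z.Opens) ≤ b ⁻¹ᵁ (p ⁻¹ᵁ U) := by rwa [← Scheme.Hom.comp_preimage, ← h]
  let := QuotAct.act ρ p hp.inv U
  obtain ⟨g, hg⟩ := InvHom.exists_forall_eq_smul (G := G) (a.appLE (p ⁻¹ᵁ U) ⊤ ea).hom (b.appLE (p ⁻¹ᵁ U) ⊤ eb).hom (by
    intro s hs
    obtain ⟨t, rfl⟩ := (QuotAct.mem_range_iff hp U s).mpr hs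
    rw [← CommRingCat.comp_apply, ← CommRingCat.comp_apply, Scheme.Hom.app_eq_appLE,
      Scheme.Hom.appLE_comp_appLE, Scheme.Hom.appLE_comp_appLE, congr_appLE h])
  refine ⟨g⁻¹, hom_eq_of_appLE_eq a (b ≫ (ρ g⁻¹).hom) hV ea ?_ ?_⟩
  · rw [Scheme.Hom.comp_preimage]
    exact eb.trans (b.preimage_mono (SGA1.preimage_le_of_inv ρ p hp.inv g⁻¹ U))
  · ext s
    rw [hg s, QuotAct.smul_def, ← CommRingCat.comp_apply, Scheme.Hom.appLE_comp_appLE]

/-- `G` acts transitively on the field-valued points of `X` with given image in `Y = X/G`. -/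
theorem exists_comp_eq [Finite G] {ρ : G →* Aut X} {p : X ⟶ Y} (hp : SGA1.IsQuot ρ p)
    {K : Type u} [Field K] (ξ₁ ξ₂ : Spec (CommRingCat.of K) ⟶ X) (h : ξ₁ ≫ p = ξ₂ ≫ p) :
    ∃ g : G, ξ₁ = ξ₂ ≫ (ρ g).hom := by
  let x : Spec (CommRingCat.of K) := (default : PrimeSpectrum K)
  obtain ⟨_, ⟨U, hU, rfl⟩, hxU, -⟩ := Y.isBasis_affineOpens.exists_subset_of_mem_open
    (Set.mem_univ ((ξ₁ ≫ p).base x)) isOpen_univ
  have : IsDomain Γ(Spec (CommRingCat.of K), ⊤) :=
    (Scheme.ΓSpecIso (CommRingCat.of K)).commRingCatIsoToRingEquiv.toMulEquiv.isDomain K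
  refine exists_comp_eq_of_isDomain hp ξ₁ ξ₂ h U hU ?_
  intro y _
  have hy : y = x := Subsingleton.elim (α := PrimeSpectrum K) _ _
  rw [hy]
  exact hxU

/-- Rigidity: two morphisms `a b : Z ⟶ X` over `Y`, with `Z` connected and `X ⟶ Y` unramified and separated,
are equal as soon as they agree on some nonempty `W ⟶ Z`. -/
theorem eq_of_connected {Z X Y W : Scheme.{u}} (f : X ⟶ Y) [FormallyUnramified f] [LocallyOfFiniteType f]
    [IsSeparated f] [PreconnectedSpace Z] (a b : Z ⟶ X) (hab : a ≫ f = b ≫ f)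
    [Nonempty W] (ξ : W ⟶ Z) (h : ξ ≫ a = ξ ≫ b) : a = b := by
  let i := pullback.fst (pullback.diagonal f) (pullback.lift a b hab)
  let j := pullback.snd (pullback.diagonal f) (pullback.lift a b hab)
  have hij : i ≫ pullback.diagonal f = j ≫ pullback.lift a b hab := pullback.condition
  have h1 : IsOpenImmersion j := inferInstance
  have h2 : IsClosedImmersion j := inferInstance
  have h3 : IsClopen (Set.range j) := ⟨j.isClosedEmbedding.isClosed_range, j.isOpenEmbedding.isOpen_range⟩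
  obtain ⟨w⟩ := ‹Nonempty W›
  let l : W ⟶ pullback (pullback.diagonal f) (pullback.lift a b hab) :=
    pullback.lift (ξ ≫ a) ξ (by
      apply pullback.hom_ext
      · simp only [Category.assoc, pullback.diagonal_fst, pullback.lift_fst, Category.comp_id]
      · simp only [Category.assoc, pullback.diagonal_snd, pullback.lift_snd, Category.comp_id, h])
  have h4 : Set.range j = Set.univ := by
    refine (isClopen_iff.mp h3).resolve_left ?_
    exact Set.Nonempty.ne_empty ⟨j (l w), ⟨l w, rfl⟩⟩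
  have h5 : Surjective j := ⟨Set.range_eq_univ.mp h4⟩
  have h6 : IsIso j := by
    have : Epi j.base := by
      rw [TopCat.epi_iff_surjective]; exact h5.surj
    exact IsOpenImmersion.isIso j
  have h7 : j ≫ a = j ≫ b := by
    have ha : j ≫ a = i := by
      have := congrArg (fun t => t ≫ pullback.fst f f) hij
      simp only [Category.assoc, pullback.diagonal_fst, pullback.lift_fst, Category.comp_id] at this
      exact this.symm
    have hb : j ≫ b = i := by
      have := congrArg (fun t => t ≫ pullback.snd f f) hij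
      simp only [Category.assoc, pullback.diagonal_snd, pullback.lift_snd, Category.comp_id] at this
      exact this.symm
    rw [ha, hb]
  exact (cancel_epi j).mp h7

end Groth.Agent.Sga1.Transit
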