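import Mathlib.RingTheory.Invariant.Basic

/-!
Ring homomorphisms to a domain which agree on invariants differ by a group element.
-/

set_option autoImplicit false

namespace Groth.Agent.Sga1.InvHom

open Polynomial MulSemiringAction

/-- If two ring homs `φ ψ : A → K` to a domain agree on the `G`-invariants (`G` finite) then for every `a`
there is `g` with `φ a = ψ (g • a)`. -/
theorem exists_eq_smul {A G K : Type*} [CommRing A] [CommRing K] [IsDomain K] [Group G] [Finite G]
    [MulSemiringAction G A] (φ ψ : A →+* K) (h : ∀ a : A, (∀ g : G, g • a = a) → φ a = ψ a) (a : A) :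
    ∃ g : G, φ a = ψ (g • a) := by
  cases nonempty_fintype G
  have h1 : (charpoly G a).map φ = (charpoly G a).map ψ := by
    ext n
    rw [coeff_map, coeff_map]
    exact h _ fun g => smul_coeff_charpoly a n g
  have h2 : ((charpoly G a).map φ).eval (φ a) = 0 := by
    rw [eval_map, eval₂_hom, eval_charpoly, map_zero]
  rw [h1, charpoly_eq, Polynomial.map_prod, eval_prod, Finset.prod_eq_zero_iff] at h2
  obtain ⟨g, -, hg⟩ := h2
  refine ⟨g, ?_⟩
  simpa [sub_eq_zero] using hg

/-- If two ring homs `φ ψ : A → K` to a domain agree on the `G`-invariants (`G` finite) then there is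
`g : G` with `φ a = ψ (g • a)` for all `a`. -/
theorem exists_forall_eq_smul {A G K : Type*} [CommRing A] [CommRing K] [IsDomain K] [Group G] [Finite G]
    [MulSemiringAction G A] (φ ψ : A →+* K) (h : ∀ a : A, (∀ g : G, g • a = a) → φ a = ψ a) :
    ∃ g : G, ∀ a, φ a = ψ (g • a) := by
  cases nonempty_fintype G
  by_contra! hc
  choose a ha using hc
  let e := Fintype.equivFin G
  let P : A[X] := ∑ g : G, C (a g) * X ^ (e g : ℕ)
  have hP : ∀ g, P.coeff (e g : ℕ) = a g := by
    intro g
    simp only [P, finsetSum_coeff, coeff_C_mul, coeff_X_pow]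
    rw [Finset.sum_eq_single g]
    · simp
    · intro b _ hb
      rw [if_neg, mul_zero]
      intro hh
      exact hb (e.injective (Fin.ext hh)).symm
    · intro hh; exact absurd (Finset.mem_univ g) hh
  obtain ⟨g, hg⟩ := exists_eq_smul (A := A[X]) (G := G) (K := K[X]) (mapRingHom φ) (mapRingHom ψ) (by
    intro Q hQ
    ext n
    simp only [coe_mapRingHom, coeff_map]
    refine h _ fun g => ?_
    rw [← coeff_smul, hQ g]) P
  apply ha g
  have := congrArg (fun Q : K[X] => Q.coeff (e g : ℕ)) hg
  simpa [coeff_map, coeff_smul, hP] using this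

end Groth.Agent.Sga1.InvHom
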