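import Groth.Prelude.Def_SGA1
import Groth.Agent.Sga1.InvHom

/-!
The action of `G` on the sections `Γ(X, p⁻¹U)` for a `G`-invariant morphism `p : X ⟶ Y`, and
`IsQuot` in terms of it.
-/

set_option autoImplicit false
open CategoryTheory CategoryTheory.Limits AlgebraicGeometry
universe u

namespace Groth.Agent.Sga1.QuotAct

variable {X Y : Scheme.{u}} {G : Type u} [Group G]

theorem appLE_id_apply (U : X.Opens) (e : U ≤ (𝟙 X : X ⟶ X) ⁻¹ᵁ U) (s : Γ(X, U)) :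
    ((𝟙 X : X ⟶ X).appLE U U e).hom s = s := by
  have h : (𝟙 X : X ⟶ X).appLE U U e = 𝟙 _ := by
    rw [Scheme.Hom.appLE, Scheme.Hom.id_app]
    exact (Category.id_comp _).trans (X.presheaf.map_id _)
  rw [h]; rfl

theorem hom_one (ρ : G →* Aut X) : (ρ 1).hom = 𝟙 X := by
  rw [map_one]; rfl

theorem hom_mul (ρ : G →* Aut X) (g h : G) : (ρ (g * h)).hom = (ρ h).hom ≫ (ρ g).hom := by
  rw [map_mul]; rfl

/-- The action of `G` on the functions on `p⁻¹U`: `g • s = (g⁻¹)^* s`. -/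
noncomputable abbrev act (ρ : G →* Aut X) (p : X ⟶ Y) (hinv : ∀ g : G, (ρ g).hom ≫ p = p) (U : Y.Opens) :
    MulSemiringAction G Γ(X, p ⁻¹ᵁ U) where
  smul g s := ((ρ g⁻¹).hom.appLE (p ⁻¹ᵁ U) (p ⁻¹ᵁ U) (SGA1.preimage_le_of_inv ρ p hinv g⁻¹ U)).hom s
  one_smul s := by
    change ((ρ 1⁻¹).hom.appLE (p ⁻¹ᵁ U) (p ⁻¹ᵁ U) _).hom s = s
    have h1 : (ρ (1 : G)⁻¹).hom = 𝟙 X := by rw [inv_one, hom_one]
    have : ∀ (f : X ⟶ X) (hf : f = 𝟙 X) (e : p ⁻¹ᵁ U ≤ f ⁻¹ᵁ (p ⁻¹ᵁ U)), (f.appLE _ _ e).hom s = s := by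
      rintro f rfl e
      exact appLE_id_apply _ e s
    exact this _ h1 _
  mul_smul g h s := by
    change ((ρ (g * h)⁻¹).hom.appLE (p ⁻¹ᵁ U) (p ⁻¹ᵁ U) _).hom s =
      ((ρ g⁻¹).hom.appLE (p ⁻¹ᵁ U) (p ⁻¹ᵁ U) _).hom (((ρ h⁻¹).hom.appLE (p ⁻¹ᵁ U) (p ⁻¹ᵁ U) _).hom s)
    have h1 : (ρ (g * h)⁻¹).hom = (ρ g⁻¹).hom ≫ (ρ h⁻¹).hom := by rw [mul_inv_rev, hom_mul]
    have : ∀ (f : X ⟶ X) (hf : f = (ρ g⁻¹).hom ≫ (ρ h⁻¹).hom) (e : p ⁻¹ᵁ U ≤ f ⁻¹ᵁ (p ⁻¹ᵁ U)),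
        (f.appLE _ _ e).hom s = ((ρ g⁻¹).hom.appLE (p ⁻¹ᵁ U) (p ⁻¹ᵁ U) (SGA1.preimage_le_of_inv ρ p hinv g⁻¹ U)).hom
          (((ρ h⁻¹).hom.appLE (p ⁻¹ᵁ U) (p ⁻¹ᵁ U) (SGA1.preimage_le_of_inv ρ p hinv h⁻¹ U)).hom s) := by
      rintro f rfl e
      rw [← CommRingCat.comp_apply, Scheme.Hom.appLE_comp_appLE]
    exact this _ h1 _
  smul_zero g := map_zero _
  smul_add g := map_add _
  smul_one g := map_one _
  smul_mul g := map_mul _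

theorem smul_def (ρ : G →* Aut X) (p : X ⟶ Y) (hinv : ∀ g : G, (ρ g).hom ≫ p = p) (U : Y.Opens)
    (g : G) (s : Γ(X, p ⁻¹ᵁ U)) :
    letI := act ρ p hinv U
    g • s = ((ρ g⁻¹).hom.appLE (p ⁻¹ᵁ U) (p ⁻¹ᵁ U) (SGA1.preimage_le_of_inv ρ p hinv g⁻¹ U)).hom s := rfl

theorem inv_smul_def (ρ : G →* Aut X) (p : X ⟶ Y) (hinv : ∀ g : G, (ρ g).hom ≫ p = p) (U : Y.Opens)
    (g : G) (s : Γ(X, p ⁻¹ᵁ U)) :
    letI := act ρ p hinv U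
    g⁻¹ • s = ((ρ g).hom.appLE (p ⁻¹ᵁ U) (p ⁻¹ᵁ U) (SGA1.preimage_le_of_inv ρ p hinv g U)).hom s := by
  rw [smul_def]
  have : ∀ (g' : G) (hg : g' = g), ((ρ g').hom.appLE (p ⁻¹ᵁ U) (p ⁻¹ᵁ U)
      (SGA1.preimage_le_of_inv ρ p hinv g' U)).hom s =
      ((ρ g).hom.appLE (p ⁻¹ᵁ U) (p ⁻¹ᵁ U) (SGA1.preimage_le_of_inv ρ p hinv g U)).hom s := by
    rintro g' rfl; rfl
  exact this _ (inv_inv g)

/-- The invariants of the action on `Γ(X, p⁻¹U)` are exactly the image of `Γ(Y, U)`. -/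
theorem mem_range_iff {ρ : G →* Aut X} {p : X ⟶ Y} (hp : SGA1.IsQuot ρ p) (U : Y.Opens) (s : Γ(X, p ⁻¹ᵁ U)) :
    letI := act ρ p hp.inv U
    s ∈ Set.range (p.app U).hom ↔ ∀ g : G, g • s = s := by
  rw [hp.range_iff U s]
  constructor
  · intro h g
    rw [smul_def]; exact h g⁻¹
  · intro h g
    have := h g⁻¹
    rwa [inv_smul_def] at this

theorem smul_app {ρ : G →* Aut X} {p : X ⟶ Y} (hinv : ∀ g : G, (ρ g).hom ≫ p = p) (U : Y.Opens) (g : G) (s : Γ(Y, U)) :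
    letI := act ρ p hinv U
    g • (p.app U).hom s = (p.app U).hom s := by
  rw [smul_def, ← CommRingCat.comp_apply]
  have : ∀ (f : X ⟶ Y) (hf : f = p) (e : p ⁻¹ᵁ U ≤ f ⁻¹ᵁ U), (f.appLE U (p ⁻¹ᵁ U) e).hom s = (p.app U).hom s := by
    rintro f rfl e
    simp [Scheme.Hom.appLE]
  rw [Scheme.Hom.app_eq_appLE, Scheme.Hom.appLE_comp_appLE]
  exact (this _ (hinv g⁻¹) _).trans (by rw [Scheme.Hom.app_eq_appLE])

/-- `Γ(Y,U) → Γ(X,p⁻¹U)` with the `G`-action is an invariant extension. -/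
theorem isInvariant {ρ : G →* Aut X} {p : X ⟶ Y} (hp : SGA1.IsQuot ρ p) (U : Y.Opens) :
    letI := act ρ p hp.inv U
    letI := (p.app U).hom.toAlgebra
    Algebra.IsInvariant Γ(Y, U) Γ(X, p ⁻¹ᵁ U) G := by
  let := act ρ p hp.inv U
  let := (p.app U).hom.toAlgebra
  refine ⟨fun b hb => ?_⟩
  exact (mem_range_iff hp U b).mpr hb

theorem smulCommClass {ρ : G →* Aut X} {p : X ⟶ Y} (hinv : ∀ g : G, (ρ g).hom ≫ p = p) (U : Y.Opens) :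
    letI := act ρ p hinv U
    letI := (p.app U).hom.toAlgebra
    SMulCommClass G Γ(Y, U) Γ(X, p ⁻¹ᵁ U) := by
  let := act ρ p hinv U
  let := (p.app U).hom.toAlgebra
  refine ⟨fun g a b => ?_⟩
  rw [Algebra.smul_def, Algebra.smul_def, smul_mul']
  congr 1
  exact smul_app hinv U g a

end Groth.Agent.Sga1.QuotAct
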