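import Groth.Agent.Sga1.EtaleQuot
import Groth.Agent.Sga1.QuotAct
import Groth.Agent.S2909
import Mathlib.AlgebraicGeometry.Morphisms.Etale

/-!
Quotients of etale schemes by finite groups are etale.
-/

set_option autoImplicit false
open CategoryTheory CategoryTheory.Limits AlgebraicGeometry
universe u

namespace Groth.Agent.Sga1.EtaleQuotSch

open Groth.Agent.Sga1

variable {X X' Y : Scheme.{u}} {G : Type u} [Group G] {ρ : G →* Aut X}

/-- The action on `Γ(X, p⁻¹V)` fixes functions coming from `Y`. -/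
theorem smul_appLE (f : X ⟶ Y) (hρ : ∀ g : G, (ρ g).hom ≫ f = f) (p : X ⟶ X')
    (hp : SGA1.IsQuot ρ p) (U : Y.Opens) (V : X'.Opens) (e : p ⁻¹ᵁ V ≤ f ⁻¹ᵁ U) (g : G) (a : Γ(Y, U)) :
    letI := QuotAct.act ρ p hp.inv V
    g • (f.appLE U (p ⁻¹ᵁ V) e).hom a = (f.appLE U (p ⁻¹ᵁ V) e).hom a := by
  rw [QuotAct.smul_def, ← CommRingCat.comp_apply, Scheme.Hom.appLE_comp_appLE]
  have : ∀ (f' : X ⟶ Y) (hf : f' = f) (e' : p ⁻¹ᵁ V ≤ f' ⁻¹ᵁ U),
      (f'.appLE U (p ⁻¹ᵁ V) e').hom a = (f.appLE U (p ⁻¹ᵁ V) e).hom a := by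
    rintro f' rfl e'; rfl
  exact this _ (hρ _) _

theorem etale_local [Finite G] [IsLocallyNoetherian Y] (f : X ⟶ Y) [Etale f] (hρ : ∀ g : G, (ρ g).hom ≫ f = f)
    (p : X ⟶ X') (hp : SGA1.IsQuot ρ p) (q : X' ⟶ Y) (hq : p ≫ q = f) [LocallyOfFiniteType q]
    (U : Y.Opens) (hU : IsAffineOpen U) (V : X'.Opens) (hV : IsAffineOpen V) (hVU : V ≤ q ⁻¹ᵁ U) :
    (p.app V).hom.Etale ∧ (q.appLE U V hVU).hom.Etale := by
  have := hp.affine
  have hW : IsAffineOpen (p ⁻¹ᵁ V) := hV.preimage p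
  have e : p ⁻¹ᵁ V ≤ f ⁻¹ᵁ U := by
    rw [← hq, Scheme.Hom.comp_preimage]
    exact fun x hx => hVU hx
  have hcomp : q.appLE U V hVU ≫ p.app V = f.appLE U (p ⁻¹ᵁ V) e := by
    rw [Scheme.Hom.app_eq_appLE, Scheme.Hom.appLE_comp_appLE]
    have : ∀ (f' : X ⟶ Y) (hf : f' = f) (e' : p ⁻¹ᵁ V ≤ f' ⁻¹ᵁ U),
        (f'.appLE U (p ⁻¹ᵁ V) e') = (f.appLE U (p ⁻¹ᵁ V) e) := by
      rintro f' rfl e'; rfl
    exact this _ hq _
  have hfet : (f.appLE U (p ⁻¹ᵁ V) e).hom.Etale := HasRingHomProperty.appLE @Etale f inferInstance ⟨U, hU⟩ ⟨_, hW⟩ e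
  have hqft : (q.appLE U V hVU).hom.FiniteType := q.finiteType_appLE hU hV hVU
  let := QuotAct.act ρ p hp.inv V
  let := (p.app V).hom.toAlgebra
  let := (f.appLE U (p ⁻¹ᵁ V) e).hom.toAlgebra
  let := (q.appLE U V hVU).hom.toAlgebra
  have : IsScalarTower Γ(Y, U) Γ(X', V) Γ(X, p ⁻¹ᵁ V) := IsScalarTower.of_algebraMap_eq' (by
    simp only [RingHom.algebraMap_toAlgebra]
    rw [← CommRingCat.hom_comp, hcomp])
  have := QuotAct.isInvariant hp V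
  have := QuotAct.smulCommClass hp.inv V
  have : SMulCommClass G Γ(Y, U) Γ(X, p ⁻¹ᵁ V) := ⟨fun g a b => by
    rw [Algebra.smul_def, Algebra.smul_def, smul_mul']
    congr 1
    exact smul_appLE f hρ p hp U V e g a⟩
  have : Algebra.Etale Γ(Y, U) Γ(X, p ⁻¹ᵁ V) := RingHom.etale_algebraMap.mp hfet
  have : Algebra.FiniteType Γ(Y, U) Γ(X', V) := RingHom.finiteType_algebraMap.mp hqft
  have hinj : Function.Injective (algebraMap Γ(X', V) Γ(X, p ⁻¹ᵁ V)) := hp.injective V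
  have h1 : Algebra.Etale Γ(X', V) Γ(X, p ⁻¹ᵁ V) := EtaleQuot.etale Γ(Y, U) G hinj
  have : IsNoetherianRing Γ(Y, U) := IsLocallyNoetherian.component_noetherian ⟨U, hU⟩
  have : Algebra.FinitePresentation Γ(Y, U) Γ(X', V) := Algebra.FinitePresentation.of_finiteType.mp inferInstance
  have h2 := EtaleQuot.projective_finite (C := Γ(X', V)) (B := Γ(X, p ⁻¹ᵁ V)) Γ(Y, U) G hinj
  have h3 := h2.1
  have h4 := h2.2
  have : Module.FaithfullyFlat Γ(X', V) Γ(X, p ⁻¹ᵁ V) := by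
    have : Algebra.IsIntegral Γ(X', V) Γ(X, p ⁻¹ᵁ V) := inferInstance
    have : FaithfulSMul Γ(X', V) Γ(X, p ⁻¹ᵁ V) := (faithfulSMul_iff_algebraMap_injective _ _).mpr hinj
    exact Module.FaithfullyFlat.of_comap_surjective (Algebra.IsIntegral.comap_surjective _ _)
  have h5 : Algebra.Etale Γ(Y, U) Γ(X', V) :=
    EtaleQuot.etale_of_etale_comp (B := Γ(X, p ⁻¹ᵁ V))
  exact ⟨RingHom.etale_algebraMap.mpr h1, RingHom.etale_algebraMap.mpr h5⟩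

theorem etale_and_etale [Finite G] [IsLocallyNoetherian Y] (f : X ⟶ Y) [Etale f]
    (hρ : ∀ g : G, (ρ g).hom ≫ f = f)
    (p : X ⟶ X') (hp : SGA1.IsQuot ρ p) (q : X' ⟶ Y) (hq : p ≫ q = f) [LocallyOfFiniteType q] :
    Etale p ∧ Etale q := by
  have := hp.affine
  have hex : ∀ y : X', ∃ (U : Y.Opens) (V : X'.Opens), IsAffineOpen U ∧ IsAffineOpen V ∧ y ∈ V ∧
      V ≤ q ⁻¹ᵁ U := by
    intro y
    obtain ⟨_, ⟨U, hU, rfl⟩, hyU, -⟩ := Y.isBasis_affineOpens.exists_subset_of_mem_open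
      (Set.mem_univ (q y)) isOpen_univ
    obtain ⟨_, ⟨V, hV, rfl⟩, hyV, hVU⟩ := X'.isBasis_affineOpens.exists_subset_of_mem_open
      (show y ∈ (q ⁻¹ᵁ U : Set X') from hyU) (q ⁻¹ᵁ U).2
    exact ⟨U, V, hU, hV, hyV, hVU⟩
  have hloc := (RingHom.Etale.stableUnderComposition.stableUnderCompositionWithLocalizationAway
      (RingHom.Etale.propertyIsLocal.HoldsForLocalizationAway RingHom.Etale.containsIdentities)).left
  constructor
  · rw [HasRingHomProperty.iff_exists_appLE (P := @Etale) hloc]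
    intro x
    obtain ⟨U, V, hU, hV, hyV, hVU⟩ := hex (p x)
    refine ⟨⟨V, hV⟩, ⟨p ⁻¹ᵁ V, hV.preimage p⟩, hyV, le_rfl, ?_⟩
    rw [← Scheme.Hom.app_eq_appLE]
    exact (etale_local f hρ p hp q hq U hU V hV hVU).1
  · rw [HasRingHomProperty.iff_exists_appLE (P := @Etale) hloc]
    intro x
    obtain ⟨U, V, hU, hV, hyV, hVU⟩ := hex x
    exact ⟨⟨U, hU⟩, ⟨V, hV⟩, hyV, hVU, (etale_local f hρ p hp q hq U hU V hV hVU).2⟩

/-- If `f = p ≫ q` is finite over a locally Noetherian scheme, `q` is affine and `p` is injective on sections then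
`q` is finite. -/
theorem isFinite_of_isFinite [IsLocallyNoetherian Y] (p : X ⟶ X') (q : X' ⟶ Y) [IsFinite (p ≫ q)]
    [IsAffineHom q] (hinj : ∀ V : X'.Opens, Function.Injective (p.app V).hom) : IsFinite q := by
  rw [isFinite_iff]
  refine ⟨inferInstance, fun U hU => ?_⟩
  have h1 : ((p.app (q ⁻¹ᵁ U)).hom.comp (q.app U).hom).Finite := by
    have h0 : ((p ≫ q).app U).hom.Finite := IsFinite.finite_app (p ≫ q) U hU
    rw [Scheme.Hom.comp_app] at h0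
    exact h0
  let := (q.app U).hom.toAlgebra
  let := (p.app (q ⁻¹ᵁ U)).hom.toAlgebra
  let := ((p.app (q ⁻¹ᵁ U)).hom.comp (q.app U).hom).toAlgebra
  have : IsScalarTower Γ(Y, U) Γ(X', q ⁻¹ᵁ U) Γ(X, p ⁻¹ᵁ q ⁻¹ᵁ U) := IsScalarTower.of_algebraMap_eq' rfl
  have : IsNoetherianRing Γ(Y, U) := IsLocallyNoetherian.component_noetherian ⟨U, hU⟩
  have : Module.Finite Γ(Y, U) Γ(X, p ⁻¹ᵁ q ⁻¹ᵁ U) := h1
  change Module.Finite Γ(Y, U) Γ(X', q ⁻¹ᵁ U)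
  exact Module.Finite.of_injective
    (IsScalarTower.toAlgHom Γ(Y, U) Γ(X', q ⁻¹ᵁ U) Γ(X, p ⁻¹ᵁ q ⁻¹ᵁ U)).toLinearMap (hinj (q ⁻¹ᵁ U))

end Groth.Agent.Sga1.EtaleQuotSch
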