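import Groth.Prelude.Def_SGA1
import Groth.Agent.S2913
import Mathlib.AlgebraicGeometry.Gluing
import Mathlib.AlgebraicGeometry.PullbackCarrier

/-!
# Effective epimorphisms of schemes from quotient maps (SGA 1 VIII 5.1)
-/

set_option autoImplicit false
set_option maxHeartbeats 400000
set_option backward.isDefEq.respectTransparency false
open CategoryTheory CategoryTheory.Limits AlgebraicGeometry Opposite TopologicalSpace
universe u

namespace Groth.Agent.Sga1.EffEpi

open SGA1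

/-- The restriction of `g` over an open is an epimorphism. -/
theorem epi_restrict {S' S : Scheme.{u}} (g : S' ⟶ S) [Surjective g]
    (hinj : ∀ U : S.Opens, Function.Injective (g.app U).hom) (U : S.Opens) : Epi (g ∣_ U) := by
  have : Surjective (g ∣_ U) := IsZariskiLocalAtTarget.restrict ‹_› U
  refine Groth.Agent.S2913.result (g ∣_ U) (fun V => ?_)
  rw [morphismRestrict_app]
  have h1 : Function.Injective (S'.presheaf.map (eqToHom (image_morphismRestrict_preimage g U V)).op).hom :=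
    (ConcreteCategory.bijective_of_isIso
      (S'.presheaf.map (eqToHom (image_morphismRestrict_preimage g U V)).op)).injective
  rw [CommRingCat.hom_comp, RingHom.coe_comp]
  exact h1.comp (hinj _)

/-- Descent of morphisms along `g`. -/
theorem exists_desc {S' S : Scheme.{u}} (g : S' ⟶ S) (hq : Topology.IsQuotientMap g.base)
    (hinj : ∀ U : S.Opens, Function.Injective (g.app U).hom)
    (heq : ∀ (U : S.Opens) (s' : Γ(S', g ⁻¹ᵁ U)),
      (SGA1.overlapFstApp g U).hom s' = (SGA1.overlapSndApp g U).hom s' →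
      s' ∈ Set.range (g.app U).hom)
    {T : Scheme.{u}} (e : S' ⟶ T) (he : pullback.fst g g ≫ e = pullback.snd g g ≫ e) :
    ∃ d : S ⟶ T, g ≫ d = e := by
  have hsurj : Surjective g := ⟨hq.surjective⟩
  have hfac : ∀ x y : S', g.base x = g.base y → e.base x = e.base y := by
    intro x y h
    obtain ⟨z, hz1, hz2⟩ := Scheme.Pullback.exists_preimage_pullback (f := g) (g := g) x y h
    rw [← hz1, ← hz2, ← Scheme.Hom.comp_apply, ← Scheme.Hom.comp_apply, he]
  obtain ⟨b, hb⟩ : ∃ b : C(S, T), ∀ x, b (g.base x) = e.base x := by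
    have hqm : Topology.IsQuotientMap (⟨g.base, g.continuous⟩ : C(S', S)) := hq
    refine ⟨hqm.lift ⟨e.base, e.continuous⟩ (fun x y h => hfac x y h), fun x => ?_⟩
    exact congrArg (fun f : C(S', T) => f x) (hqm.lift_comp ⟨e.base, e.continuous⟩
      (fun x y h => hfac x y h))
  let U : T.Opens → S.Opens := fun V => Opens.comap b V
  have hU : ∀ V : T.Opens, g ⁻¹ᵁ U V = e ⁻¹ᵁ V := by
    intro V
    ext x
    show b (g.base x) ∈ V ↔ e.base x ∈ V
    rw [hb]
  -- the sections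
  have hran : ∀ (V : T.Opens) (t : Γ(T, V)),
      (e.appLE V (g ⁻¹ᵁ U V) (hU V).le).hom t ∈ (g.app (U V)).hom.range := by
    intro V t
    refine heq _ _ ?_
    have h1 : e.appLE V (g ⁻¹ᵁ U V) (hU V).le ≫ SGA1.overlapFstApp g (U V) =
        e.appLE V (g ⁻¹ᵁ U V) (hU V).le ≫ SGA1.overlapSndApp g (U V) := by
      have hle : (pullback.fst g g) ⁻¹ᵁ (g ⁻¹ᵁ (U V)) ≤ (pullback.fst g g ≫ e) ⁻¹ᵁ V := by
        rw [Scheme.Hom.comp_preimage, ← hU V]
      have hle' : (pullback.fst g g) ⁻¹ᵁ (g ⁻¹ᵁ (U V)) ≤ (pullback.snd g g ≫ e) ⁻¹ᵁ V := by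
        rw [← he]; exact hle
      have e1 : e.appLE V (g ⁻¹ᵁ U V) (hU V).le ≫ SGA1.overlapFstApp g (U V) =
          (pullback.fst g g ≫ e).appLE V _ hle := by
        unfold SGA1.overlapFstApp
        rw [Scheme.Hom.app_eq_appLE, Scheme.Hom.appLE_comp_appLE]
      have e2 : e.appLE V (g ⁻¹ᵁ U V) (hU V).le ≫ SGA1.overlapSndApp g (U V) =
          (pullback.snd g g ≫ e).appLE V _ hle' := by
        unfold SGA1.overlapSndApp
        rw [Scheme.Hom.appLE_comp_appLE]
      rw [e1, e2]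
      congr 1
    exact congrArg (fun f => f.hom t) h1
  have hψ : ∀ V : T.Opens, ∃ ψ : Γ(T, V) ⟶ Γ(S, U V),
      ψ ≫ g.app (U V) = e.appLE V (g ⁻¹ᵁ U V) (hU V).le := by
    intro V
    let r : Γ(S, U V) ≃+* (g.app (U V)).hom.range :=
      RingEquiv.ofBijective (g.app (U V)).hom.rangeRestrict
        ⟨fun x y h => hinj _ (congrArg Subtype.val h), RingHom.rangeRestrict_surjective _⟩
    refine ⟨CommRingCat.ofHom ((r.symm : (g.app (U V)).hom.range →+* Γ(S, U V)).comp
      ((e.appLE V (g ⁻¹ᵁ U V) (hU V).le).hom.codRestrict _ (hran V))), ?_⟩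
    ext t
    exact congrArg Subtype.val (r.apply_symm_apply
      ⟨(e.appLE V (g ⁻¹ᵁ U V) (hU V).le).hom t, hran V t⟩)
  choose ψ hψ using hψ
  -- local morphisms
  let d : ∀ V : T.affineOpens, (U V.1 : Scheme.{u}) ⟶ T := fun V =>
    (U V.1).toSpecΓ ≫ Spec.map (ψ V.1) ≫ V.2.fromSpec
  have hd : ∀ V : T.affineOpens, (g ∣_ (U V.1)) ≫ d V = (g ⁻¹ᵁ (U V.1)).ι ≫ e := by
    intro V
    have h1 : (g ∣_ (U V.1)) ≫ d V = (g ⁻¹ᵁ (U V.1)).toSpecΓ ≫ Spec.map (g.app (U V.1)) ≫
        Spec.map (ψ V.1) ≫ V.2.fromSpec := by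
      simp only [d]
      rw [Scheme.Opens.toSpecΓ_naturality_assoc]
    rw [h1, ← Spec.map_comp_assoc, hψ, Scheme.Opens.toSpecΓ_SpecMap_appLE_assoc,
      IsAffineOpen.toSpecΓ_fromSpec, Scheme.Hom.resLE_comp_ι]
  have hcov : IsOpenCover (fun V : T.affineOpens => U V.1) := by
    exact (Opens.IsBasis.isOpenCover T.isBasis_affineOpens).comap b
  let 𝒰 := S.openCoverOfIsOpenCover (fun V : T.affineOpens => U V.1) hcov
  have hcompat : ∀ V V' : T.affineOpens,
      pullback.fst (U V.1).ι (U V'.1).ι ≫ d V = pullback.snd (U V.1).ι (U V'.1).ι ≫ d V' := by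
    intro V V'
    rw [← cancel_epi (isPullback_opens_inf (U V.1) (U V'.1)).isoPullback.hom,
      IsPullback.isoPullback_hom_fst_assoc, IsPullback.isoPullback_hom_snd_assoc]
    have := epi_restrict g hinj (U V.1 ⊓ U V'.1)
    rw [← cancel_epi (g ∣_ (U V.1 ⊓ U V'.1))]
    have h1 : (g ∣_ (U V.1 ⊓ U V'.1)) ≫ S.homOfLE inf_le_left =
        S'.homOfLE (g.preimage_mono inf_le_left) ≫ (g ∣_ (U V.1)) := by
      rw [← cancel_mono (U V.1).ι]; simp
    have h2 : (g ∣_ (U V.1 ⊓ U V'.1)) ≫ S.homOfLE inf_le_right =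
        S'.homOfLE (g.preimage_mono inf_le_right) ≫ (g ∣_ (U V'.1)) := by
      rw [← cancel_mono (U V'.1).ι]; simp
    rw [reassoc_of% h1, reassoc_of% h2, hd, hd]
    simp
  refine ⟨𝒰.glueMorphisms d hcompat, ?_⟩
  have hcov' : IsOpenCover (fun V : T.affineOpens => g ⁻¹ᵁ (U V.1)) := hcov.comap ⟨g.base, g.continuous⟩
  refine Scheme.Cover.hom_ext (S'.openCoverOfIsOpenCover _ hcov') _ _ (fun V => ?_)
  have h3 : (U V.1).ι ≫ 𝒰.glueMorphisms d hcompat = d V :=
    Scheme.Cover.ι_glueMorphisms 𝒰 d hcompat V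
  show (g ⁻¹ᵁ (U V.1)).ι ≫ g ≫ _ = (g ⁻¹ᵁ (U V.1)).ι ≫ e
  rw [← morphismRestrict_ι_assoc, h3, hd]

end Groth.Agent.Sga1.EffEpi
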