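import Groth.Agent.Sga1.LocTriv
import Groth.Agent.Pi1A.FEtAffine

/-!
# Spreading out isomorphisms of finite étale covers of proper schemes from the residue field of a henselian
local ring to an étale neighbourhood
-/

set_option autoImplicit false
set_option backward.isDefEq.respectTransparency false
set_option backward.isDefEq.respectTransparency.types false

open CategoryTheory CategoryTheory.Limits AlgebraicGeometry Opposite
open Groth.Agent.Sga1.SectionSpread Groth.Agent.Sga1.RankOne Groth.Agent.Sga1.ProperLift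
open Groth.Agent.Sga1.LocTriv Groth.Agent.Pi1A.FEtAffine

namespace Groth.Agent.Sga1.IsoSpread

universe u

section kappa

variable {X S T : Scheme.{u}} (p : X ⟶ S) (Z : FEt.Cat X) (t : T ⟶ S)

/-- Two forms of the base change. -/
noncomputable def kappa : pullback (Z.hom ≫ p) t ≅ ((FEt.restrict (pullback.fst p t)).obj Z).left :=
  (isPullback_base p Z.hom t).isoPullback

@[reassoc]
theorem kappa_hom_proj : (kappa p Z t).hom ≫ proj (pullback.fst p t) Z =
    pullback.fst (Z.hom ≫ p) t :=
  (isPullback_base p Z.hom t).isoPullback_hom_fst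

@[reassoc]
theorem kappa_hom_hom_fst : (kappa p Z t).hom ≫ ((FEt.restrict (pullback.fst p t)).obj Z).hom ≫
    pullback.fst p t = pullback.fst (Z.hom ≫ p) t ≫ Z.hom := by
  have h := (isPullback_base p Z.hom t).isoPullback_hom_snd
  have h' : (kappa p Z t).hom ≫ ((FEt.restrict (pullback.fst p t)).obj Z).hom = _ := h
  rw [reassoc_of% h', pullback.lift_fst]

@[reassoc]
theorem kappa_hom_hom_snd : (kappa p Z t).hom ≫ ((FEt.restrict (pullback.fst p t)).obj Z).hom ≫
    pullback.snd p t = pullback.snd (Z.hom ≫ p) t := by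
  have h := (isPullback_base p Z.hom t).isoPullback_hom_snd
  have h' : (kappa p Z t).hom ≫ ((FEt.restrict (pullback.fst p t)).obj Z).hom = _ := h
  rw [reassoc_of% h', pullback.lift_snd]

end kappa

variable {A : Type u} [CommRing A] {X : Scheme.{u}} {p : X ⟶ Spec (CommRingCat.of A)}

/-- Spreading out isomorphisms from the residue field. -/
theorem exists_iso_spread [IsProper p] [LocallyOfFinitePresentation p] (Z E : FEt.Cat X)
    (C : Type u) [CommRing C] [IsLocalRing C] [Algebra A C]
    (hC : ∀ (P : Type u) [CommRing P] [Algebra A P] [Algebra.FinitePresentation A P]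
      (φ : P →ₐ[A] C), ∃ (E : Type u) (_ : CommRing E) (_ : Algebra A E) (_ : Algebra.Etale A E)
      (ψ : P →ₐ[A] E) (χ : E →ₐ[A] C), χ.comp ψ = φ)
    (hcl : ∀ {Y : Scheme.{u}} (g : Y ⟶ Spec (CommRingCat.of C)) [IsProper g]
      [LocallyOfFinitePresentation g], ClopenLifts g)
    (Φ : (FEt.restrict (pullback.fst p (str A (IsLocalRing.ResidueField C)))).obj Z ≅
      (FEt.restrict (pullback.fst p (str A (IsLocalRing.ResidueField C)))).obj E) :
    ∃ (B : Type u) (_ : CommRing B) (_ : Algebra A B) (_ : Algebra.Etale A B) (χ : B →ₐ[A] C)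
      (V : (Spec (CommRingCat.of B)).Opens), sp χ (IsLocalRing.closedPoint C) ∈ V ∧
      Nonempty ((FEt.restrict (pullback.fst p (V.ι ≫ str A B))).obj Z ≅
        (FEt.restrict (pullback.fst p (V.ι ≫ str A B))).obj E) := by
  let k := IsLocalRing.ResidueField C
  have hZ1 : IsFinite Z.hom := Z.prop.1
  have hZ2 : Etale Z.hom := Z.prop.2
  have hE1 : IsFinite E.hom := E.prop.1
  have hE2 : Etale E.hom := E.prop.2
  have hΦ := hom_w Φ.hom
  have hE := (isPullback (pullback.fst p (str A k)) E).w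
  let σ₀ : bc (Z.hom ≫ p) k ⟶ E.left :=
    (kappa p Z (str A k)).hom ≫ Φ.hom.left ≫ proj (pullback.fst p (str A k)) E
  have hσ₀ : σ₀ ≫ E.hom = pullback.fst (Z.hom ≫ p) (str A k) ≫ Z.hom := by
    simp only [σ₀, Category.assoc]
    rw [hE, reassoc_of% hΦ, kappa_hom_hom_fst]
  obtain ⟨B, i1, i2, i3, χ, σ, hσ, hσk⟩ := exists_etale_lift C (Z.hom ≫ p) Z.hom E.hom hC hcl σ₀ hσ₀
  have hw₀ : σ₀ ≫ E.hom ≫ p = pullback.snd (Z.hom ≫ p) (str A k) ≫ str A k := by
    rw [← Category.assoc, hσ₀, Category.assoc, pullback.condition]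
  have hθ₀ : IsIso (pullback.lift (f := E.hom ≫ p) (g := str A k) σ₀
      (pullback.snd (Z.hom ≫ p) (str A k)) hw₀) := by
    have e : pullback.lift (f := E.hom ≫ p) (g := str A k) σ₀
        (pullback.snd (Z.hom ≫ p) (str A k)) hw₀ =
        (kappa p Z (str A k)).hom ≫ Φ.hom.left ≫ (kappa p E (str A k)).inv := by
      rw [← Category.assoc, Iso.eq_comp_inv]
      apply (isPullback (pullback.fst p (str A k)) E).hom_ext
      · rw [Category.assoc, kappa_hom_proj, pullback.lift_fst, Category.assoc]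
      · rw [Category.assoc, Category.assoc, hΦ]
        apply pullback.hom_ext
        · rw [Category.assoc, Category.assoc, kappa_hom_hom_fst, pullback.lift_fst_assoc, hσ₀,
            Category.assoc, kappa_hom_hom_fst]
        · rw [Category.assoc, Category.assoc, kappa_hom_hom_snd, pullback.lift_snd,
            Category.assoc, kappa_hom_hom_snd]
    have hi : IsIso Φ.hom.left := by
      refine ⟨Φ.inv.left, ?_, ?_⟩
      · exact congrArg (fun t => t.left) Φ.hom_inv_id
      · exact congrArg (fun t => t.left) Φ.inv_hom_id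
    rw [e]
    infer_instance
  obtain ⟨V, hV, hV'⟩ := exists_open_isIso (p := p) (π := E.hom) (ζ := Z.hom) C χ σ hσ (by
    convert hθ₀)
  refine ⟨B, i1, i2, i3, χ, V, hV, ?_⟩
  obtain ⟨t, ht⟩ : ∃ t : V.toScheme ⟶ Spec (CommRingCat.of A), V.ι ≫ str A B = t := ⟨_, rfl⟩
  rw [ht]
  have hw : (jmap (Z.hom ≫ p) V.ι ht ≫ σ) ≫ E.hom ≫ p = pullback.snd (Z.hom ≫ p) t ≫ t := by
    rw [Category.assoc, reassoc_of% hσ, jmap_fst_assoc, pullback.condition]
  let θ := pullback.lift (f := E.hom ≫ p) (g := t)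
      (jmap (Z.hom ≫ p) V.ι ht ≫ σ) (pullback.snd (Z.hom ≫ p) t) hw
  have hiso : IsIso θ := hV' V.ι (fun x => x.2) t ht
  refine ⟨isoMk ((kappa p Z t).symm ≪≫ asIso θ ≪≫ kappa p E t) ?_⟩
  change ((kappa p Z t).inv ≫ θ ≫ (kappa p E t).hom) ≫ _ = _
  rw [Category.assoc, Iso.inv_comp_eq]
  apply pullback.hom_ext
  · simp only [Category.assoc]
    rw [kappa_hom_hom_fst, kappa_hom_hom_fst, pullback.lift_fst_assoc, Category.assoc, hσ,
      jmap_fst_assoc]
  · simp only [Category.assoc]
    rw [kappa_hom_hom_snd, kappa_hom_hom_snd, pullback.lift_snd]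

end Groth.Agent.Sga1.IsoSpread
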