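import Groth.Agent.Sga1.EtaleSection
import Mathlib.Topology.Connected.Clopen

/-!
# Descent of morphisms to etale schemes along universally submersive morphisms
-/

set_option autoImplicit false
set_option maxHeartbeats 400000
set_option backward.isDefEq.respectTransparency false
open CategoryTheory CategoryTheory.Limits AlgebraicGeometry Opposite MorphismProperty
universe u

namespace Groth.Agent.Sga1.EtaleHom

open SGA1 Groth.Agent.Sga1.UnivSub Groth.Agent.Sga1.EtaleSection

/-- Uniqueness of morphisms to unramified schemes after a surjective morphism. -/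
theorem hom_unique {X' X S Y : Scheme.{u}} (h : X' ⟶ X) [Surjective h] (y : Y ⟶ S)
    [FormallyUnramified y] [LocallyOfFiniteType y] (u u' : X ⟶ Y) (hu : u ≫ y = u' ≫ y)
    (e : h ≫ u = h ≫ u') : u = u' :=
  eq_of_surjective y u u' hu h e

/-- Descent of morphisms to etale schemes along universally submersive morphisms: it suffices to
check the descent condition on field valued points. -/
theorem exists_hom_of_compat {X' X S Y : Scheme.{u}} (h : X' ⟶ X) (hh : UnivSubmersive h)
    (x : X ⟶ S) (y : Y ⟶ S) [Etale y] (v : X' ⟶ Y) (hv : v ≫ y = h ≫ x)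
    (hcomp : ∀ (L : Type u) [Field L] (x₀ x₁ : Spec (CommRingCat.of L) ⟶ X'), x₀ ≫ h = x₁ ≫ h →
      x₀ ≫ v = x₁ ≫ v) :
    ∃ u : X ⟶ Y, u ≫ y = x ∧ h ≫ u = v := by
  let π : pullback x y ⟶ X := pullback.fst x y
  let s' : X' ⟶ pullback π h := pullback.lift (pullback.lift h v hv.symm) (𝟙 X') (by simp [π])
  obtain ⟨s, hs1, hs2⟩ := exists_section_of_compat (IsPullback.of_hasPullback π h) hh s'
    (by simp [s']) (by
      intro L _ x₀ x₁ e
      have e2 := hcomp L x₀ x₁ e
      simp only [s', limit.lift_π, PullbackCone.mk_π_app]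
      apply pullback.hom_ext
      · simpa using e
      · simpa using e2)
  refine ⟨s ≫ pullback.snd x y, ?_, ?_⟩
  · rw [Category.assoc, ← pullback.condition, ← Category.assoc]
    change (s ≫ π) ≫ x = x
    rw [hs1, Category.id_comp]
  · rw [← Category.assoc, hs2]
    simp [s']

/-- Descent of morphisms to etale schemes along universally submersive morphisms with
geometrically connected fibres. -/
theorem exists_hom_of_geomConnected {X' X S Y : Scheme.{u}} (h : X' ⟶ X) (hh : UnivSubmersive h)
    (hconn : ∀ (K : Type u) [Field K] [IsAlgClosed K] (ξ : Spec (CommRingCat.of K) ⟶ X),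
      ConnectedSpace ↑(pullback h ξ))
    (x : X ⟶ S) (y : Y ⟶ S) [Etale y] (v : X' ⟶ Y) (hv : v ≫ y = h ≫ x) :
    ∃ u : X ⟶ Y, u ≫ y = x ∧ h ≫ u = v := by
  let π : pullback x y ⟶ X := pullback.fst x y
  let s' : X' ⟶ pullback π h := pullback.lift (pullback.lift h v hv.symm) (𝟙 X') (by simp [π])
  obtain ⟨s, hs1, hs2⟩ := exists_section_of_geomConnected (IsPullback.of_hasPullback π h) hh hconn
    s' (by simp [s'])
  refine ⟨s ≫ pullback.snd x y, ?_, ?_⟩
  · rw [Category.assoc, ← pullback.condition, ← Category.assoc]
    change (s ≫ π) ≫ x = x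
    rw [hs1, Category.id_comp]
  · rw [← Category.assoc, hs2]
    simp [s']

/-- The fibres of a morphism with connected geometric fibres are connected. -/
theorem isConnected_preimage_singleton {X' X : Scheme.{u}} (h : X' ⟶ X)
    (hconn : ∀ (K : Type u) [Field K] [IsAlgClosed K] (ξ : Spec (CommRingCat.of K) ⟶ X),
      ConnectedSpace ↑(pullback h ξ)) (x : X) : _root_.IsConnected (h.base ⁻¹' {x}) := by
  let K := AlgebraicClosure (X.residueField x)
  let ζ : Spec (CommRingCat.of K) ⟶ X :=
    Spec.map (CommRingCat.ofHom (algebraMap (X.residueField x) K)) ≫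
      X.fromSpecResidueField x
  have hζ : ∀ p, ζ.base p = x := by
    intro p
    rw [Scheme.Hom.comp_apply]
    exact Scheme.fromSpecResidueField_apply x _
  have := hconn K ζ
  have hr : h.base ⁻¹' {x} = Set.range (pullback.fst h ζ).base := by
    rw [Scheme.Pullback.range_fst]
    congr 1
    ext y
    constructor
    · rintro rfl
      exact ⟨default, hζ _⟩
    · rintro ⟨p, rfl⟩
      exact hζ p
  rw [hr, ← Set.image_univ]
  exact isConnected_univ.image _ (pullback.fst h ζ).continuous.continuousOn

theorem connectedSpace_of_geomConnected {X' X : Scheme.{u}} (h : X' ⟶ X)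
    (hh : Topology.IsQuotientMap h.base)
    (hconn : ∀ (K : Type u) [Field K] [IsAlgClosed K] (ξ : Spec (CommRingCat.of K) ⟶ X),
      ConnectedSpace ↑(pullback h ξ)) [ConnectedSpace X] : ConnectedSpace X' := by
  rw [connectedSpace_iff_univ]
  have := hh.isCoinducing.isConnected_preimage_of_isClosed
    (isConnected_preimage_singleton h hconn) isClosed_univ isConnected_univ
  simpa using this

end Groth.Agent.Sga1.EtaleHom
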