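import Mathlib.AlgebraicGeometry.SpreadingOut
import Groth.Agent.Pi1A.ClopenCrit
import Groth.Agent.S0065
import Groth.Agent.S0558
import Mathlib.AlgebraicGeometry.Noetherian

set_option autoImplicit false
universe u v

open CategoryTheory CategoryTheory.Limits AlgebraicGeometry TopologicalSpace

namespace Groth.Agent.Sga1.BiratFF

/-- On a scheme whose local rings are domains (and germ-injective, e.g. locally Noetherian), clopen subsets
of a dense open extend to clopen subsets. -/
theorem exists_isClopen {P T : Scheme.{u}} (j : P ⟶ T) [IsOpenImmersion j] [IsDominant j]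
    [∀ t : T, T.IsGermInjectiveAt t] [∀ t : T, IsDomain (T.presheaf.stalk t)] (V : Set P)
    (hV : IsClopen V) : ∃ C : Set T, IsClopen C ∧ j ⁻¹' C = V := by
  have hA : IsOpen (j '' V) := j.isOpenEmbedding.isOpenMap _ hV.isOpen
  have hB : IsOpen (j '' Vᶜ) := j.isOpenEmbedding.isOpenMap _ hV.compl.isOpen
  have hdisj : Disjoint (j '' V) (j '' Vᶜ) :=
    (Set.disjoint_image_iff j.isOpenEmbedding.injective).mpr disjoint_compl_right
  have hunion : closure (j '' V) ∪ closure (j '' Vᶜ) = Set.univ := by
    rw [← closure_union, ← Set.image_union, Set.union_compl_self, Set.image_univ]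
    exact j.denseRange.closure_range
  have hinter : closure (j '' V) ∩ closure (j '' Vᶜ) = ∅ := by
    by_contra hne
    obtain ⟨t, ht1, ht2⟩ := Set.nonempty_iff_ne_empty.mpr hne
    obtain ⟨T₀, htT, hT₀, hinj⟩ := T.exists_germ_injective t
    have hdom : IsDomain Γ(T, T₀) := hinj.isDomain (T.presheaf.germ T₀ t htT).hom
    have hirr : IsPreirreducible (T₀ : Set T) := by
      rw [← hT₀.range_fromSpec, ← Set.image_univ]
      exact (PreirreducibleSpace.isPreirreducible_univ (X := PrimeSpectrum Γ(T, T₀))).image _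
        hT₀.fromSpec.continuous.continuousOn
    obtain ⟨a, ha1, ha2⟩ := mem_closure_iff.mp ht1 T₀ T₀.2 htT
    obtain ⟨b, hb1, hb2⟩ := mem_closure_iff.mp ht2 T₀ T₀.2 htT
    obtain ⟨c, hc1, hc2⟩ := hirr _ _ hA hB ⟨a, ha1, ha2⟩ ⟨b, hb1, hb2⟩
    exact Set.disjoint_iff.mp hdisj hc2
  have hcompl : closure (j '' V) = (closure (j '' Vᶜ))ᶜ := by
    ext t
    constructor
    · intro h1 h2
      exact (Set.ext_iff.mp hinter t).mp ⟨h1, h2⟩
    · intro h1
      have := (Set.ext_iff.mp hunion t).mpr trivial
      exact this.resolve_right h1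
  refine ⟨closure (j '' V), ⟨isClosed_closure, ?_⟩, ?_⟩
  · rw [hcompl]; exact isClosed_closure.isOpen_compl
  · ext p
    constructor
    · intro hp
      by_contra hpV
      have : j p ∈ closure (j '' V) ∩ closure (j '' Vᶜ) := ⟨hp, subset_closure ⟨p, hpV, rfl⟩⟩
      rw [hinter] at this
      exact this
    · intro hp
      exact subset_closure ⟨p, hp, rfl⟩

/-- On a locally Noetherian regular scheme restriction of finite etale covers to a dense open is fully faithful. -/
theorem restrict_fullyFaithful {X : Scheme.{u}} [IsLocallyNoetherian X]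
    (hX : ∀ x : X, IsRegularLocalRing (X.presheaf.stalk x)) (U : X.Opens) (hU : Dense (U : Set X)) :
    (FEt.restrict U.ι).Full ∧ (FEt.restrict U.ι).Faithful := by
  have hdom : ∀ T : FEt.Cat X, IsDominant (pullback.fst T.hom U.ι) := by
    intro T
    refine ⟨?_⟩
    have hT : IsOpenMap T.hom := T.hom.isOpenMap
    have hd := Dense.preimage hU hT
    have hr : Set.range (pullback.fst T.hom U.ι) = T.hom ⁻¹' Set.range U.ι :=
      IsOpenImmersion.range_pullbackFst _ _
    rw [DenseRange, hr]
    simpa using hd
  refine Groth.Agent.Pi1A.ClopenCrit.restrict_fullyFaithful_of_isClopen U.ι ?_ ?_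
  · intro T C hC hemp
    have := hdom T
    by_contra hne
    obtain ⟨c, hc⟩ := Set.nonempty_iff_ne_empty.mpr hne
    obtain ⟨p, hp⟩ := (pullback.fst T.hom U.ι).denseRange.exists_mem_open hC.isOpen ⟨c, hc⟩
    exact (Set.ext_iff.mp hemp p).mp hp
  · intro T V hV
    have := hdom T
    let τ : T.left ⟶ X := T.hom
    have : Etale τ := T.prop.2
    have hreg : ∀ t : T.left, IsRegularLocalRing (T.left.presheaf.stalk t) := fun t =>
      (Groth.Agent.S0065.result τ t).mpr (hX _)
    have : ∀ t : T.left, IsDomain (T.left.presheaf.stalk t) := fun t =>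
      have := hreg t
      Groth.Agent.S0558.result _
    have hN : IsLocallyNoetherian T.left := LocallyOfFiniteType.isLocallyNoetherian τ
    have hG : ∀ t : T.left, T.left.IsGermInjectiveAt t := inferInstance
    exact exists_isClopen (pullback.fst τ U.ι) V hV

end Groth.Agent.Sga1.BiratFF
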