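import Groth.Agent.Sga1.BiratExt
import Groth.Agent.Sga1.BiratFF
import Groth.Agent.S0005

set_option autoImplicit false
universe u v v₁ v₂ v₃ u₁ u₂ u₃

open CategoryTheory CategoryTheory.Limits AlgebraicGeometry TopologicalSpace

namespace Groth.Agent.Sga1.Birat

/-- Two fully faithful functors with the same essential image. -/
theorem exists_equiv {C : Type u₁} {D : Type u₂} {E : Type u₃} [Category.{v₁} C] [Category.{v₂} D]
    [Category.{v₃} E] (F : C ⥤ E) (G : D ⥤ E) [F.Full] [F.Faithful] [G.Full] [G.Faithful]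
    (h1 : ∀ c, G.essImage (F.obj c)) (h2 : ∀ d, F.essImage (G.obj d)) :
    ∃ Φ : C ≌ D, Nonempty (F ≅ Φ.functor ⋙ G) := by
  let Φ₀ := Functor.essImage.liftFunctor F G h1
  let e : Φ₀ ⋙ G ≅ F := Functor.essImage.liftFunctorCompIso F G h1
  have : Φ₀.Faithful := Functor.Faithful.of_comp_iso e
  have : Φ₀.Full := Functor.Full.of_comp_faithful_iso e
  have : Φ₀.EssSurj := ⟨fun d => by
    obtain ⟨c, ⟨i⟩⟩ := h2 d
    exact ⟨c, ⟨G.preimageIso (e.app c ≪≫ i)⟩⟩⟩
  have : Φ₀.IsEquivalence := { }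
  exact ⟨Φ₀.asEquivalence, ⟨e.symm⟩⟩

noncomputable def restrictComp {X Y Z : Scheme.{u}} (f : X ⟶ Y) (g : Y ⟶ Z) (h : X ⟶ Z)
    (hfg : h = f ≫ g) : FEt.restrict h ≅ FEt.restrict g ⋙ FEt.restrict f :=
  MorphismProperty.Over.pullbackComp f g h hfg

/-- A regular local ring which is not of dimension at least two is a valuation ring. -/
theorem valuationRing_of_dim_lt_two (R : Type u) [CommRing R] [IsDomain R] [IsRegularLocalRing R]
    (h : ¬ (2 : WithBot ℕ∞) ≤ ringKrullDim R) : ValuationRing R := by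
  have h1 := (IsRegularLocalRing.iff_finrank_cotangentSpace R).mp ‹_›
  rw [← h1] at h
  have h2 : Module.finrank (IsLocalRing.ResidueField R) (IsLocalRing.CotangentSpace R) ≤ 1 := by
    by_contra hc
    apply h
    have : (2 : ℕ) ≤ Module.finrank (IsLocalRing.ResidueField R) (IsLocalRing.CotangentSpace R) := by
      omega
    exact_mod_cast this
  exact ((tfae_of_isNoetherianRing_of_isLocalRing_of_isDomain R).out 5 1).mp h2

/-- One half of the comparison of essential images. -/
theorem essImage_of_extension {S X Y : Scheme.{u}} (f : X ⟶ S) (g : Y ⟶ S) [IsProper g]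
    [IsNoetherian X] (hX : ∀ x : X, IsRegularLocalRing (X.presheaf.stalk x))
    (U : X.Opens) (hU : Dense (U : Set X)) (h : (U : Scheme.{u}) ⟶ Y) (hh : h ≫ g = U.ι ≫ f)
    (B : FEt.Cat Y) : (FEt.restrict U.ι).essImage ((FEt.restrict h).obj B) := by
  have hd : ∀ x : X, IsDomain (X.presheaf.stalk x) := fun x =>
    have := hX x
    Groth.Agent.S0558.result _
  have hred : IsReduced X := isReduced_of_isReduced_stalk X
  obtain ⟨W, hUW, h', h1, h2, h3⟩ := Groth.Agent.Sga1.BiratExt.exists_extension f g U hU h hh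
  have hW : (FEt.restrict W.ι).IsEquivalence := Groth.Agent.S0005.result X hX W (by
    intro x hxW
    by_contra hc
    have := hX x
    have := valuationRing_of_dim_lt_two (X.presheaf.stalk x) hc
    exact hxW (h3 x))
  obtain ⟨A, ⟨e⟩⟩ := hW.essSurj.mem_essImage ((FEt.restrict h').obj B)
  refine ⟨A, ⟨?_⟩⟩
  exact (restrictComp (X.homOfLE hUW) W.ι U.ι (by simp)).app A ≪≫
    (FEt.restrict (X.homOfLE hUW)).mapIso e ≪≫
    ((restrictComp (X.homOfLE hUW) h' h h2.symm).app B).symm

end Groth.Agent.Sga1.Birat
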