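import Mathlib.RingTheory.Invariant.Basic
import Mathlib.RingTheory.Unramified.Finite
import Mathlib.RingTheory.RingHom.Etale
import Mathlib.RingTheory.Finiteness.ModuleFinitePresentation
import Mathlib.LinearAlgebra.TensorProduct.Finiteness

/-!
Free actions of a finite group `G` on a commutative ring `B` (Chase-Harrison-Rosenberg): if `A = B^G` and no
`g ≠ 1` acts trivially on a residue field `B/M`, then `B` is finite projective and etale over `A` and
`B ⊗_A B = ∏_G B`.
-/

set_option autoImplicit false

namespace Groth.Agent.Sga1.FreeQuot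

open TensorProduct

section

variable (A : Type*) {B G : Type*} [CommRing A] [CommRing B] [Algebra A B] [Group G]
  [MulSemiringAction G B] [SMulCommClass G A B]

/-- `x ⊗ y ↦ x * (g • y)` -/
noncomputable def ev (g : G) : B ⊗[A] B →ₐ[A] B :=
  Algebra.TensorProduct.lift (AlgHom.id A B) (MulSemiringAction.toAlgHom A B g) (fun _ _ => Commute.all _ _)

@[simp] theorem ev_tmul (g : G) (x y : B) : ev A g (x ⊗ₜ[A] y) = x * (g • y) := by
  simp [ev]

/-- A separating element. -/
def IsSep (e : B ⊗[A] B) : Prop := ev A (1 : G) e = 1 ∧ ∀ g : G, g ≠ 1 → ev A g e = 0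

theorem exists_of_free (g : G) (h : ∀ M : Ideal B, M.IsMaximal → ∃ b, g • b - b ∉ M) :
    ∃ t : B ⊗[A] B, ev A (1 : G) t = 1 ∧ ev A g t = 0 := by
  have h1 : Ideal.span (Set.range fun b : B => g • b - b) = ⊤ := by
    by_contra hne
    obtain ⟨M, hM, hle⟩ := Ideal.exists_le_maximal _ hne
    obtain ⟨b, hb⟩ := h M hM
    exact hb (hle (Ideal.subset_span ⟨b, rfl⟩))
  have h2 : ∀ z ∈ Ideal.span (Set.range fun b : B => g • b - b),
      ∃ t : B ⊗[A] B, ev A (1 : G) t = z ∧ ev A g t = 0 := by
    intro z hz
    refine Submodule.span_induction (p := fun z _ => ∃ t : B ⊗[A] B, ev A (1 : G) t = z ∧ ev A g t = 0)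
      ?_ ?_ ?_ ?_ hz
    · rintro _ ⟨b, rfl⟩
      exact ⟨(g • b) ⊗ₜ 1 - 1 ⊗ₜ b, by simp, by simp⟩
    · exact ⟨0, by simp, by simp⟩
    · rintro x y _ _ ⟨s, hs, hs'⟩ ⟨t, ht, ht'⟩
      exact ⟨s + t, by rw [map_add, hs, ht], by rw [map_add, hs', ht', add_zero]⟩
    · rintro a x _ ⟨s, hs, hs'⟩
      exact ⟨(a ⊗ₜ 1) * s, by rw [map_mul, hs]; simp, by rw [map_mul, hs', mul_zero]⟩
  exact h2 1 (h1 ▸ Submodule.mem_top)

theorem exists_isSep [Finite G] (h : ∀ g : G, g ≠ 1 → ∀ M : Ideal B, M.IsMaximal → ∃ b, g • b - b ∉ M) :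
    ∃ e : B ⊗[A] B, IsSep A (G := G) e := by
  classical
  cases nonempty_fintype G
  choose! t ht using fun g (hg : g ≠ 1) => exists_of_free A g (h g hg)
  refine ⟨∏ g ∈ Finset.univ.erase (1 : G), t g, ?_, ?_⟩
  · rw [map_prod]
    exact Finset.prod_eq_one fun g hg => (ht g (Finset.ne_of_mem_erase hg)).1
  · intro g hg
    rw [map_prod]
    exact Finset.prod_eq_zero (Finset.mem_erase.mpr ⟨hg, Finset.mem_univ g⟩) (ht g hg).2

variable (G) in
/-- The trace `B → A = B^G`. -/
noncomputable def tr [Fintype G] [Algebra.IsInvariant A B G] (hinj : Function.Injective (algebraMap A B)) :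
    B →ₗ[A] A where
  toFun b := (Algebra.IsInvariant.isInvariant (A := A) (G := G) (∑ g : G, g • b) (by
    intro h
    rw [Finset.smul_sum]
    exact Fintype.sum_equiv (Equiv.mulLeft h) _ _ (fun g => by simp [mul_smul]))).choose
  map_add' x y := by
    apply hinj
    rw [map_add]
    have := fun b : B => (Algebra.IsInvariant.isInvariant (A := A) (G := G) (∑ g : G, g • b) (by
      intro h
      rw [Finset.smul_sum]
      exact Fintype.sum_equiv (Equiv.mulLeft h) _ _ (fun g => by simp [mul_smul]))).choose_spec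
    rw [this, this, this]
    simp [Finset.sum_add_distrib]
  map_smul' a x := by
    apply hinj
    have := fun b : B => (Algebra.IsInvariant.isInvariant (A := A) (G := G) (∑ g : G, g • b) (by
      intro h
      rw [Finset.smul_sum]
      exact Fintype.sum_equiv (Equiv.mulLeft h) _ _ (fun g => by simp [mul_smul]))).choose_spec
    rw [RingHom.id_apply, smul_eq_mul, map_mul, this, this, Finset.mul_sum]
    refine Finset.sum_congr rfl fun g _ => ?_
    rw [smul_comm, Algebra.smul_def]

theorem algebraMap_tr [Fintype G] [Algebra.IsInvariant A B G] (hinj : Function.Injective (algebraMap A B)) (b : B) :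
    algebraMap A B (tr A G hinj b) = ∑ g : G, g • b :=
  (Algebra.IsInvariant.isInvariant (A := A) (G := G) (∑ g : G, g • b) (by
      intro h
      rw [Finset.smul_sum]
      exact Fintype.sum_equiv (Equiv.mulLeft h) _ _ (fun g => by simp [mul_smul]))).choose_spec

variable {A}

/-- Dual basis property. -/
theorem sum_mul_tr [Fintype G] [Algebra.IsInvariant A B G] (hinj : Function.Injective (algebraMap A B))
    (S : Finset (B × B)) (hS : IsSep A (G := G) (∑ i ∈ S, i.1 ⊗ₜ[A] i.2)) (b : B) :
    ∑ i ∈ S, tr A G hinj (i.2 * b) • i.1 = b := by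
  classical
  have h1 : ∀ g : G, ∑ i ∈ S, i.1 * (g • i.2) = if g = 1 then 1 else 0 := by
    intro g
    have : ev A g (∑ i ∈ S, i.1 ⊗ₜ[A] i.2) = ∑ i ∈ S, i.1 * (g • i.2) := by
      rw [map_sum]; exact Finset.sum_congr rfl fun i _ => ev_tmul A g _ _
    rw [← this]
    split_ifs with hg
    · rw [hg]; exact hS.1
    · exact hS.2 g hg
  calc ∑ i ∈ S, tr A G hinj (i.2 * b) • i.1 = ∑ i ∈ S, ∑ g : G, (g • (i.2 * b)) * i.1 := by
        refine Finset.sum_congr rfl fun i _ => ?_
        rw [Algebra.smul_def, algebraMap_tr, Finset.sum_mul]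
    _ = ∑ g : G, (∑ i ∈ S, i.1 * (g • i.2)) * (g • b) := by
        rw [Finset.sum_comm]
        refine Finset.sum_congr rfl fun g _ => ?_
        rw [Finset.sum_mul]
        refine Finset.sum_congr rfl fun i _ => ?_
        rw [smul_mul']; ring
    _ = b := by
        simp_rw [h1]
        simp

theorem projective_finite [Finite G] [Algebra.IsInvariant A B G] (hinj : Function.Injective (algebraMap A B))
    (e : B ⊗[A] B) (he : IsSep A (G := G) e) : Module.Projective A B ∧ Module.Finite A B := by
  cases nonempty_fintype G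
  obtain ⟨S, hS⟩ := TensorProduct.exists_finset e
  rw [hS] at he
  let i : B →ₗ[A] (S → A) := LinearMap.pi fun j => (tr A G hinj).comp (LinearMap.mulLeft A (j : B × B).2)
  let s : (S → A) →ₗ[A] B := Fintype.linearCombination A (fun j : S => (j : B × B).1)
  have hsi : s.comp i = LinearMap.id := by
    ext b
    have := sum_mul_tr hinj S he b
    conv_rhs => rw [LinearMap.id_apply, ← this]
    simp only [LinearMap.comp_apply, s, i, Fintype.linearCombination_apply, LinearMap.pi_apply,
      LinearMap.mulLeft_apply]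
    exact Finset.sum_coe_sort S (fun j : B × B => tr A G hinj (j.2 * b) • j.1)
  have hs : Function.Surjective s := fun b => ⟨i b, LinearMap.congr_fun hsi b⟩
  exact ⟨Module.Projective.of_split i s hsi, Module.Finite.of_surjective s hs⟩

/-- An element of `B ⊗_A B` killed by all the evaluations is zero. -/
theorem eq_zero_of_ev [Finite G] [Algebra.IsInvariant A B G] (hinj : Function.Injective (algebraMap A B))
    (e : B ⊗[A] B) (he : IsSep A (G := G) e) (t : B ⊗[A] B) (ht : ∀ g : G, ev A g t = 0) : t = 0 := by
  cases nonempty_fintype G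
  obtain ⟨S, hS⟩ := TensorProduct.exists_finset e
  rw [hS] at he
  have key : ∀ t : B ⊗[A] B, t = ∑ i ∈ S, (∑ g : G, (g • i.2) * ev A g t) ⊗ₜ[A] i.1 := by
    intro t
    induction t using TensorProduct.induction_on with
    | zero => simp
    | tmul b c =>
      conv_lhs => rw [← sum_mul_tr hinj S he c, TensorProduct.tmul_sum]
      refine Finset.sum_congr rfl fun i _ => ?_
      rw [← TensorProduct.smul_tmul, Algebra.smul_def, algebraMap_tr, Finset.sum_mul]
      congr 1
      refine Finset.sum_congr rfl fun g _ => ?_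
      rw [ev_tmul, smul_mul']; ring
    | add x y hx hy =>
      conv_lhs => rw [hx, hy]
      rw [← Finset.sum_add_distrib]
      refine Finset.sum_congr rfl fun i _ => ?_
      rw [← TensorProduct.add_tmul, ← Finset.sum_add_distrib]
      congr 1
      refine Finset.sum_congr rfl fun g _ => ?_
      rw [map_add, mul_add]
  rw [key t]
  simp [ht]

/-- `B/A` is etale. -/
theorem etale [Finite G] [Algebra.IsInvariant A B G] (hinj : Function.Injective (algebraMap A B))
    (e : B ⊗[A] B) (he : IsSep A (G := G) e) : Algebra.Etale A B := by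
  obtain ⟨h1, h2⟩ := projective_finite hinj e he
  have h3 : Module.FinitePresentation A B := Module.finitePresentation_of_projective A B
  have h4 : Algebra.FormallyUnramified A B := by
    rw [Algebra.FormallyUnramified.iff_exists_tensorProduct]
    refine ⟨e, fun s => ?_, ?_⟩
    · refine eq_zero_of_ev hinj e he _ fun g => ?_
      by_cases hg : g = 1
      · subst hg
        rw [map_mul, map_sub, ev_tmul, ev_tmul]
        simp
      · rw [map_mul, he.2 g hg, mul_zero]
    · have : ev A (1 : G) = (Algebra.TensorProduct.lmul' A (S := B)) := by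
        ext <;> simp
      rw [← this]
      exact he.1
  exact Algebra.Etale.of_formallyUnramified_of_flat

/-- Chase-Harrison-Rosenberg. -/
theorem etale_of_free [Finite G] [Algebra.IsInvariant A B G] (hinj : Function.Injective (algebraMap A B))
    (h : ∀ g : G, g ≠ 1 → ∀ M : Ideal B, M.IsMaximal → ∃ b, g • b - b ∉ M) : Algebra.Etale A B := by
  obtain ⟨e, he⟩ := exists_isSep A h
  exact etale hinj e he

theorem projective_finite_of_free [Finite G] [Algebra.IsInvariant A B G]
    (hinj : Function.Injective (algebraMap A B))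
    (h : ∀ g : G, g ≠ 1 → ∀ M : Ideal B, M.IsMaximal → ∃ b, g • b - b ∉ M) :
    Module.Projective A B ∧ Module.Finite A B := by
  obtain ⟨e, he⟩ := exists_isSep A h
  exact projective_finite hinj e he

end

end Groth.Agent.Sga1.FreeQuot
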