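import Groth.Agent.Sga1.Transit
import Groth.Agent.Sga1.FreeQuot
import Mathlib.FieldTheory.IsAlgClosed.AlgebraicClosure
import Mathlib.AlgebraicGeometry.Limits

/-!
Quotients `p : X ⟶ Y = X/G` by a finite group acting freely on geometric points: `p` is finite etale and
`∐_G X ≅ X ×_Y X`.
-/

set_option autoImplicit false
open CategoryTheory CategoryTheory.Limits AlgebraicGeometry
universe u

namespace Groth.Agent.Sga1.FreeQuotSch

open Groth.Agent.Sga1

variable {X Y : Scheme.{u}} {G : Type u} [Group G]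

/-- An affine morphism which is etale over each affine open is etale. -/
theorem etale_of_app (p : X ⟶ Y) [IsAffineHom p]
    (h : ∀ U : Y.Opens, IsAffineOpen U → (p.app U).hom.Etale) : Etale p := by
  rw [HasRingHomProperty.iff_exists_appLE (P := @Etale)
    (RingHom.Etale.stableUnderComposition.stableUnderCompositionWithLocalizationAway
      (RingHom.Etale.propertyIsLocal.HoldsForLocalizationAway RingHom.Etale.containsIdentities)).left]
  intro x
  obtain ⟨_, ⟨U, hU, rfl⟩, hxU, -⟩ := Y.isBasis_affineOpens.exists_subset_of_mem_open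
    (Set.mem_univ (p.base x)) isOpen_univ
  refine ⟨⟨U, hU⟩, ⟨p ⁻¹ᵁ U, hU.preimage p⟩, hxU, le_rfl, ?_⟩
  rw [← Scheme.Hom.app_eq_appLE]
  exact h U hU

/-- Freeness on geometric points. -/
def IsFree (ρ : G →* Aut X) : Prop :=
  ∀ (K : Type u) [Field K] [IsAlgClosed K] (ξ : Spec (CommRingCat.of K) ⟶ X) (g : G), ξ ≫ (ρ g).hom = ξ → g = 1

theorem IsFree.exists_notMem {ρ : G →* Aut X} (hfree : IsFree ρ) (p : X ⟶ Y) [IsAffineHom p]
    (hinv : ∀ g : G, (ρ g).hom ≫ p = p) (U : Y.Opens) (hU : IsAffineOpen U) (g : G) (hg : g ≠ 1)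
    (M : Ideal Γ(X, p ⁻¹ᵁ U)) (hM : M.IsMaximal) :
    letI := QuotAct.act ρ p hinv U
    ∃ b : Γ(X, p ⁻¹ᵁ U), g • b - b ∉ M := by
  let := QuotAct.act ρ p hinv U
  by_contra! hc
  have hV : IsAffineOpen (p ⁻¹ᵁ U) := hU.preimage p
  let k := Γ(X, p ⁻¹ᵁ U) ⧸ M
  let : Field k := Ideal.Quotient.field M
  let K := AlgebraicClosure k
  let ψ : Γ(X, p ⁻¹ᵁ U) ⟶ CommRingCat.of K := CommRingCat.ofHom ((algebraMap k K).comp (Ideal.Quotient.mk M))
  let ξ : Spec (CommRingCat.of K) ⟶ X := Spec.map ψ ≫ hV.fromSpec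
  have h1 : (ρ g⁻¹).hom.appLE (p ⁻¹ᵁ U) (p ⁻¹ᵁ U) (SGA1.preimage_le_of_inv ρ p hinv g⁻¹ U) ≫ ψ = ψ := by
    ext b
    change (algebraMap k K) (Ideal.Quotient.mk M (g • b)) = (algebraMap k K) (Ideal.Quotient.mk M b)
    rw [(Ideal.Quotient.mk_eq_mk_iff_sub_mem _ _).mpr (hc b)]
  have h2 : ξ ≫ (ρ g⁻¹).hom = ξ := by
    simp only [ξ]
    rw [Category.assoc, ← IsAffineOpen.SpecMap_appLE_fromSpec (ρ g⁻¹).hom hV hV
      (SGA1.preimage_le_of_inv ρ p hinv g⁻¹ U), ← Category.assoc, ← Spec.map_comp, h1]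
  exact hg (inv_eq_one.mp (hfree K ξ g⁻¹ h2))

theorem etale_of_isFree [Finite G] {ρ : G →* Aut X} {p : X ⟶ Y} (hp : SGA1.IsQuot ρ p) (hfree : IsFree ρ) :
    Etale p := by
  have := hp.affine
  refine etale_of_app p fun U hU => ?_
  let := QuotAct.act ρ p hp.inv U
  let := (p.app U).hom.toAlgebra
  have := QuotAct.isInvariant hp U
  have := QuotAct.smulCommClass hp.inv U
  exact FreeQuot.etale_of_free (A := Γ(Y, U)) (B := Γ(X, p ⁻¹ᵁ U)) (G := G) (hp.injective U)
    (fun g hg M hM => hfree.exists_notMem p hp.inv U hU g hg M hM)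

theorem finite_of_isFree [Finite G] {ρ : G →* Aut X} {p : X ⟶ Y} (hp : SGA1.IsQuot ρ p) (hfree : IsFree ρ) :
    IsFinite p := by
  have := hp.affine
  rw [isFinite_iff]
  refine ⟨inferInstance, fun U hU => ?_⟩
  let := QuotAct.act ρ p hp.inv U
  let := (p.app U).hom.toAlgebra
  have := QuotAct.isInvariant hp U
  have := QuotAct.smulCommClass hp.inv U
  exact (FreeQuot.projective_finite_of_free (A := Γ(Y, U)) (B := Γ(X, p ⁻¹ᵁ U)) (G := G) (hp.injective U)
    (fun g hg M hM => hfree.exists_notMem p hp.inv U hU g hg M hM)).2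

/-- A quotient morphism is integral. -/
theorem isIntegralHom_of_isQuot [Finite G] {ρ : G →* Aut X} {p : X ⟶ Y} (hp : SGA1.IsQuot ρ p) :
    IsIntegralHom p := by
  have := hp.affine
  refine ⟨fun U hU => ?_⟩
  let := QuotAct.act ρ p hp.inv U
  let := (p.app U).hom.toAlgebra
  have := QuotAct.isInvariant hp U
  have := QuotAct.smulCommClass hp.inv U
  have hint : Algebra.IsIntegral Γ(Y, U) Γ(X, p ⁻¹ᵁ U) := Algebra.IsInvariant.isIntegral _ _ G
  exact hint.isIntegral

/-- Surjectivity of a quotient morphism. -/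
theorem surjective_of_isQuot [Finite G] {ρ : G →* Aut X} {p : X ⟶ Y} (hp : SGA1.IsQuot ρ p) : Surjective p := by
  have := isIntegralHom_of_isQuot hp
  have hcl : IsClosed (Set.range p) := p.isClosedMap.isClosed_range
  refine ⟨fun y => ?_⟩
  by_contra hy
  let U : Y.Opens := ⟨(Set.range p)ᶜ, hcl.isOpen_compl⟩
  have hU : p ⁻¹ᵁ U = ⊥ := by
    ext x
    simp [U]
  have hne : Nonempty U := ⟨⟨y, hy⟩⟩
  have h1 : Nontrivial Γ(Y, U) := inferInstance
  have h2 : Subsingleton Γ(X, p ⁻¹ᵁ U) := by rw [hU]; infer_instance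
  exact not_subsingleton _ ((hp.injective U).subsingleton)

/-- If `f ≫ g` is an open immersion and `g` is unramified, then `f` is an open immersion. -/
theorem isOpenImmersion_of_comp {X Y Z : Scheme.{u}} (f : X ⟶ Y) (g : Y ⟶ Z) [IsOpenImmersion (f ≫ g)]
    [LocallyOfFiniteType g] [FormallyUnramified g] : IsOpenImmersion f := by
  have h : MorphismProperty.HasOfPostcompProperty
      @IsOpenImmersion (@LocallyOfFiniteType ⊓ @FormallyUnramified) := by
    rw [MorphismProperty.hasOfPostcompProperty_iff_le_diagonal]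
    intro X Y f ⟨hft, hfu⟩
    exact inferInstanceAs <| IsOpenImmersion (pullback.diagonal f)
  exact h.of_postcomp f g ⟨‹_›, ‹_›⟩ ‹_›

/-- The geometric point at `x`. -/
noncomputable def geomPt (X : Scheme.{u}) (x : X) :
    Spec (CommRingCat.of (AlgebraicClosure (X.residueField x))) ⟶ X :=
  Spec.map (CommRingCat.ofHom (algebraMap (X.residueField x) (AlgebraicClosure (X.residueField x)))) ≫
    X.fromSpecResidueField x

theorem geomPt_apply (x : X) (z) : (geomPt X x) z = x := by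
  rw [geomPt, Scheme.Hom.comp_apply]
  exact Scheme.fromSpecResidueField_apply x _

theorem exists_lift_geomPt {Z X : Scheme.{u}} (j : Z ⟶ X) [IsOpenImmersion j] (x : X) (hx : x ∈ Set.range j) :
    ∃ l, l ≫ j = geomPt X x := by
  refine ⟨IsOpenImmersion.lift j (geomPt X x) ?_, IsOpenImmersion.lift_fac _ _ _⟩
  rintro _ ⟨z, rfl⟩
  rw [geomPt_apply]
  exact hx

theorem eq_of_geom {ρ : G →* Aut X} (hfree : IsFree ρ) {K : Type u} [Field K] [IsAlgClosed K]
    (ξ : Spec (CommRingCat.of K) ⟶ X) (g h : G) (hgh : ξ ≫ (ρ g).hom = ξ ≫ (ρ h).hom) : g = h := by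
  have h1 : ξ ≫ (ρ (h⁻¹ * g)).hom = ξ := by
    rw [QuotAct.hom_mul, ← Category.assoc, hgh, Category.assoc, ← QuotAct.hom_mul, inv_mul_cancel,
      QuotAct.hom_one, Category.comp_id]
  exact (inv_mul_eq_one.mp (hfree K ξ _ h1)).symm

/-- The graph morphisms `X ⟶ X ×_Y X`. -/
noncomputable def graph {ρ : G →* Aut X} {p : X ⟶ Y} (hp : SGA1.IsQuot ρ p) (g : G) : X ⟶ pullback p p :=
  pullback.lift (𝟙 X) (ρ g).hom ((Category.id_comp p).trans (hp.inv g).symm)

theorem graph_fst {ρ : G →* Aut X} {p : X ⟶ Y} (hp : SGA1.IsQuot ρ p) (g : G) :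
    graph hp g ≫ pullback.fst p p = 𝟙 X := pullback.lift_fst _ _ _

theorem graph_snd {ρ : G →* Aut X} {p : X ⟶ Y} (hp : SGA1.IsQuot ρ p) (g : G) :
    graph hp g ≫ pullback.snd p p = (ρ g).hom := pullback.lift_snd _ _ _

theorem mem_iSup_of_range {Z : Scheme.{u}} {ι : Type*} {W : ι → Scheme.{u}} (f : ∀ i, W i ⟶ Z)
    [∀ i, IsOpenImmersion (f i)] (h : ∀ z : Z, ∃ i, z ∈ Set.range (f i)) :
    ⨆ i, (f i).opensRange = ⊤ := by
  rw [eq_top_iff]
  intro z _
  obtain ⟨i, w, hw⟩ := h z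
  rw [TopologicalSpace.Opens.mem_iSup]
  exact ⟨i, w, hw⟩

open scoped Function in
theorem isIso_sigma_graph [Finite G] {ρ : G →* Aut X} {p : X ⟶ Y} (hp : SGA1.IsQuot ρ p) (hfree : IsFree ρ) :
    IsIso (Sigma.desc (fun g : G => graph hp g) : (∐ fun _ : G => X) ⟶ pullback p p) := by
  have := hp.affine
  have := etale_of_isFree hp hfree
  have hopen : ∀ g, IsOpenImmersion (graph hp g) := by
    intro g
    have : IsOpenImmersion (graph hp g ≫ pullback.fst p p) := by rw [graph_fst]; infer_instance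
    exact isOpenImmersion_of_comp _ (pullback.fst p p)
  have hdisj : Pairwise (Disjoint on fun g => (graph hp g).opensRange) := by
    intro g h hgh
    rw [Function.onFun, disjoint_iff, eq_bot_iff]
    rintro z ⟨hz1, hz2⟩
    exfalso
    apply hgh
    obtain ⟨l1, hl1⟩ := exists_lift_geomPt (graph hp g) z hz1
    obtain ⟨l2, hl2⟩ := exists_lift_geomPt (graph hp h) z hz2
    have h1 : l1 = geomPt _ z ≫ pullback.fst p p := by rw [← hl1, Category.assoc, graph_fst, Category.comp_id]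
    have h2 : l2 = geomPt _ z ≫ pullback.fst p p := by rw [← hl2, Category.assoc, graph_fst, Category.comp_id]
    refine eq_of_geom hfree (geomPt _ z ≫ pullback.fst p p) g h ?_
    have h3 : l1 ≫ (ρ g).hom = geomPt _ z ≫ pullback.snd p p := by rw [← hl1, Category.assoc, graph_snd]
    have h4 : l2 ≫ (ρ h).hom = geomPt _ z ≫ pullback.snd p p := by rw [← hl2, Category.assoc, graph_snd]
    rw [← h1, h3, h1, ← h2, h4]
  have hcov : ⨆ g, (graph hp g).opensRange = ⊤ := by
    refine mem_iSup_of_range _ fun z => ?_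
    obtain ⟨g, hg⟩ := Transit.exists_comp_eq hp
      (geomPt _ z ≫ pullback.snd p p) (geomPt _ z ≫ pullback.fst p p) (by
        rw [Category.assoc, Category.assoc, pullback.condition])
    refine ⟨g, (geomPt _ z ≫ pullback.fst p p) (default : PrimeSpectrum _), ?_⟩
    have : (geomPt _ z ≫ pullback.fst p p) ≫ graph hp g = geomPt _ z := by
      apply pullback.hom_ext
      · rw [Category.assoc, graph_fst, Category.comp_id]
      · rw [Category.assoc, graph_snd, hg]
    rw [← Scheme.Hom.comp_apply, this, geomPt_apply]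
  obtain ⟨hc⟩ := nonempty_isColimit_cofanMk_of (fun g => graph hp g) hcov hdisj
  exact (Cofan.nonempty_isColimit_iff_isIso_sigmaDesc (Cofan.mk (pullback p p) fun g => graph hp g)).mp ⟨hc⟩

open scoped Function in
theorem isIso_sigma_section [Finite G] {ρ : G →* Aut X} {p : X ⟶ Y} (hp : SGA1.IsQuot ρ p) (hfree : IsFree ρ)
    (s : Y ⟶ X) (hs : s ≫ p = 𝟙 Y) :
    IsIso (Sigma.desc (fun g : G => s ≫ (ρ g).hom) : (∐ fun _ : G => Y) ⟶ X) := by
  have := hp.affine
  have := etale_of_isFree hp hfree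
  have hsp : ∀ g, (s ≫ (ρ g).hom) ≫ p = 𝟙 Y := fun g => by rw [Category.assoc, hp.inv, hs]
  have hopen : ∀ g, IsOpenImmersion (s ≫ (ρ g).hom) := by
    intro g
    have : IsOpenImmersion ((s ≫ (ρ g).hom) ≫ p) := by rw [hsp]; infer_instance
    exact isOpenImmersion_of_comp _ p
  have hdisj : Pairwise (Disjoint on fun g => (s ≫ (ρ g).hom).opensRange) := by
    intro g h hgh
    rw [Function.onFun, disjoint_iff, eq_bot_iff]
    rintro z ⟨hz1, hz2⟩
    exfalso
    apply hgh
    obtain ⟨l1, hl1⟩ := exists_lift_geomPt (s ≫ (ρ g).hom) z hz1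
    obtain ⟨l2, hl2⟩ := exists_lift_geomPt (s ≫ (ρ h).hom) z hz2
    have h1 : l1 = geomPt _ z ≫ p := by rw [← hl1, Category.assoc, hsp, Category.comp_id]
    have h2 : l2 = geomPt _ z ≫ p := by rw [← hl2, Category.assoc, hsp, Category.comp_id]
    refine eq_of_geom hfree ((geomPt _ z ≫ p) ≫ s) g h ?_
    rw [← h1, Category.assoc, hl1, h1, ← h2, Category.assoc, hl2]
  have hcov : ⨆ g, (s ≫ (ρ g).hom).opensRange = ⊤ := by
    refine mem_iSup_of_range _ fun z => ?_
    obtain ⟨g, hg⟩ := Transit.exists_comp_eq hp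
      (geomPt _ z) ((geomPt _ z ≫ p) ≫ s) (by
        rw [Category.assoc, hs, Category.comp_id])
    refine ⟨g, (geomPt _ z ≫ p) (default : PrimeSpectrum _), ?_⟩
    rw [← Scheme.Hom.comp_apply, ← Category.assoc, ← hg, geomPt_apply]
  obtain ⟨hc⟩ := nonempty_isColimit_cofanMk_of (fun g => s ≫ (ρ g).hom) hcov hdisj
  exact (Cofan.nonempty_isColimit_iff_isIso_sigmaDesc (Cofan.mk X fun g => s ≫ (ρ g).hom)).mp ⟨hc⟩

end Groth.Agent.Sga1.FreeQuotSch
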