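import Groth.Agent.Sga1.Kummer

/-!
# Kummer algebras are etale away from the `f_i`
-/

set_option autoImplicit false
universe u v

namespace Groth.Agent.Sga1.KummerEtale

open MvPolynomial IsLocalRing Groth.Agent.Sga1.Kummer

section Pair

variable {A : Type u} [CommRing A]

/-- The standard etale pair `(X^n - a, n X^n)`. -/
noncomputable def pair (a : A) (n : ℕ) (hn : 1 ≤ n) : StandardEtalePair A where
  f := Polynomial.X ^ n - Polynomial.C a
  monic_f := Polynomial.monic_X_pow_sub_C a (by omega)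
  g := Polynomial.C (n : A) * Polynomial.X ^ n
  cond := ⟨Polynomial.X, 0, 1, by
    obtain ⟨m, rfl⟩ := Nat.exists_eq_add_of_le' hn
    simp only [Polynomial.derivative_sub, Polynomial.derivative_X_pow, Polynomial.derivative_C]
    simp
    ring⟩

lemma hasMap_iff {a : A} {n : ℕ} {hn : 1 ≤ n} {S : Type v} [CommRing S] [Algebra A S] {x : S} :
    (pair a n hn).HasMap x ↔
      x ^ n = algebraMap A S a ∧ IsUnit (algebraMap A S (n : A) * x ^ n) := by
  simp [StandardEtalePair.HasMap, pair, sub_eq_zero]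

end Pair

variable {A : Type u} [CommRing A] {r : ℕ} (f : Fin r → A) (n : Fin r → ℕ)

variable (L : Type u) [CommRing L] [Algebra A L] [Algebra (SGA1.kummerAlg A f n) L]
  [IsScalarTower A (SGA1.kummerAlg A f n) L]
  [hL : IsLocalization.Away (algebraMap A (SGA1.kummerAlg A f n) (∏ i, f i)) L]
include hL

include f n in
lemma isUnit_prod : IsUnit (algebraMap A L (∏ i, f i)) := by
  rw [IsScalarTower.algebraMap_apply A (SGA1.kummerAlg A f n) L]
  exact IsLocalization.Away.algebraMap_isUnit _

lemma hom_ext_loc {S : Type v} [CommRing S] [Algebra A S] {φ ψ : L →ₐ[A] S}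
    (h : ∀ i, φ (algebraMap _ L (T f n i)) = ψ (algebraMap _ L (T f n i))) : φ = ψ := by
  refine IsLocalization.algHom_ext (Submonoid.powers (algebraMap A (SGA1.kummerAlg A f n) (∏ i, f i))) ?_
  exact hom_ext f n h

lemma exists_hom_loc {S : Type v} [CommRing S] [Algebra A S] (t : Fin r → S)
    (ht : ∀ i, t i ^ n i = algebraMap A S (f i)) (hu : IsUnit (algebraMap A S (∏ i, f i))) :
    ∃ φ : L →ₐ[A] S, ∀ i, φ (algebraMap _ L (T f n i)) = t i := by
  refine ⟨IsLocalization.liftAlgHom (M := Submonoid.powers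
    (algebraMap A (SGA1.kummerAlg A f n) (∏ i, f i))) (f := lift f n t ht) ?_, fun i => ?_⟩
  · rintro ⟨_, k, rfl⟩
    simp only [map_pow, AlgHom.commutes]
    exact hu.pow k
  · rw [IsLocalization.coe_liftAlgHom, IsLocalization.lift_eq]
    exact lift_T f n t ht i

include f in
lemma formallyEtale (hn : ∀ i, 1 ≤ n i) (hu : ∀ i, IsUnit ((n i : ℕ) : A)) :
    Algebra.FormallyEtale A L := by
  have hP : ∀ {S : Type u} [CommRing S] [Algebra A S], IsUnit (algebraMap A S (∏ i, f i)) →
      ∀ {i : Fin r} {x : S}, x ^ n i = algebraMap A S (f i) → (pair (f i) (n i) (hn i)).HasMap x := by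
    intro S _ _ hS i x hx
    refine hasMap_iff.mpr ⟨hx, ?_⟩
    rw [hx]
    refine ((hu i).map (algebraMap A S)).mul ?_
    rw [map_prod] at hS
    exact isUnit_of_dvd_unit (Finset.dvd_prod_of_mem (fun j => algebraMap A S (f j))
      (Finset.mem_univ i)) hS
  refine Algebra.FormallyEtale.iff_comp_bijective.mpr fun S _ _ I hI => ⟨?_, ?_⟩
  · intro φ ψ hφψ
    have hS : IsUnit (algebraMap A S (∏ i, f i)) := by
      rw [← φ.commutes]
      exact (isUnit_prod f n L).map φ
    refine hom_ext_loc f n L fun i => ?_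
    set x := φ (algebraMap _ L (T f n i)) with hx
    set y := ψ (algebraMap _ L (T f n i)) with hy
    have hx' : x ^ n i = algebraMap A S (f i) := by
      rw [hx, ← map_pow, ← map_pow, T_pow, ← IsScalarTower.algebraMap_apply, AlgHom.commutes]
    have hy' : y ^ n i = algebraMap A S (f i) := by
      rw [hy, ← map_pow, ← map_pow, T_pow, ← IsScalarTower.algebraMap_apply, AlgHom.commutes]
    have hxy : Ideal.Quotient.mk I x = Ideal.Quotient.mk I y :=
      DFunLike.congr_fun hφψ (algebraMap _ L (T f n i))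
    have hxm := hP hS hx'
    obtain ⟨ε, -, H⟩ := (pair (f i) (n i) (hn i)).existsUnique_hasMap_of_hasMap_quotient_of_sq_eq_bot
      I hI x (hxm.map (Ideal.Quotient.mkₐ A I))
    have h0 : (0 : S) = ε := H 0 ⟨I.zero_mem, by simpa using hxm⟩
    have h1 : y - x = ε := H (y - x) ⟨by
      rw [← Ideal.Quotient.mk_eq_mk_iff_sub_mem]; exact hxy.symm, by simpa using hP hS hy'⟩
    have : y - x = 0 := by rw [h1, h0]
    exact (sub_eq_zero.mp this).symm
  · intro φ
    have hSI : IsUnit (algebraMap A (S ⧸ I) (∏ i, f i)) := by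
      rw [← φ.commutes]
      exact (isUnit_prod f n L).map φ
    have hS : IsUnit (algebraMap A S (∏ i, f i)) := by
      rw [← IsNilpotent.isUnit_quotient_mk_iff (I := I) ⟨2, hI⟩]
      exact hSI
    have hx : ∀ i, ∃ x : S, Ideal.Quotient.mk I x = φ (algebraMap _ L (T f n i)) ∧
        x ^ n i = algebraMap A S (f i) := by
      intro i
      obtain ⟨x, hx⟩ := Ideal.Quotient.mk_surjective (φ (algebraMap _ L (T f n i)))
      have hx' : (pair (f i) (n i) (hn i)).HasMap (Ideal.Quotient.mk I x) := by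
        refine hP hSI ?_
        rw [hx, ← map_pow, ← map_pow, T_pow, ← IsScalarTower.algebraMap_apply, AlgHom.commutes]
      obtain ⟨ε, ⟨hε, hm⟩, -⟩ :=
        (pair (f i) (n i) (hn i)).existsUnique_hasMap_of_hasMap_quotient_of_sq_eq_bot I hI x hx'
      refine ⟨x + ε, ?_, (hasMap_iff.mp hm).1⟩
      rw [map_add, Ideal.Quotient.eq_zero_iff_mem.mpr hε, add_zero, hx]
    choose x hx1 hx2 using hx
    obtain ⟨ψ, hψ⟩ := exists_hom_loc f n L x hx2 hS
    refine ⟨ψ, ?_⟩
    refine hom_ext_loc f n L fun i => ?_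
    rw [AlgHom.comp_apply, hψ, Ideal.Quotient.mkₐ_eq_mk, hx1]

include f in
lemma etale (hn : ∀ i, 1 ≤ n i) (hu : ∀ i, IsUnit ((n i : ℕ) : A)) : Algebra.Etale A L := by
  have h1 : Algebra.FinitePresentation A (SGA1.kummerAlg A f n) :=
    Algebra.FinitePresentation.quotient (Submodule.fg_span (Set.finite_range _))
  have h2 : Algebra.FinitePresentation (SGA1.kummerAlg A f n) L :=
    IsLocalization.Away.finitePresentation (algebraMap A (SGA1.kummerAlg A f n) (∏ i, f i))
  exact { formallyEtale := formallyEtale f n L hn hu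
          finitePresentation := Algebra.FinitePresentation.trans A (SGA1.kummerAlg A f n) L }

end Groth.Agent.Sga1.KummerEtale
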