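import Mathlib.RingTheory.RegularLocalRing.Defs
import Mathlib.RingTheory.Ideal.Cotangent
import Mathlib.LinearAlgebra.Basis.VectorSpace

/-!
# Partial regular systems of parameters

Completion of a family of elements of the maximal ideal, linearly independent in the cotangent
space of a regular local ring, to a minimal system of generators of the maximal ideal.
-/

set_option autoImplicit false
universe u

namespace Groth.Agent.Sga1.RegParam

open IsLocalRing

variable {A : Type u} [CommRing A]

lemma sumExtend_inl {ι K V : Type*} [DivisionRing K] [AddCommGroup V] [Module K V] {v : ι → V}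
    (hs : LinearIndependent K v) (i : ι) :
    Module.Basis.sumExtend hs (Sum.inl i) = v i := by
  classical
  simp only [Module.Basis.sumExtend, Module.Basis.reindex_apply, Module.Basis.extend_apply_self]
  change ((Equiv.Set.sumDiffSubset (hs.linearIndepOn_id.subset_extend (Set.subset_univ _)))
    ((Equiv.sumCongr (Equiv.ofInjective v hs.injective) (Equiv.refl _)) (Sum.inl i))).val = v i
  simp

/-- A family of elements of the maximal ideal of a regular local ring which is linearly independent
in the cotangent space can be completed to a system of `dim A` generators of the maximal ideal. -/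
lemma exists_complement [IsRegularLocalRing A] {r : ℕ} (f : Fin r → A)
    (hm : ∀ i, f i ∈ maximalIdeal A)
    (hf : LinearIndependent (ResidueField A) (fun i => (maximalIdeal A).toCotangent ⟨f i, hm i⟩)) :
    ∃ (d : ℕ) (x : Fin d → A), (∀ j, x j ∈ maximalIdeal A) ∧
      Ideal.span (Set.range f ∪ Set.range x) = maximalIdeal A ∧
      ((r + d : ℕ) : WithBot ℕ∞) = ringKrullDim A := by
  classical
  let b := Module.Basis.sumExtend hf
  have : Finite (Fin r ⊕ Module.Basis.sumExtendIndex hf) := Module.Finite.finite_basis b
  have hfin : Finite (Module.Basis.sumExtendIndex hf) :=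
    Finite.of_injective (Sum.inr : _ → Fin r ⊕ Module.Basis.sumExtendIndex hf) Sum.inr_injective
  obtain ⟨d, ⟨e⟩⟩ := Finite.exists_equiv_fin (Module.Basis.sumExtendIndex hf)
  have hx : ∀ j : Fin d, ∃ y : maximalIdeal A, (maximalIdeal A).toCotangent y = b (Sum.inr (e.symm j)) :=
    fun j => (maximalIdeal A).toCotangent_surjective _
  choose y hy using hx
  have hdim : ((r + d : ℕ) : WithBot ℕ∞) = ringKrullDim A := by
    have h1 := (IsRegularLocalRing.iff_finrank_cotangentSpace A).mp ‹_›
    rw [← h1, Module.finrank_eq_nat_card_basis b, Nat.card_sum, Nat.card_congr e]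
    simp
  refine ⟨d, fun j => (y j : A), fun j => (y j).2, ?_, hdim⟩
  have hspan : Submodule.span (ResidueField A) ((maximalIdeal A).toCotangent ''
      (Set.range (fun i => (⟨f i, hm i⟩ : maximalIdeal A)) ∪ Set.range y)) = ⊤ := by
    rw [eq_top_iff, ← b.span_eq]
    refine Submodule.span_mono ?_
    rintro _ ⟨i | i, rfl⟩
    · refine ⟨⟨f i, hm i⟩, Or.inl ⟨i, rfl⟩, ?_⟩
      rw [sumExtend_inl]
    · refine ⟨y (e i), Or.inr ⟨e i, rfl⟩, ?_⟩
      rw [hy, Equiv.symm_apply_apply]
  rw [IsLocalRing.CotangentSpace.span_image_eq_top_iff] at hspan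
  have h2 := congrArg (Submodule.map (maximalIdeal A).subtype) hspan
  rw [Submodule.map_span, Submodule.map_top, Submodule.range_subtype, Set.image_union,
    ← Set.range_comp, ← Set.range_comp] at h2
  exact h2

end Groth.Agent.Sga1.RegParam
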