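import Groth.Agent.Sga1.Kummer
import Groth.Agent.Sga1.RegParam

/-!
# Kummer algebras over local rings: locality and regularity
-/

set_option autoImplicit false
universe u v

namespace Groth.Agent.Sga1.KummerReg

open MvPolynomial IsLocalRing Groth.Agent.Sga1.Kummer

variable {A : Type u} [CommRing A] {r : ℕ} (f : Fin r → A) (n : Fin r → ℕ)

/-- Every element of the Kummer algebra is congruent to a constant modulo the `T_i`. -/
lemma exists_sub_mem (x : SGA1.kummerAlg A f n) :
    ∃ a : A, x - algebraMap A _ a ∈ Ideal.span (Set.range (T f n)) := by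
  have hx : x ∈ Algebra.adjoin A (Set.range (T f n)) := by rw [adjoin_T]; trivial
  induction hx using Algebra.adjoin_induction with
  | mem x hx => exact ⟨0, by simpa using Ideal.subset_span hx⟩
  | algebraMap a => exact ⟨a, by simp⟩
  | add x y _ _ hx hy =>
    obtain ⟨a, ha⟩ := hx
    obtain ⟨b, hb⟩ := hy
    refine ⟨a + b, ?_⟩
    rw [map_add]
    have := add_mem ha hb
    convert this using 1
    ring
  | mul x y _ _ hx hy =>
    obtain ⟨a, ha⟩ := hx
    obtain ⟨b, hb⟩ := hy
    refine ⟨a * b, ?_⟩
    rw [map_mul]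
    have := add_mem (Ideal.mul_mem_left _ x hb) (Ideal.mul_mem_right (algebraMap A _ b) _ ha)
    convert this using 1
    ring

section Local

variable [IsLocalRing A] (hm : ∀ i, f i ∈ maximalIdeal A) (hn : ∀ i, 1 ≤ n i)
include hm hn

/-- The augmentation of the Kummer algebra to the residue field of the base. -/
lemma exists_res : ∃ φ : SGA1.kummerAlg A f n →ₐ[A] ResidueField A, ∀ i, φ (T f n i) = 0 := by
  refine ⟨lift f n (fun _ => 0) (fun i => ?_), fun i => lift_T _ _ _ _ _⟩
  rw [zero_pow (by have := hn i; omega)]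
  exact ((residue_eq_zero_iff (f i)).mpr (hm i)).symm

lemma eq_of_isMaximal (M : Ideal (SGA1.kummerAlg A f n)) [hM : M.IsMaximal] :
    M = (maximalIdeal A).map (algebraMap A (SGA1.kummerAlg A f n)) ⊔
      Ideal.span (Set.range (T f n)) := by
  have := finite f n hn
  have h1 : M.under A = maximalIdeal A :=
    IsLocalRing.eq_maximalIdeal (Ideal.IsMaximal.under A M)
  have h2 : (maximalIdeal A).map (algebraMap A (SGA1.kummerAlg A f n)) ≤ M := by
    rw [Ideal.map_le_iff_le_comap, ← Ideal.under_def, h1]
  have h3 : Ideal.span (Set.range (T f n)) ≤ M := by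
    rw [Ideal.span_le]
    rintro _ ⟨i, rfl⟩
    refine hM.isPrime.mem_of_pow_mem (n i) ?_
    rw [T_pow]
    exact h2 (Ideal.mem_map_of_mem _ (hm i))
  refine le_antisymm ?_ (sup_le h2 h3)
  intro x hx
  obtain ⟨a, ha⟩ := exists_sub_mem f n x
  have ha' : algebraMap A _ a ∈ M := by
    have := M.sub_mem hx (h3 ha)
    simpa using this
  have ha'' : a ∈ maximalIdeal A := by rw [← h1]; exact ha'
  have h4 : x = (x - algebraMap A _ a) + algebraMap A _ a := by ring
  rw [h4]
  exact add_mem (Ideal.mem_sup_right ha) (Ideal.mem_sup_left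
    (Ideal.mem_map_of_mem (algebraMap A (SGA1.kummerAlg A f n)) ha''))

lemma isLocalRing : IsLocalRing (SGA1.kummerAlg A f n) := by
  obtain ⟨φ, -⟩ := exists_res f n hm hn
  have : Nontrivial (SGA1.kummerAlg A f n) := φ.toRingHom.domain_nontrivial
  obtain ⟨M, hM⟩ := Ideal.exists_maximal (SGA1.kummerAlg A f n)
  refine IsLocalRing.of_unique_max_ideal ⟨M, hM, fun M' (hM' : M'.IsMaximal) => ?_⟩
  rw [eq_of_isMaximal f n hm hn M, eq_of_isMaximal f n hm hn M']

lemma isLocalHom [IsLocalRing (SGA1.kummerAlg A f n)] :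
    IsLocalHom (algebraMap A (SGA1.kummerAlg A f n)) := by
  refine ⟨fun a ha => ?_⟩
  by_contra hna
  have h2 : (algebraMap A (SGA1.kummerAlg A f n) a) ∈ maximalIdeal _ := by
    rw [eq_of_isMaximal f n hm hn (maximalIdeal (SGA1.kummerAlg A f n))]
    exact Ideal.mem_sup_left (Ideal.mem_map_of_mem _ ((mem_maximalIdeal _).mpr hna))
  exact (mem_maximalIdeal _).mp h2 ha

end Local

/-- The Kummer algebra of part of a regular system of parameters is regular. -/
lemma isRegularLocalRing [IsRegularLocalRing A] (hm : ∀ i, f i ∈ maximalIdeal A)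
    (hf : LinearIndependent (ResidueField A) (fun i => (maximalIdeal A).toCotangent ⟨f i, hm i⟩))
    (hn : ∀ i, 1 ≤ n i) : IsRegularLocalRing (SGA1.kummerAlg A f n) := by
  have := isLocalRing f n hm hn
  have := finite f n hn
  have : IsNoetherianRing (SGA1.kummerAlg A f n) := IsNoetherianRing.of_finite A _
  obtain ⟨d, x, hx, hspan, hdim⟩ := RegParam.exists_complement f hm hf
  refine IsRegularLocalRing.of_spanFinrank_maximalIdeal_le _ ?_
  refine le_trans ?_ (ringKrullDim_le f n hn)
  rw [← hdim]
  have h1 : maximalIdeal (SGA1.kummerAlg A f n) =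
      Ideal.span (Set.range (Sum.elim (T f n) (fun j => algebraMap A (SGA1.kummerAlg A f n) (x j)))) := by
    rw [eq_of_isMaximal f n hm hn (maximalIdeal (SGA1.kummerAlg A f n)), ← hspan, Ideal.map_span,
      Set.Sum.elim_range, Ideal.span_union, Set.image_union, Ideal.span_union, ← Set.range_comp,
      ← Set.range_comp]
    apply le_antisymm
    · refine sup_le (sup_le ?_ le_sup_right) le_sup_left
      rw [Ideal.span_le]
      rintro _ ⟨i, rfl⟩
      refine Ideal.mem_sup_left ?_
      rw [Function.comp_apply, ← T_pow]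
      exact Ideal.pow_mem_of_mem _ (Ideal.subset_span (Set.mem_range_self i)) _ (hn i)
    · exact sup_le le_sup_right (le_sup_right.trans le_sup_left)
  rw [h1]
  refine Nat.cast_le.mpr ?_
  refine (Submodule.spanFinrank_span_le_ncard_of_finite (Set.finite_range _)).trans ?_
  rw [← Set.image_univ]
  refine (Set.ncard_image_le Set.finite_univ).trans ?_
  rw [Set.ncard_univ, Nat.card_sum]
  simp

end Groth.Agent.Sga1.KummerReg
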