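import Groth.Agent.Sga1.AbhBound
import Mathlib.Data.Nat.Factorization.Basic
import Mathlib.Algebra.CharP.Basic

/-!
# Choice of the exponent in Abhyankar's lemma
-/

set_option autoImplicit false

universe u

open IsLocalRing TensorProduct SGA1 Groth.Agent.Sga1.AbhDefs

namespace Groth.Agent.Sga1.AbhExp

/-- the prime-to-`p` part of `d!` (with `p = 0` allowed). -/
theorem exists_nat (k : Type u) [Field k] (d : ℕ) :
    ∃ n : ℕ, 1 ≤ n ∧ IsUnit ((n : ℕ) : k) ∧ ∀ e, 1 ≤ e → e ≤ d →
      (∀ p : ℕ, p.Prime → CharP k p → ¬ p ∣ e) → e ∣ n := by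
  obtain ⟨p, hp⟩ := CharP.exists k
  rcases CharP.char_is_prime_or_zero k p with hpp | rfl
  · refine ⟨d.factorial / p ^ (d.factorial.factorization p), ?_, ?_, ?_⟩
    · exact Nat.ordCompl_pos p (Nat.factorial_ne_zero d)
    · rw [isUnit_iff_ne_zero, Ne, CharP.cast_eq_zero_iff k p]
      exact Nat.not_dvd_ordCompl hpp (Nat.factorial_ne_zero d)
    · intro e he hed h
      have h1 : e ∣ d.factorial := Nat.dvd_factorial he hed
      have h2 : ¬ p ∣ e := h p hpp hp
      have h3 : Nat.Coprime e (p ^ (d.factorial.factorization p)) :=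
        Nat.Coprime.pow_right _ ((Nat.Prime.coprime_iff_not_dvd hpp).mpr h2).symm
      have h4 : e ∣ p ^ (d.factorial.factorization p) * (d.factorial / p ^ (d.factorial.factorization p)) := by
        rw [Nat.ordProj_mul_ordCompl_eq_self]
        exact h1
      exact h3.dvd_of_dvd_mul_left h4
  · have : CharZero k := CharP.charP_to_charZero k
    refine ⟨d.factorial, Nat.factorial_pos d, ?_, ?_⟩
    · rw [isUnit_iff_ne_zero, Nat.cast_ne_zero]
      exact Nat.factorial_ne_zero d
    · intro e he hed _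
      exact Nat.dvd_factorial he hed

variable (A : Type u) [CommRing A] [IsRegularLocalRing A] [IsDomain A] {r : ℕ} (f : Fin r → A)
    (hm : ∀ i, f i ∈ maximalIdeal A)
    [∀ i, (Ideal.span {f i}).IsPrime]
    (B : Type u) [CommRing B] [Algebra A B] [Algebra (Localization.Away (∏ i, f i)) B]
    [IsScalarTower A (Localization.Away (∏ i, f i)) B]
    [Module.Finite (Localization.Away (∏ i, f i)) B] [Algebra.Etale (Localization.Away (∏ i, f i)) B]
    (htame : SGA1.IsTameAlong f (algebraMap A B))

include htame in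
omit [IsRegularLocalRing A] [IsDomain A] in
theorem not_dvd_of_mem (p : ℕ) (hp : p.Prime) (j : Fin r) (hj : (p : A) ∈ Ideal.span {f j}) :
    ForallRam f (algebraMap A B) j (fun e => ¬ p ∣ e) := by
  intro q _ hq W h
  let R := Localization.AtPrime (Ideal.span {f j})
  let : Algebra R W := (RingHom.codRestrict
    (SGA1.genericResidueMap (algebraMap A B) (Ideal.span {f j}) q hq) W h.1).toAlgebra
  have hlh : IsLocalHom (algebraMap R W) :=
    AbhVal2.isLocalHom_of_dominates (SGA1.genericResidueMap (algebraMap A B) (Ideal.span {f j}) q hq) W h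
  have hchar : CharP (ResidueField R) p := by
    have h1 : (p : ResidueField R) = 0 := by
      have h2 : (algebraMap A R (p : A)) ∈ maximalIdeal R :=
        (IsLocalization.AtPrime.to_map_mem_maximal_iff R (Ideal.span {f j}) _).mpr hj
      rw [← residue_eq_zero_iff] at h2
      simpa using h2
    exact ringChar.of_eq (CharP.ringChar_of_prime_eq_zero hp h1)
  exact (@htame j q _ hq W h hlh).2 p hp hchar

include hm htame in
theorem exists_exponent
    (hmixed : ∀ (p : ℕ), p.Prime → ∀ [CharP (ResidueField A) p] (j : Fin r),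
      (p : A) ∉ Ideal.span {f j} → ForallRam f (algebraMap A B) j (fun e => ¬ p ∣ e)) :
    ∃ n : ℕ, 1 ≤ n ∧ IsUnit ((n : ℕ) : ResidueField A) ∧ ∀ i, ((n : ℕ) : A) ∉ Ideal.span {f i} ∧
      ForallRam f (algebraMap A B) i (· ∣ n) := by
  obtain ⟨n, h1, h2, h3⟩ := exists_nat (ResidueField A)
    (Module.finrank (FractionRing A) (FractionRing A ⊗[A] B))
  refine ⟨n, h1, h2, fun i => ⟨fun hn => ?_, ?_⟩⟩
  · have h4 : (n : A) ∈ maximalIdeal A := (Ideal.span_singleton_le_iff_mem _).mpr (hm i) hn
    rw [← residue_eq_zero_iff, map_natCast] at h4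
    exact h2.ne_zero h4
  · intro q _ hq W h
    obtain ⟨h5, h6⟩ := AbhBound.ramIdx_bound A f B i q hq W h
    refine h3 _ h5 h6 fun p hp hchar => ?_
    by_cases hj : (p : A) ∈ Ideal.span {f i}
    · exact not_dvd_of_mem A f B htame p hp i hj q hq W h
    · exact hmixed p hp i hj q hq W h

end Groth.Agent.Sga1.AbhExp
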