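import Groth.Agent.Sga1.AbhPureAlg
import Groth.Agent.Pi1B.ExtStep
import Groth.Agent.Pi1A.FEtAffine
import Mathlib.RingTheory.Localization.BaseChange
import Mathlib.AlgebraicGeometry.Restrict
import Mathlib.AlgebraicGeometry.Stalk
import Mathlib.AlgebraicGeometry.Noetherian
import Mathlib.RingTheory.RegularLocalRing.Defs

/-!
# Extension of finite etale algebras over regular complements (algebra form of S0287)
-/

set_option autoImplicit false

universe u

open IsLocalRing TensorProduct CategoryTheory CategoryTheory.Limits AlgebraicGeometry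
open Groth.Agent.Pi1A.FEtAffine

namespace Groth.Agent.Sga1.AbhPure

section

variable {X Y Z W : Scheme.{u}}

/-- comparison after restriction along an isomorphism -/
theorem nonempty_iso_of_isIso (e : X ⟶ Y) [IsIso e] {T T' : FEt.Cat Y}
    (h : Nonempty ((FEt.restrict e).obj T ≅ (FEt.restrict e).obj T')) : Nonempty (T ≅ T') := by
  obtain ⟨h⟩ := h
  exact ⟨(FEt.restrict e).preimageIso h⟩

end

section

variable (A₁ : Type u) [CommRing A₁] (g : A₁)

/-- the standard open as an open of the scheme -/
def basic : (Spec (CommRingCat.of A₁)).Opens := PrimeSpectrum.basicOpen g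

/-- `D(g) ≅ Spec A₁[1/g]` -/
noncomputable def basicIso : (basic A₁ g : Scheme.{u}) ≅ Spec (CommRingCat.of (Localization.Away g)) :=
  basicOpenIsoSpecAway (R := CommRingCat.of A₁) g

theorem basicIso_hom_specMap : (basicIso A₁ g).hom ≫ specMap A₁ (Localization.Away g) = (basic A₁ g).ι :=
  basicOpenIsoSpecAway_hom_SpecMap (R := CommRingCat.of A₁) g

theorem basicIso_inv_ι : (basicIso A₁ g).inv ≫ (basic A₁ g).ι = specMap A₁ (Localization.Away g) := by
  rw [← basicIso_hom_specMap, Iso.inv_hom_id_assoc]

end

section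

variable (A₁ : Type u) [CommRing A₁] (g : A₁)
  (O : Type u) [CommRing O] [Algebra A₁ O] (L : Type u) [CommRing L] [Algebra A₁ L]
  [Algebra (Localization.Away g) L] [IsScalarTower A₁ (Localization.Away g) L]
  [Algebra O L] [IsScalarTower A₁ O L] [IsLocalization.Away (algebraMap A₁ O g) L]

theorem isPushout : Algebra.IsPushout A₁ (Localization.Away g) O L := by
  have : IsLocalization (Algebra.algebraMapSubmonoid O (Submonoid.powers g)) L := by
    rw [Algebra.algebraMapSubmonoid, Submonoid.map_powers]
    infer_instance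
  exact (Algebra.isPushout_of_isLocalization (Submonoid.powers g) (Localization.Away g) O L).symm

/-- the punctured spectrum is `Spec L` -/
theorem isPullback_basic : IsPullback (specMap (Localization.Away g) L ≫ (basicIso A₁ g).inv)
    (specMap O L) (basic A₁ g).ι (specMap A₁ O) := by
  have := isPushout A₁ g O L
  have h1 : IsPullback (specMap (Localization.Away g) L) (specMap O L)
      (specMap A₁ (Localization.Away g)) (specMap A₁ O) :=
    isPullback_SpecMap_of_isPushout _ _ _ _
      (CommRingCat.isPushout_of_isPushout A₁ (Localization.Away g) O L)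
  refine IsPullback.of_iso h1 (Iso.refl _) (basicIso A₁ g).symm (Iso.refl _) (Iso.refl _) ?_ ?_ ?_ ?_
  · simp
  · simp
  · simp [← basicIso_inv_ι]
  · simp

/-- local comparison: covers on `Spec O` and on `D(g)` given by algebras `C`, `D` which become isomorphic over `L` -/
theorem local_iso (j : Spec (CommRingCat.of O) ⟶ Spec (CommRingCat.of A₁)) (hj : j = specMap A₁ O)
    (C : Type u) [CommRing C] [Algebra O C] [Module.Finite O C] [Algebra.Etale O C]
    (D : Type u) [CommRing D] [Algebra (Localization.Away g) D] [Module.Finite (Localization.Away g) D]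
    [Algebra.Etale (Localization.Away g) D]
    (e : L ⊗[O] C ≃ₐ[L] L ⊗[Localization.Away g] D) :
    Nonempty ((FEt.restrict (pullback.snd (basic A₁ g).ι j)).obj (ofAlgebra O C) ≅
      (FEt.restrict (pullback.fst (basic A₁ g).ι j)).obj
        ((FEt.restrict (basicIso A₁ g).hom).obj (ofAlgebra (Localization.Away g) D))) := by
  subst hj
  have hpb := isPullback_basic A₁ g O L
  refine nonempty_iso_of_isIso hpb.isoPullback.hom ⟨?_⟩
  have h1 : hpb.isoPullback.hom ≫ pullback.snd (basic A₁ g).ι (specMap A₁ O) = specMap O L :=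
    hpb.isoPullback_hom_snd
  have h2 : (hpb.isoPullback.hom ≫ pullback.fst (basic A₁ g).ι (specMap A₁ O)) ≫ (basicIso A₁ g).hom =
      specMap (Localization.Away g) L := by
    rw [hpb.isoPullback_hom_fst, Category.assoc, Iso.inv_hom_id, Category.comp_id]
  have i1 := (restrictComp hpb.isoPullback.hom (pullback.snd (basic A₁ g).ι (specMap A₁ O))).app
    (ofAlgebra O C)
  have i2 := (restrictCongr h1).app (ofAlgebra O C)
  have i3 := restrictOfAlgebraIso O L C
  have i4 := (isoOfAlgEquiv e).symm
  have i5 := (restrictOfAlgebraIso (Localization.Away g) L D).symm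
  have i6 := (restrictCongr h2).symm.app (ofAlgebra (Localization.Away g) D)
  have i7 := (restrictComp (hpb.isoPullback.hom ≫ pullback.fst (basic A₁ g).ι (specMap A₁ O))
    (basicIso A₁ g).hom).app (ofAlgebra (Localization.Away g) D)
  have i8 := (restrictComp hpb.isoPullback.hom (pullback.fst (basic A₁ g).ι (specMap A₁ O))).app
    ((FEt.restrict (basicIso A₁ g).hom).obj (ofAlgebra (Localization.Away g) D))
  exact i1.symm ≪≫ i2 ≪≫ i3 ≪≫ i4 ≪≫ i5 ≪≫ i6 ≪≫ i7 ≪≫ i8

end

section

variable (A₁ : Type u) [CommRing A₁] [IsDomain A₁] [IsNoetherianRing A₁] (g : A₁) (hg : g ≠ 0)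

include hg in
omit [IsNoetherianRing A₁] in
theorem dense_basic : Dense (basic A₁ g : Set (Spec (CommRingCat.of A₁))) := by
  have : IsDomain (CommRingCat.of A₁) := ‹IsDomain A₁›
  have : IrreducibleSpace (Spec (CommRingCat.of A₁)) := inferInstance
  refine (basic A₁ g).isOpen.dense ?_
  let x : PrimeSpectrum A₁ := ⟨⊥, Ideal.isPrime_bot⟩
  refine ⟨x, ?_⟩
  change g ∉ x.asIdeal
  rw [Ideal.mem_bot]
  exact hg

include hg in
omit [IsNoetherianRing A₁] in
theorem exists_local (p : Ideal A₁) [p.IsPrime] (hgp : g ∈ p)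
    (D : Type u) [CommRing D] [Algebra (Localization.Away g) D] [Module.Finite (Localization.Away g) D]
    [Algebra.Etale (Localization.Away g) D]
    (L : Type u) [Field L] [Algebra A₁ L] [IsFractionRing A₁ L] [Algebra (Localization.Away g) L]
    [IsScalarTower A₁ (Localization.Away g) L]
    (hunr : p.height = 1 →
      ∀ (O : Type u) [CommRing O] [Algebra A₁ O] [IsLocalization.AtPrime O p] [Algebra O L]
        [IsScalarTower A₁ O L], ∃ (C : Type u) (_ : CommRing C) (_ : Algebra O C),
        Module.Finite O C ∧ Algebra.Etale O C ∧ Nonempty (L ⊗[O] C ≃ₐ[L] L ⊗[Localization.Away g] D))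
    (O : Type u) [CommRing O] [Algebra A₁ O] [IsLocalization.AtPrime O p] (hdim : ringKrullDim O = 1)
    (j : Spec (CommRingCat.of O) ⟶ Spec (CommRingCat.of A₁)) (hj : j = specMap A₁ O) :
    ∃ Yξ : FEt.Cat (Spec (CommRingCat.of O)),
        Nonempty ((FEt.restrict (pullback.snd (basic A₁ g).ι j)).obj Yξ ≅
          (FEt.restrict (pullback.fst (basic A₁ g).ι j)).obj
            ((FEt.restrict (basicIso A₁ g).hom).obj (ofAlgebra (Localization.Away g) D))) := by
  have hlocal : IsLocalRing O := IsLocalization.AtPrime.isLocalRing O p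
  have hht : p.height = 1 := by
    have h1 := IsLocalization.AtPrime.ringKrullDim_eq_height p O
    rw [hdim] at h1
    exact_mod_cast h1.symm
  have hle : p.primeCompl ≤ nonZeroDivisors A₁ := Ideal.primeCompl_le_nonZeroDivisors _
  have hdomO : IsDomain O := IsLocalization.isDomain_of_le_nonZeroDivisors (M := p.primeCompl) O hle
  let : Algebra O L := (IsLocalization.map (M := p.primeCompl) (T := nonZeroDivisors A₁)
    (S := O) L (RingHom.id A₁) hle).toAlgebra
  have htOL : IsScalarTower A₁ O L := IsScalarTower.of_algebraMap_eq fun x =>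
    (IsLocalization.map_eq (M := p.primeCompl) (T := nonZeroDivisors A₁)
      (S := O) (Q := L) (g := RingHom.id A₁) hle x).symm
  have hfrac : IsFractionRing O L :=
    IsFractionRing.isFractionRing_of_isDomain_of_isLocalization p.primeCompl O L
  have hkd : Ring.KrullDimLE 1 O := by
    rw [Ring.krullDimLE_iff, hdim]
    rfl
  have hgm : algebraMap A₁ O g ∈ maximalIdeal O :=
    (IsLocalization.AtPrime.to_map_mem_maximal_iff O p g).mpr hgp
  have hg0 : algebraMap A₁ O g ≠ 0 := by
    rw [Ne, map_eq_zero_iff _ (IsLocalization.injective O hle)]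
    exact hg
  have haway := AbhPureAlg.isLocalization_away_of_dim_le_one O L _ hgm hg0
  obtain ⟨C, _, _, hfin, het, ⟨e⟩⟩ := hunr hht O
  exact ⟨ofAlgebra O C, local_iso A₁ g O L _ hj C D e⟩

include hg in
/-- **Purity**, algebra form: a finite etale algebra over `A₁[1/g]`, `A₁` a Noetherian domain with regular
localizations, which extends over the local rings of height one primes containing `g`, extends to a finite
etale `A₁`-algebra. -/
theorem exists_algebra
    (hreg : ∀ (p : Ideal A₁) [p.IsPrime], g ∈ p → IsRegularLocalRing (Localization.AtPrime p))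
    (D : Type u) [CommRing D] [Algebra (Localization.Away g) D] [Module.Finite (Localization.Away g) D]
    [Algebra.Etale (Localization.Away g) D]
    (L : Type u) [Field L] [Algebra A₁ L] [IsFractionRing A₁ L] [Algebra (Localization.Away g) L]
    [IsScalarTower A₁ (Localization.Away g) L]
    (hunr : ∀ (ξ : Ideal A₁) [ξ.IsPrime], g ∈ ξ → ξ.height = 1 →
      ∀ (O : Type u) [CommRing O] [Algebra A₁ O] [IsLocalization.AtPrime O ξ] [Algebra O L]
        [IsScalarTower A₁ O L], ∃ (C : Type u) (_ : CommRing C) (_ : Algebra O C),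
        Module.Finite O C ∧ Algebra.Etale O C ∧ Nonempty (L ⊗[O] C ≃ₐ[L] L ⊗[Localization.Away g] D)) :
    ∃ (C : Type u) (_ : CommRing C) (_ : Algebra A₁ C), Module.Finite A₁ C ∧ Algebra.Etale A₁ C ∧
      Nonempty (Localization.Away g ⊗[A₁] C ≃ₐ[Localization.Away g] D) := by
  have : IsDomain (CommRingCat.of A₁) := ‹IsDomain A₁›
  have : IsNoetherianRing (CommRingCat.of A₁) := ‹IsNoetherianRing A₁›
  have key := Groth.Agent.Pi1B.ExtStep.exists_extension (X := Spec (CommRingCat.of A₁)) (basic A₁ g)
    (dense_basic A₁ g hg)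
    ((FEt.restrict (basicIso A₁ g).hom).obj (ofAlgebra (Localization.Away g) D)) ?_ ?_
  · obtain ⟨Y', ⟨r⟩⟩ := key
    obtain ⟨C, _, _, hfin, het, ⟨e⟩⟩ := exists_iso_ofAlgebra Y'
    refine ⟨C, inferInstance, inferInstance, hfin, het, ?_⟩
    rw [← nonempty_iso_iff_nonempty_algEquiv]
    have i1 := (restrictOfAlgebraIso A₁ (Localization.Away g) C).symm
    have i2 := (FEt.restrict (specMap A₁ (Localization.Away g))).mapIso e.symm
    have i3 := (restrictCongr (basicIso_inv_ι A₁ g)).symm.app Y'
    have i4 := (restrictComp (basicIso A₁ g).inv (basic A₁ g).ι).app Y'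
    have i5 := (FEt.restrict (basicIso A₁ g).inv).mapIso r
    have i6 := (restrictComp (basicIso A₁ g).inv (basicIso A₁ g).hom).symm.app
      (ofAlgebra (Localization.Away g) D)
    have i7 := (restrictCongr (basicIso A₁ g).inv_hom_id).app (ofAlgebra (Localization.Away g) D)
    have i8 := (restrictId _).app (ofAlgebra (Localization.Away g) D)
    exact ⟨(i1 ≪≫ i2 ≪≫ i3 ≪≫ i4 ≪≫ i5 ≪≫ i6 ≪≫ i7 ≪≫ i8).symm⟩
  · intro x hx
    let alg : Algebra A₁ ((Spec (CommRingCat.of A₁)).presheaf.stalk x) := StructureSheaf.stalkAlgebra A₁ x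
    have hloc : IsLocalization.AtPrime ((Spec (CommRingCat.of A₁)).presheaf.stalk x) x.asIdeal :=
      StructureSheaf.IsLocalization.to_stalk A₁ x
    have hgp : g ∈ x.asIdeal := not_not.mp hx
    have h1 := hreg x.asIdeal hgp
    exact IsRegularLocalRing.of_ringEquiv
      (IsLocalization.algEquiv x.asIdeal.primeCompl (Localization.AtPrime x.asIdeal)
        ((Spec (CommRingCat.of A₁)).presheaf.stalk x)).toRingEquiv
  · intro x hx hdim
    let alg : Algebra A₁ ((Spec (CommRingCat.of A₁)).presheaf.stalk x) := StructureSheaf.stalkAlgebra A₁ x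
    have hloc : IsLocalization.AtPrime ((Spec (CommRingCat.of A₁)).presheaf.stalk x) x.asIdeal :=
      StructureSheaf.IsLocalization.to_stalk A₁ x
    have hgp : g ∈ x.asIdeal := not_not.mp hx
    exact exists_local A₁ g hg x.asIdeal hgp D L (hunr x.asIdeal hgp)
      ((Spec (CommRingCat.of A₁)).presheaf.stalk x) hdim _ (Spec.fromSpecStalk_eq' _ _)

end

end Groth.Agent.Sga1.AbhPure
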