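import Groth.Agent.Sga1.AbhLocal
import Groth.Agent.Sga1.AbhPure
import Groth.Agent.CalgA.RegLoc

/-!
# Abhyankar's lemma: extension over the Kummer algebra
-/

set_option autoImplicit false

universe u

open IsLocalRing TensorProduct SGA1 Groth.Agent.Sga1.AbhDefs

namespace Groth.Agent.Sga1.AbhMain

variable (A : Type u) [CommRing A] [IsRegularLocalRing A] [IsDomain A] {r : ℕ} (f : Fin r → A)
    (hm : ∀ i, f i ∈ maximalIdeal A)
    (hf : LinearIndependent (ResidueField A) (fun i => (maximalIdeal A).toCotangent ⟨f i, hm i⟩))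
    [∀ i, (Ideal.span {f i}).IsPrime]
    (B : Type u) [CommRing B] [Algebra A B] [Algebra (Localization.Away (∏ i, f i)) B]
    [IsScalarTower A (Localization.Away (∏ i, f i)) B]
    [Module.Finite (Localization.Away (∏ i, f i)) B] [Algebra.Etale (Localization.Away (∏ i, f i)) B]
    (htame : SGA1.IsTameAlong f (algebraMap A B))

include hm hf htame

/-- MAIN: if every `n_i` is invertible in `κ((f_i))` and divisible by all ramification indices over
`A_(f_i)`, then `B` extends, after base change to the Kummer algebra, to a finite etale algebra over the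
Kummer algebra. -/
theorem alg_main (n : Fin r → ℕ) (hn : ∀ i, 1 ≤ n i)
    (h : ∀ i, ((n i : ℕ) : A) ∉ Ideal.span {f i} ∧ ForallRam f (algebraMap A B) i (· ∣ n i)) :
    ∃ (C : Type u) (_ : CommRing C) (_ : Algebra (kummerAlg A f n) C),
      Module.Finite (kummerAlg A f n) C ∧ Algebra.Etale (kummerAlg A f n) C ∧
      Nonempty (Localization.Away (algebraMap A (kummerAlg A f n) (∏ i, f i)) ⊗[kummerAlg A f n] C
        ≃ₐ[Localization.Away (algebraMap A (kummerAlg A f n) (∏ i, f i))]
        Localization.Away (algebraMap A (kummerAlg A f n) (∏ i, f i)) ⊗[A] B) := by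
  have hreg := KummerReg.isRegularLocalRing f n hm hf hn
  have hdom := AbhLocal.isDomain_kummer A f hm hf n hn
  have hinj := AbhLocal.injective_kummer A f n hn
  have hF : ∏ i, f i ≠ 0 := Finset.prod_ne_zero_iff.mpr fun i _ => AbhLocal.ne_zero A f hm hf i
  let F := ∏ i, f i
  let A₁ := kummerAlg A f n
  have hg : algebraMap A A₁ F ≠ 0 := (map_ne_zero_iff _ hinj).mpr hF
  let Q := Localization.Away (algebraMap A A₁ F)
  have hunit : IsUnit (algebraMap A Q F) := by
    rw [IsScalarTower.algebraMap_apply A A₁ Q]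
    exact IsLocalization.Away.algebraMap_isUnit (S := Q) (algebraMap A A₁ F)
  let : Algebra (Localization.Away F) Q := (IsLocalization.Away.lift F hunit).toAlgebra
  have htQ : IsScalarTower A (Localization.Away F) Q :=
    IsScalarTower.of_algebraMap_eq fun x => (IsLocalization.Away.lift_eq F hunit x).symm
  have hDet : Algebra.Etale Q (Q ⊗[A] B) := AbhBase.etale A (Submonoid.powers F) (Localization.Away F) B Q
  have hDfin : Module.Finite Q (Q ⊗[A] B) := AbhBase.finite A (Submonoid.powers F) (Localization.Away F) B Q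
  let L := FractionRing A₁
  have hle : Submonoid.powers (algebraMap A A₁ F) ≤ nonZeroDivisors A₁ :=
    powers_le_nonZeroDivisors_of_noZeroDivisors hg
  let : Algebra Q L := (IsLocalization.map (M := Submonoid.powers (algebraMap A A₁ F))
    (T := nonZeroDivisors A₁) (S := Q) L (RingHom.id A₁) hle).toAlgebra
  have htQL : IsScalarTower A₁ Q L := IsScalarTower.of_algebraMap_eq fun x =>
    (IsLocalization.map_eq (M := Submonoid.powers (algebraMap A A₁ F)) (T := nonZeroDivisors A₁)
      (S := Q) (Q := L) (g := RingHom.id A₁) hle x).symm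
  have htAA₁L : IsScalarTower A A₁ L := inferInstance
  have htAQL : IsScalarTower A Q L := by
    refine IsScalarTower.of_algebraMap_eq fun x => ?_
    rw [IsScalarTower.algebraMap_apply A A₁ L, IsScalarTower.algebraMap_apply A₁ Q L,
      ← IsScalarTower.algebraMap_apply A A₁ Q]
  refine AbhPure.exists_algebra A₁ (algebraMap A A₁ F) hg (fun p _ _ => Groth.Agent.CalgA.RegLoc.isRegularLocalRing_localization A₁ p)
    (Q ⊗[A] B) L ?_
  intro ξ _ hgξ hξ O _ _ _ _ _
  obtain ⟨C, _, _, h1, h2, ⟨e⟩⟩ := AbhLocal.alg_local' A f hm hf B htame n hn ξ hξ (fun i _ => h i) O L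
  exact ⟨C, inferInstance, inferInstance, h1, h2,
    ⟨e.trans (Algebra.TensorProduct.cancelBaseChange A Q L L B).symm⟩⟩

end Groth.Agent.Sga1.AbhMain
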