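import Groth.Agent.Sga1.AbhConv2
import Groth.Agent.Sga1.AbhExp
import Groth.Agent.Sga1.AbhMain

/-!
# Absolute Abhyankar lemma, modulo the mixed characteristic lemma
-/

set_option autoImplicit false

universe u

open IsLocalRing TensorProduct SGA1 Groth.Agent.Sga1.AbhDefs
open CategoryTheory CategoryTheory.Limits AlgebraicGeometry

namespace Groth.Agent.Sga1.AbhFinal

theorem final (A : Type u) [CommRing A] [IsRegularLocalRing A] [IsDomain A] (r : ℕ) (f : Fin r → A)
    (hm : ∀ i, f i ∈ maximalIdeal A)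
    (hf : LinearIndependent (ResidueField A) (fun i => (maximalIdeal A).toCotangent ⟨f i, hm i⟩))
    [∀ i, (Ideal.span {f i}).IsPrime]
    (V : FEt.Cat ((SGA1.specBasicOpen A (∏ i, f i)) : Scheme.{u}))
    (htame : SGA1.IsTameAlong f (((V.hom ≫ ((SGA1.specBasicOpen A (∏ i, f i))).ι).appTop).hom.comp
      (Scheme.ΓSpecIso (CommRingCat.of A)).inv.hom))
    (hmixed : ∀ (B : Type u) [CommRing B] [Algebra A B] [Algebra (Localization.Away (∏ i, f i)) B]
      [IsScalarTower A (Localization.Away (∏ i, f i)) B] [Module.Finite (Localization.Away (∏ i, f i)) B]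
      [Algebra.Etale (Localization.Away (∏ i, f i)) B], SGA1.IsTameAlong f (algebraMap A B) →
      ∀ (p : ℕ), p.Prime → ∀ [CharP (ResidueField A) p] (j : Fin r),
      (p : A) ∉ Ideal.span {f j} → ForallRam f (algebraMap A B) j (fun e => ¬ p ∣ e)) :
    ∃ n : Fin r → ℕ, (∀ i, 1 ≤ n i) ∧ (∀ i, IsUnit ((n i : ℕ) : ResidueField A)) ∧
      ∃ W : FEt.Cat (Spec (CommRingCat.of (SGA1.kummerAlg A f n))),
        Nonempty ((FEt.restrict ((Spec.map (CommRingCat.ofHom (algebraMap A (SGA1.kummerAlg A f n)))) ⁻¹ᵁ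
          (SGA1.specBasicOpen A (∏ i, f i))).ι).obj W ≅
          (FEt.restrict ((Spec.map (CommRingCat.ofHom (algebraMap A (SGA1.kummerAlg A f n)))) ∣_
            (SGA1.specBasicOpen A (∏ i, f i)))).obj V) := by
  let F := ∏ i, f i
  obtain ⟨alg, h1, h2, h3, h4⟩ := AbhConv.exists_algebra A F V
  let B : Type u := Γ(V.left, ⊤)
  let algA : Algebra A B := (AbhConv.str A F V).toAlgebra
  have htower : IsScalarTower A (Localization.Away F) B := IsScalarTower.of_algebraMap_eq' h3.symm
  have htame' : SGA1.IsTameAlong f (algebraMap A B) := htame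
  obtain ⟨n, hn1, hn2, hn3⟩ := AbhExp.exists_exponent A f hm B htame' (hmixed B htame')
  refine ⟨fun _ => n, fun _ => hn1, fun _ => hn2, ?_⟩
  obtain ⟨C, _, _, hC1, hC2, hC3⟩ := AbhMain.alg_main A f hm hf B htame' (fun _ => n) (fun _ => hn1) hn3
  let A₁ := kummerAlg A f (fun _ => n)
  let Q := Localization.Away (algebraMap A A₁ F)
  have hunit : IsUnit (algebraMap A Q F) := by
    rw [IsScalarTower.algebraMap_apply A A₁ Q]
    exact IsLocalization.Away.algebraMap_isUnit (S := Q) (algebraMap A A₁ F)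
  let : Algebra (Localization.Away F) Q := (IsLocalization.Away.lift F hunit).toAlgebra
  have htQ : IsScalarTower A (Localization.Away F) Q :=
    IsScalarTower.of_algebraMap_eq fun x => (IsLocalization.Away.lift_eq F hunit x).symm
  exact ⟨Groth.Agent.Pi1A.FEtAffine.ofAlgebra A₁ C, AbhConv2.nonempty_iso A F A₁ B V h4 C hC3⟩

end Groth.Agent.Sga1.AbhFinal
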