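import Groth.Prelude.Def_SGA1
import Mathlib.RingTheory.MvPolynomial.Basic
import Mathlib.RingTheory.Ideal.Cotangent
import Mathlib.RingTheory.LocalRing.ResidueField.Basic
import Mathlib.RingTheory.IntegralClosure.Algebra.Basic
import Mathlib.RingTheory.FiniteType
import Mathlib.RingTheory.Ideal.GoingUp
import Mathlib.FieldTheory.IsSepClosed
import Mathlib.FieldTheory.IsAlgClosed.AlgebraicClosure
import Mathlib.RingTheory.Localization.FractionRing

/-!
Elementary facts on the Kummer algebra: finiteness, residue field, a geometric generic point.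
-/

set_option autoImplicit false
universe u
open IsLocalRing
open SGA1

namespace Groth.Agent.Sga1.KummerFinite

theorem isIntegral_mk_X (A : Type u) [CommRing A] {r : ℕ} (f : Fin r → A) (n : Fin r → ℕ)
    (hn : ∀ i, 1 ≤ n i) (i : Fin r) :
    IsIntegral A (Ideal.Quotient.mk _ (MvPolynomial.X i) : kummerAlg A f n) := by
  refine ⟨Polynomial.X ^ n i - Polynomial.C (f i), Polynomial.monic_X_pow_sub_C _ (by have := hn i; omega), ?_⟩
  simp only [Polynomial.eval₂_sub, Polynomial.eval₂_X_pow, Polynomial.eval₂_C]
  rw [← map_pow]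
  have : (algebraMap A (kummerAlg A f n)) (f i) = Ideal.Quotient.mk _ (MvPolynomial.C (f i)) := rfl
  rw [this, ← map_sub, Ideal.Quotient.eq_zero_iff_mem]
  exact Ideal.subset_span ⟨i, rfl⟩

theorem pow_mk_X (A : Type u) [CommRing A] {r : ℕ} (f : Fin r → A) (n : Fin r → ℕ) (i : Fin r) :
    (Ideal.Quotient.mk _ (MvPolynomial.X i) : kummerAlg A f n) ^ n i = algebraMap A _ (f i) := by
  have : (algebraMap A (kummerAlg A f n)) (f i) = Ideal.Quotient.mk _ (MvPolynomial.C (f i)) := rfl
  rw [this, ← sub_eq_zero, ← map_pow, ← map_sub, Ideal.Quotient.eq_zero_iff_mem]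
  exact Ideal.subset_span ⟨i, rfl⟩

theorem finite_kummerAlg (A : Type u) [CommRing A] {r : ℕ} (f : Fin r → A) (n : Fin r → ℕ)
    (hn : ∀ i, 1 ≤ n i) : Module.Finite A (kummerAlg A f n) := by
  have hint : Algebra.IsIntegral A (kummerAlg A f n) := by
    constructor
    intro x
    obtain ⟨p, rfl⟩ := Ideal.Quotient.mk_surjective x
    induction p using MvPolynomial.induction_on with
    | C a => exact isIntegral_algebraMap
    | add p q hp hq => rw [map_add]; exact hp.add hq
    | mul_X p i hp => rw [map_mul]; exact hp.mul (isIntegral_mk_X A f n hn i)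
  have : Algebra.FiniteType A (kummerAlg A f n) := inferInstance
  exact Algebra.IsIntegral.finite

theorem residue_comp_surjective (A : Type u) [CommRing A] [IsLocalRing A] {r : ℕ} (f : Fin r → A)
    (hm : ∀ i, f i ∈ maximalIdeal A) (n : Fin r → ℕ) (hn : ∀ i, 1 ≤ n i) [IsLocalRing (kummerAlg A f n)] :
    Function.Surjective ((residue (kummerAlg A f n)).comp (algebraMap A (kummerAlg A f n))) := by
  have := finite_kummerAlg A f n hn
  have hX : ∀ i, (Ideal.Quotient.mk _ (MvPolynomial.X i) : kummerAlg A f n) ∈ maximalIdeal (kummerAlg A f n) := by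
    intro i
    refine Ideal.IsPrime.mem_of_pow_mem inferInstance (n i) ?_
    rw [pow_mk_X]
    have : (maximalIdeal (kummerAlg A f n)).comap (algebraMap A _) = maximalIdeal A := by
      apply IsLocalRing.eq_maximalIdeal
      exact Ideal.isMaximal_comap_of_isIntegral_of_isMaximal _
    rw [← Ideal.mem_comap, this]
    exact hm i
  intro y
  obtain ⟨x, rfl⟩ := IsLocalRing.residue_surjective y
  obtain ⟨p, rfl⟩ := Ideal.Quotient.mk_surjective x
  induction p using MvPolynomial.induction_on with
  | C a => exact ⟨a, rfl⟩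
  | add p q hp hq =>
    obtain ⟨a, ha⟩ := hp
    obtain ⟨b, hb⟩ := hq
    exact ⟨a + b, by rw [map_add, ha, hb, map_add, map_add]⟩
  | mul_X p i hp =>
    refine ⟨0, ?_⟩
    rw [map_zero, map_mul, map_mul, (residue_eq_zero_iff _).2 (hX i), mul_zero]

theorem isSepClosed_of_surjective {K L : Type u} [Field K] [Field L] [IsSepClosed K] (g : K →+* L)
    (hg : Function.Surjective g) : IsSepClosed L := by
  let e : K ≃+* L := RingEquiv.ofBijective g ⟨g.injective, hg⟩
  constructor
  intro p hp
  have h1 : (p.map (e.symm : L →+* K)).Separable := hp.map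
  have h2 := IsSepClosed.splits_of_separable _ h1
  have h3 := h2.map (e : K →+* L)
  rw [Polynomial.map_map] at h3
  simpa using h3

theorem isSepClosed_residueField_kummerAlg (A : Type u) [CommRing A] [IsLocalRing A] {r : ℕ} (f : Fin r → A)
    (hm : ∀ i, f i ∈ maximalIdeal A) (n : Fin r → ℕ) (hn : ∀ i, 1 ≤ n i) [IsLocalRing (kummerAlg A f n)]
    [IsSepClosed (ResidueField A)] : IsSepClosed (ResidueField (kummerAlg A f n)) := by
  have := finite_kummerAlg A f n hn
  have : IsLocalHom (algebraMap A (kummerAlg A f n)) := by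
    have h : (maximalIdeal (kummerAlg A f n)).comap (algebraMap A _) = maximalIdeal A := by
      apply IsLocalRing.eq_maximalIdeal
      exact Ideal.isMaximal_comap_of_isIntegral_of_isMaximal _
    exact ((IsLocalRing.local_hom_TFAE (algebraMap A (kummerAlg A f n))).out 0 4).2 h
  refine isSepClosed_of_surjective (ResidueField.map (algebraMap A (kummerAlg A f n))) ?_
  intro y
  obtain ⟨a, ha⟩ := residue_comp_surjective A f hm n hn y
  exact ⟨residue A a, ha⟩

/-- a prime of the Kummer algebra not containing the product of the `f i` -/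
theorem exists_geometric_point (A : Type u) [CommRing A] [IsDomain A] {r : ℕ} (f : Fin r → A) (n : Fin r → ℕ)
    (hn : ∀ i, 1 ≤ n i) : ∃ φ : kummerAlg A f n →+* AlgebraicClosure (FractionRing A),
      φ.comp (algebraMap A _) = algebraMap A _ := by
  have h : ∀ i, ∃ z : AlgebraicClosure (FractionRing A), z ^ n i = algebraMap A _ (f i) := fun i =>
    IsAlgClosed.exists_pow_nat_eq _ (by have := hn i; omega)
  choose z hz using h
  refine ⟨Ideal.Quotient.lift _ (MvPolynomial.aeval z).toRingHom ?_, ?_⟩
  · intro a ha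
    have : Ideal.span (Set.range fun i => (MvPolynomial.X i : MvPolynomial (Fin r) A) ^ n i - MvPolynomial.C (f i)) ≤
      RingHom.ker ((MvPolynomial.aeval z : MvPolynomial (Fin r) A →ₐ[A] AlgebraicClosure (FractionRing A)).toRingHom) := by
      rw [Ideal.span_le]
      rintro _ ⟨i, rfl⟩
      simp [hz, RingHom.mem_ker]
    exact this ha
  · ext a
    show (MvPolynomial.aeval z) (MvPolynomial.C a) = _
    rw [MvPolynomial.aeval_C]

theorem ne_zero_of_linearIndependent {A : Type u} [CommRing A] [IsLocalRing A] {r : ℕ} (f : Fin r → A)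
    (hm : ∀ i, f i ∈ maximalIdeal A)
    (hf : LinearIndependent (ResidueField A) (fun i => (maximalIdeal A).toCotangent ⟨f i, hm i⟩)) (i : Fin r) :
    f i ≠ 0 := by
  intro h
  apply hf.ne_zero i
  have : (⟨f i, hm i⟩ : maximalIdeal A) = 0 := Subtype.ext h
  show (maximalIdeal A).toCotangent ⟨f i, hm i⟩ = 0
  rw [this, map_zero]

end Groth.Agent.Sga1.KummerFinite
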