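import Groth.Prelude.Def_EtRam
import Mathlib.RingTheory.Unramified.Field
import Mathlib.RingTheory.DiscreteValuationRing.TFAE
import Mathlib.RingTheory.Valuation.LocalSubring
import Mathlib.RingTheory.KrullDimension.Zero
import Mathlib.RingTheory.DedekindDomain.Dvr
import Mathlib.RingTheory.HopkinsLevitzki

/-!
# Valuation rings of Kummer extensions

Let `R` be a Noetherian local domain whose maximal ideal is generated by `a i ≠ 0`, and `V` a
valuation ring of a field `L` dominating `R`, such that `L` is the fraction field of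
`R[τ]` with `τ j ^ m j = a j`, where for `j ≠ i` both `a j` and `m j` are units of `R`.
Then `τ i` generates the maximal ideal of `V`, and the residue field of `V` is finite
separable over the residue field of `R`.
-/

set_option autoImplicit false
universe u v

namespace Groth.Agent.Sga1.KummerDVR

open IsLocalRing

/-- A commutative algebra generated by elements with vanishing differentials is formally
unramified. -/
lemma formallyUnramified_of_adjoin {R : Type u} {D : Type v} [CommRing R] [CommRing D] [Algebra R D]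
    (s : Set D) (hs : Algebra.adjoin R s = ⊤) (h : ∀ x ∈ s, KaehlerDifferential.D R D x = 0) :
    Algebra.FormallyUnramified R D := by
  have hD : ∀ x : D, KaehlerDifferential.D R D x = 0 := by
    intro x
    have hx : x ∈ Algebra.adjoin R s := by rw [hs]; trivial
    induction hx using Algebra.adjoin_induction with
    | mem x hx => exact h x hx
    | algebraMap a => exact Derivation.map_algebraMap _ a
    | add x y _ _ hx hy => rw [map_add, hx, hy, add_zero]
    | mul x y _ _ hx hy => rw [Derivation.leibniz, hx, hy, smul_zero, smul_zero, add_zero]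
  refine ⟨?_⟩
  rw [← Submodule.subsingleton_iff D, ← subsingleton_iff_bot_eq_top,
    ← KaehlerDifferential.span_range_derivation R D]
  symm
  rw [Submodule.span_eq_bot]
  rintro _ ⟨x, rfl⟩
  exact hD x

/-- If `x ^ n = a` with `n` and `a` units then the differential of `x` vanishes. -/
lemma differential_eq_zero {R : Type u} {D : Type v} [CommRing R] [CommRing D] [Algebra R D]
    (x : D) (n : ℕ) (a : R) (hx : x ^ n = algebraMap R D a) (hn : IsUnit (n : D)) (hxu : IsUnit x) :
    KaehlerDifferential.D R D x = 0 := by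
  have h1 : KaehlerDifferential.D R D (x ^ n) = 0 := by
    rw [hx]; exact Derivation.map_algebraMap _ a
  rw [Derivation.leibniz_pow, ← Nat.cast_smul_eq_nsmul D, smul_smul] at h1
  exact ((hn.mul (hxu.pow (n - 1))).smul_eq_zero).mp h1

/-- In a reduced Artinian ring every element `x` satisfies `x (1 - x y) = 0` for some `y`. -/
lemma exists_mul_sub_eq_zero {D : Type u} [CommRing D] [IsArtinianRing D] [IsReduced D] (x : D) :
    ∃ y : D, x * (1 - x * y) = 0 := by
  obtain ⟨k, y, hy⟩ := IsArtinian.exists_pow_succ_smul_dvd x (1 : D)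
  refine ⟨y, ?_⟩
  have h1 : x ^ k * (1 - x * y) = 0 := by
    simp only [smul_eq_mul, mul_one] at hy
    have h3 : x ^ k * (1 - x * y) = x ^ k - x ^ (k + 1) * y := by ring
    rw [h3, sub_eq_zero]; exact hy.symm
  have h2 : (x * (1 - x * y)) ^ (k + 1) = 0 := by
    have : (x * (1 - x * y)) ^ (k + 1) = (x ^ k * (1 - x * y)) * (x * (1 - x * y) ^ k) := by
      rw [mul_pow, pow_succ, pow_succ]; ring
    rw [this, h1, zero_mul]
  exact pow_eq_zero_iff (by omega) |>.mp h2

/-- A ring finite over a local ring in which the maximal ideal dies is Artinian. -/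
lemma isArtinianRing_of_finite {R : Type u} {D : Type v} [CommRing R] [CommRing D] [Algebra R D]
    [IsLocalRing R] [IsNoetherianRing R] [Module.Finite R D]
    (h : (maximalIdeal R).map (algebraMap R D) = ⊥) : IsArtinianRing D := by
  rw [isArtinianRing_iff_isNoetherianRing_krullDimLE_zero]
  refine ⟨IsNoetherianRing.of_finite R D, Ring.KrullDimLE.mk₀ fun I hI => ?_⟩
  have h1 : I.comap (algebraMap R D) = maximalIdeal R := by
    refine le_antisymm (le_maximalIdeal (Ideal.IsPrime.ne_top inferInstance)) ?_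
    rw [← Ideal.map_le_iff_le_comap, h]
    exact bot_le
  exact Ideal.isMaximal_of_isIntegral_of_isMaximal_comap I (h1 ▸ maximalIdeal.isMaximal R)

section Abstract

variable {R C : Type u} [CommRing R] [IsLocalRing R] [IsNoetherianRing R] [CommRing C] [Algebra R C]
  [Module.Finite R C] (t : C) (hD : (maximalIdeal R).map (algebraMap R (C ⧸ Ideal.span {t})) = ⊥)
  (hunr : Algebra.FormallyUnramified R (C ⧸ Ideal.span {t}))

include hD hunr in
/-- If `C/t` is unramified over `R` and killed by the maximal ideal, every element of a prime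
ideal `𝔫` is, up to an element outside `𝔫`, divisible by `t`. -/
lemma exists_mul_eq_mul (𝔫 : Ideal C) [h𝔫 : 𝔫.IsPrime] (c : C) (hc : c ∈ 𝔫) :
    ∃ s, s ∉ 𝔫 ∧ ∃ d : C, s * c = t * d := by
  have h1 : IsArtinianRing (C ⧸ Ideal.span {t}) := isArtinianRing_of_finite hD
  have h2 : IsReduced (C ⧸ Ideal.span {t}) := by
    have h1 := Algebra.FormallyUnramified.isRadical_map_isMaximal R (C ⧸ Ideal.span {t})
      (maximalIdeal R)
    rw [hD] at h1
    exact ⟨fun x ⟨k, hk⟩ => h1 ⟨k, hk⟩⟩
  obtain ⟨y, hy⟩ := exists_mul_sub_eq_zero (Ideal.Quotient.mk (Ideal.span {t}) c)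
  obtain ⟨y, rfl⟩ := Ideal.Quotient.mk_surjective y
  refine ⟨1 - c * y, fun h => ?_, ?_⟩
  · have h1 : (1 : C) ∈ 𝔫 := by
      have := 𝔫.add_mem h (𝔫.mul_mem_right y hc)
      simpa using this
    exact h𝔫.ne_top ((Ideal.eq_top_iff_one _).mpr h1)
  · have h1 : Ideal.Quotient.mk (Ideal.span {t}) (c * (1 - c * y)) = 0 := by
      rw [← hy]; simp
    obtain ⟨d, hd⟩ := Ideal.mem_span_singleton'.mp (Ideal.Quotient.eq_zero_iff_mem.mp h1)
    exact ⟨d, by rw [mul_comm, ← hd, mul_comm]⟩

include hD hunr in
lemma maximalIdeal_localization (𝔫 : Ideal C) [h𝔫 : 𝔫.IsPrime] (ht : t ∈ 𝔫) :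
    maximalIdeal (Localization.AtPrime 𝔫) = Ideal.span {algebraMap C (Localization.AtPrime 𝔫) t} := by
  rw [← Localization.AtPrime.map_eq_maximalIdeal]
  apply le_antisymm
  · rw [Ideal.map_le_iff_le_comap]
    intro c hc
    obtain ⟨s, hs, d, hd⟩ := exists_mul_eq_mul t hD hunr 𝔫 c hc
    rw [Ideal.mem_comap, Ideal.mem_span_singleton']
    refine ⟨IsLocalization.mk' (Localization.AtPrime 𝔫) d (⟨s, hs⟩ : 𝔫.primeCompl), ?_⟩
    rw [mul_comm, IsLocalization.mul_mk'_eq_mk'_of_mul, IsLocalization.mk'_eq_iff_eq_mul,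
      ← map_mul]
    congr 1
    rw [← hd, mul_comm]
  · rw [Ideal.span_le, Set.singleton_subset_iff]
    exact Ideal.mem_map_of_mem _ ht

variable {L : Type u} [Field L] (V : ValuationSubring L) [Algebra R V]
  [hloc : IsLocalHom (algebraMap R V)] [IsDomain C] (j : C →ₐ[R] V) (hj : Function.Injective j)
  (hne : t ≠ 0) (ht : j t ∈ maximalIdeal V)
  (hfrac : ∀ x : L, ∃ c s : C, s ≠ 0 ∧ x * (j s : V) = (j c : V))

omit hloc in
include hD hunr hj hne ht hfrac in
/-- Core statement: `V` is the localization of `C` at the prime below `V`. -/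
lemma exists_factor : ∃ f : Localization.AtPrime ((maximalIdeal V).comap j) →+* V,
    Function.Bijective f ∧ ∀ c : C, f (algebraMap C _ c) = j c := by
  let : Algebra C L := (V.subtype.comp (j : C →+* V)).toAlgebra
  have hCL : ∀ c : C, algebraMap C L c = (j c : V) := fun c => rfl
  have hinj : Function.Injective (algebraMap C L) := fun x y h => hj (Subtype.ext h)
  have : FaithfulSMul C L := (faithfulSMul_iff_algebraMap_injective C L).mpr hinj
  have hFC : IsFractionRing C L := by
    refine IsFractionRing.of_field C L fun x => ?_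
    obtain ⟨c, s, hs, h⟩ := hfrac x
    refine ⟨c, s, ?_⟩
    rw [hCL, hCL, ← h, mul_div_assoc, div_self, mul_one]
    intro h0
    exact hs (hj (by rw [map_zero]; exact Subtype.ext h0))
  set 𝔫 : Ideal C := (maximalIdeal V).comap j with h𝔫
  have h𝔫p : 𝔫.IsPrime := Ideal.comap_isPrime _ _
  have hunit : ∀ y : 𝔫.primeCompl, IsUnit ((j : C →+* V) y) := by
    intro y
    by_contra hy
    exact y.2 (show (j : C →+* V) y ∈ maximalIdeal V from hy)
  let f : Localization.AtPrime 𝔫 →+* V := IsLocalization.lift (M := 𝔫.primeCompl) hunit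
  have hf : ∀ c : C, f (algebraMap C _ c) = j c := fun c => IsLocalization.lift_eq hunit c
  refine ⟨f, ?_, hf⟩
  let : Algebra (Localization.AtPrime 𝔫) L := (V.subtype.comp f).toAlgebra
  have hst : IsScalarTower C (Localization.AtPrime 𝔫) L := by
    refine IsScalarTower.of_algebraMap_eq fun c => ?_
    rw [RingHom.algebraMap_toAlgebra (V.subtype.comp f), RingHom.comp_apply, hf]
    rfl
  have hdom : IsDomain (Localization.AtPrime 𝔫) :=
    IsLocalization.isDomain_localization 𝔫.primeCompl_le_nonZeroDivisors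
  have hFr : IsFractionRing (Localization.AtPrime 𝔫) L :=
    IsFractionRing.isFractionRing_of_isDomain_of_isLocalization 𝔫.primeCompl _ _
  have hnoeth : IsNoetherianRing C := IsNoetherianRing.of_finite R C
  have hmax := maximalIdeal_localization t hD hunr 𝔫 ht
  have hnf : ¬ IsField (Localization.AtPrime 𝔫) := by
    have h0 : 𝔫 ≠ ⊥ := fun h0 => hne (by
      have h1 : t ∈ 𝔫 := ht
      rwa [h0, Ideal.mem_bot] at h1)
    exact IsLocalization.AtPrime.not_isField C h0 (Localization.AtPrime 𝔫)
  have hDVR : IsDiscreteValuationRing (Localization.AtPrime 𝔫) := by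
    refine ((IsDiscreteValuationRing.TFAE (Localization.AtPrime 𝔫) hnf).out 4 0).mp ?_
    exact ⟨_, hmax⟩
  have hlf : IsLocalHom f := by
    refine ⟨fun x hx => ?_⟩
    obtain ⟨c, s, rfl⟩ := IsLocalization.exists_mk'_eq 𝔫.primeCompl x
    rw [IsLocalization.AtPrime.isUnit_mk'_iff _ 𝔫]
    intro hc
    rw [IsLocalization.lift_mk'] at hx
    have h1 := isUnit_of_mul_isUnit_left hx
    exact (mem_maximalIdeal _).mp hc h1
  have hbij := bijective_rangeRestrict_comp_of_valuationRing f V.subtype rfl
  have hVinj : Function.Injective V.subtype := Subtype.val_injective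
  refine ⟨fun x y h => hbij.1 (by simp [h]), fun v => ?_⟩
  obtain ⟨x, hx⟩ := hbij.2 (V.subtype.rangeRestrict v)
  exact ⟨x, hVinj (congrArg (fun z : V.subtype.range => (z : L)) hx)⟩

omit hloc in
include hD hunr hj hne ht hfrac in
theorem maximalIdeal_eq : maximalIdeal V = Ideal.span {j t} := by
  obtain ⟨f, hf, hfj⟩ := exists_factor t hD hunr V j hj hne ht hfrac
  have h𝔫p : ((maximalIdeal V).comap j).IsPrime := Ideal.comap_isPrime _ _
  have hmax := maximalIdeal_localization t hD hunr ((maximalIdeal V).comap j) ht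
  apply le_antisymm
  · intro v hv
    obtain ⟨x, rfl⟩ := hf.2 v
    have hx : x ∈ maximalIdeal (Localization.AtPrime ((maximalIdeal V).comap j)) := by
      rw [mem_maximalIdeal, mem_nonunits_iff] at hv ⊢
      exact fun h => hv (h.map f)
    rw [hmax, Ideal.mem_span_singleton'] at hx
    obtain ⟨y, rfl⟩ := hx
    rw [map_mul, hfj]
    exact Ideal.mul_mem_left _ _ (Ideal.mem_span_singleton_self _)
  · rw [Ideal.span_le, Set.singleton_subset_iff]
    exact ht

include hD hunr hj hne ht hfrac in
theorem residue_comp_surjective : Function.Surjective (fun c : C => residue V (j c)) := by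
  obtain ⟨f, hf, hfj⟩ := exists_factor t hD hunr V j hj hne ht hfrac
  have h𝔫p : ((maximalIdeal V).comap j).IsPrime := Ideal.comap_isPrime _ _
  have h𝔫R : ((maximalIdeal V).comap j).comap (algebraMap R C) = maximalIdeal R := by
    ext x
    rw [Ideal.mem_comap, Ideal.mem_comap, AlgHom.commutes, mem_maximalIdeal, mem_maximalIdeal,
      mem_nonunits_iff, mem_nonunits_iff, isUnit_map_iff]
  have h𝔫m : ((maximalIdeal V).comap j).IsMaximal :=
    Ideal.isMaximal_of_isIntegral_of_isMaximal_comap _ (h𝔫R ▸ maximalIdeal.isMaximal R)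
  intro y
  obtain ⟨v, rfl⟩ := residue_surjective y
  obtain ⟨x, rfl⟩ := hf.2 v
  obtain ⟨c, s, rfl⟩ := IsLocalization.exists_mk'_eq ((maximalIdeal V).comap j).primeCompl x
  obtain ⟨y, i, hi, hy⟩ := h𝔫m.exists_inv s.2
  refine ⟨c * y, ?_⟩
  have h1 : f (IsLocalization.mk' _ c s) * j s = j c := by
    rw [← hfj, ← map_mul, IsLocalization.mk'_spec, hfj]
  have h2 : residue V (j y) * residue V (j s) = 1 := by
    rw [← map_mul, ← map_mul, ← map_one (residue V), ← map_one j, ← hy, map_add, map_add]
    have : residue V (j i) = 0 := (residue_eq_zero_iff _).mpr hi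
    rw [this, add_zero]
  have h3 : residue V (f (IsLocalization.mk' _ c s)) * residue V (j s) = residue V (j c) := by
    rw [← map_mul, h1]
  simp only [map_mul]
  rw [← h3, mul_assoc, mul_comm (residue V (j s)), h2, mul_one]

include hD hunr hj hne ht hfrac in
theorem isSeparable : Algebra.IsSeparable (ResidueField R) (ResidueField V) := by
  have hs := residue_comp_surjective t hD hunr V j hj hne ht hfrac
  let φ : C →ₐ[R] ResidueField V := (IsScalarTower.toAlgHom R V (ResidueField V)).comp j
  have hφ : Function.Surjective φ := hs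
  have hφt : φ t = 0 := (residue_eq_zero_iff _).mpr ht
  let ψ : (C ⧸ Ideal.span {t}) →ₐ[R] ResidueField V := Ideal.Quotient.liftₐ _ φ (by
    intro a ha
    obtain ⟨b, rfl⟩ := Ideal.mem_span_singleton'.mp ha
    rw [map_mul, hφt, mul_zero])
  have hψ : Function.Surjective ψ := by
    intro y
    obtain ⟨c, rfl⟩ := hφ y
    exact ⟨Ideal.Quotient.mk _ c, rfl⟩
  have h1 : Algebra.FormallyUnramified R (ResidueField V) := Algebra.FormallyUnramified.of_surjective ψ hψ
  have h2 : Module.Finite R (ResidueField V) := Module.Finite.of_surjective φ.toLinearMap hφ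
  have h3 : Algebra.FormallyUnramified (ResidueField R) (ResidueField V) :=
    Algebra.FormallyUnramified.of_restrictScalars R (ResidueField R) (ResidueField V)
  have h4 : Module.Finite (ResidueField R) (ResidueField V) :=
    Module.Finite.of_restrictScalars_finite R _ _
  exact Algebra.FormallyUnramified.isSeparable _ _

end Abstract

section Gen

variable {R C : Type u} [CommRing R] [CommRing C] [Algebra R C]
  {ι : Type} [Finite ι] (τ : ι → C) (hgen : Algebra.adjoin R (Set.range τ) = ⊤)
  (m : ι → ℕ) (hm : ∀ j, 1 ≤ m j) (a : ι → R)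
  (hτ : ∀ j, τ j ^ m j = algebraMap R C (a j))

include hgen hm hτ in
lemma finite_of_gen : Module.Finite R C := by
  have h : (Algebra.adjoin R (Set.range τ)).toSubmodule.FG :=
    fg_adjoin_of_finite (Set.finite_range _) (by
      rintro _ ⟨j, rfl⟩
      refine IsIntegral.of_pow (hm j) ?_
      rw [hτ]
      exact isIntegral_algebraMap)
  rw [hgen] at h
  exact ⟨by simpa using h⟩

variable (i : ι) (hu : ∀ j, j ≠ i → IsUnit (a j)) (hmu : ∀ j, j ≠ i → IsUnit ((m j : ℕ) : R))

omit [Finite ι] in
include hgen hm hτ hu hmu in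
lemma unram_of_gen : Algebra.FormallyUnramified R (C ⧸ Ideal.span {τ i}) := by
  let π : C →ₐ[R] (C ⧸ Ideal.span {τ i}) := Ideal.Quotient.mkₐ R _
  have hπ : Function.Surjective π := Ideal.Quotient.mk_surjective
  refine formallyUnramified_of_adjoin (Set.range fun j => π (τ j)) ?_ ?_
  · have : (Set.range fun j => π (τ j)) = π '' (Set.range τ) := by
      rw [← Set.range_comp]; rfl
    rw [this, ← AlgHom.map_adjoin, hgen, Algebra.map_top, AlgHom.range_eq_top]
    exact hπ
  · rintro _ ⟨j, rfl⟩
    by_cases hj : j = i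
    · subst hj
      have : π (τ j) = 0 := Ideal.Quotient.eq_zero_iff_mem.mpr (Ideal.mem_span_singleton_self _)
      dsimp only
      rw [this, map_zero]
    · have hx : π (τ j) ^ m j = algebraMap R (C ⧸ Ideal.span {τ i}) (a j) := by
        rw [← map_pow, hτ, AlgHom.commutes]
      have hn : IsUnit ((m j : ℕ) : C ⧸ Ideal.span {τ i}) := by
        have := (hmu j hj).map (algebraMap R (C ⧸ Ideal.span {τ i}))
        rwa [map_natCast] at this
      refine differential_eq_zero _ (m j) (a j) hx hn ?_
      have := (hu j hj).map (algebraMap R (C ⧸ Ideal.span {τ i}))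
      rw [← hx] at this
      exact (isUnit_pow_iff (by have := hm j; omega)).mp this

omit [Finite ι] in
include hm hτ in
lemma map_maximalIdeal_eq_bot [IsLocalRing R] (hi : maximalIdeal R = Ideal.span {a i}) :
    (maximalIdeal R).map (algebraMap R (C ⧸ Ideal.span {τ i})) = ⊥ := by
  rw [hi, Ideal.map_span, Set.image_singleton, Ideal.span_singleton_eq_bot]
  have h2 : algebraMap R (C ⧸ Ideal.span {τ i}) (a i) =
    Ideal.Quotient.mk _ (algebraMap R C (a i)) := rfl
  rw [h2, ← hτ, map_pow]
  have h3 : Ideal.Quotient.mk (Ideal.span {τ i}) (τ i) = 0 :=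
    Ideal.Quotient.eq_zero_iff_mem.mpr (Ideal.mem_span_singleton_self _)
  rw [h3, zero_pow (by have := hm i; omega)]

end Gen

section Concrete

variable {R L : Type u} [CommRing R] [IsLocalRing R] [IsNoetherianRing R] [Field L]
  (V : ValuationSubring L) [Algebra R V] [hloc : IsLocalHom (algebraMap R V)]
  {ι : Type} [Finite ι] (τ : ι → V) (m : ι → ℕ) (hm : ∀ j, 1 ≤ m j) (a : ι → R)
  (hτ : ∀ j, τ j ^ m j = algebraMap R V (a j))
  (i : ι) (hi : maximalIdeal R = Ideal.span {a i})
  (hu : ∀ j, j ≠ i → IsUnit (a j)) (hmu : ∀ j, j ≠ i → IsUnit ((m j : ℕ) : R))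
  (hne : τ i ≠ 0)
  (hfrac : ∀ x : L, ∃ c s : V, c ∈ Algebra.adjoin R (Set.range τ) ∧
    s ∈ Algebra.adjoin R (Set.range τ) ∧ s ≠ 0 ∧ x * s = c)

/-- The element `τ i` of the subalgebra generated by the `τ j`. -/
def tauC (j : ι) : Algebra.adjoin R (Set.range τ) := ⟨τ j, Algebra.subset_adjoin ⟨j, rfl⟩⟩

omit [IsLocalRing R] [IsNoetherianRing R] hloc [Finite ι] in
lemma adjoin_tauC : Algebra.adjoin R (Set.range (tauC (R := R) V τ)) = ⊤ := by
  have h := Algebra.adjoin_adjoin_coe_preimage (R := R) (s := Set.range τ)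
  rw [← h]
  congr 1
  ext ⟨x, hx⟩
  simp only [Set.mem_range, Set.mem_preimage, tauC, Subtype.mk.injEq]

include hm hτ hi hu hmu hne hfrac in
/-- The valuation ring of a Kummer extension: the maximal ideal is generated by the root `τ i` of
the uniformizer and the residue extension is separable. -/
theorem main : Algebra.IsSeparable (ResidueField R) (ResidueField V) ∧
    maximalIdeal V = Ideal.span {τ i} := by
  have hgen := adjoin_tauC (R := R) V τ
  have hτ' : ∀ j, tauC (R := R) V τ j ^ m j = algebraMap R _ (a j) := fun j => Subtype.ext (hτ j)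
  have hfin := finite_of_gen (tauC (R := R) V τ) hgen m hm a hτ'
  have hunr := unram_of_gen (tauC (R := R) V τ) hgen m hm a hτ' i hu hmu
  have hD := map_maximalIdeal_eq_bot (tauC (R := R) V τ) m hm a hτ' i hi
  have hinj : Function.Injective (Algebra.adjoin R (Set.range τ)).val := Subtype.val_injective
  have hne' : tauC (R := R) V τ i ≠ 0 := fun h => hne (congrArg Subtype.val h)
  have ht : (Algebra.adjoin R (Set.range τ)).val (tauC (R := R) V τ i) ∈ maximalIdeal V := by
    change τ i ∈ maximalIdeal V
    refine (maximalIdeal.isMaximal V).isPrime.mem_of_pow_mem (m i) ?_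
    rw [hτ, mem_maximalIdeal, mem_nonunits_iff, isUnit_map_iff, ← mem_nonunits_iff,
      ← mem_maximalIdeal, hi]
    exact Ideal.mem_span_singleton_self _
  have hfrac' : ∀ x : L, ∃ c s : Algebra.adjoin R (Set.range τ), s ≠ 0 ∧
      x * ((Algebra.adjoin R (Set.range τ)).val s : V) =
        ((Algebra.adjoin R (Set.range τ)).val c : V) := by
    intro x
    obtain ⟨c, s, hc, hs, hs0, h⟩ := hfrac x
    exact ⟨⟨c, hc⟩, ⟨s, hs⟩, fun h0 => hs0 (congrArg Subtype.val h0), h⟩
  exact ⟨isSeparable _ hD hunr V _ hinj hne' ht hfrac',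
    maximalIdeal_eq _ hD hunr V _ hinj hne' ht hfrac'⟩

end Concrete

end Groth.Agent.Sga1.KummerDVR
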