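import Groth.Agent.Sga1.Kummer
import Groth.Agent.Sga1.KummerDVR

/-!
# Kummer algebras are tamely ramified
-/

set_option autoImplicit false
universe u v

namespace Groth.Agent.Sga1.KummerTame

open IsLocalRing Groth.Agent.Sga1.Kummer

lemma mem_of_pow_mem {L : Type u} [Field L] (V : ValuationSubring L) {x : L} {n : ℕ} (hn : 1 ≤ n)
    (h : x ^ n ∈ V) : x ∈ V := by
  rcases V.mem_or_inv_mem x with hx | hx
  · exact hx
  · by_cases h0 : x = 0
    · rw [h0]; exact V.zero_mem
    · have : x = x ^ n * x⁻¹ ^ (n - 1) := by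
        obtain ⟨k, rfl⟩ := Nat.exists_eq_add_of_le' hn
        rw [Nat.add_sub_cancel, pow_succ, mul_comm (x ^ k) x, mul_assoc, ← mul_pow,
          mul_inv_cancel₀ h0, one_pow, mul_one]
      rw [this]
      exact V.mul_mem _ _ h (pow_mem hx _)

section

variable {A : Type u} [CommRing A] [IsLocalRing A] {r : ℕ} (f : Fin r → A)
    (hm : ∀ i, f i ∈ maximalIdeal A)
    (hf : LinearIndependent (ResidueField A) (fun i => (maximalIdeal A).toCotangent ⟨f i, hm i⟩))

include hf in
lemma ne_zero (i : Fin r) : f i ≠ 0 := by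
  intro h
  apply hf.ne_zero i
  have : (⟨f i, hm i⟩ : maximalIdeal A) = 0 := Subtype.ext h
  rw [this, map_zero]

include hf in
lemma notMem_span {i j : Fin r} (hij : j ≠ i) : f j ∉ Ideal.span {f i} := by
  intro h
  obtain ⟨a, ha⟩ := Ideal.mem_span_singleton'.mp h
  have h1 : (maximalIdeal A).toCotangent ⟨f j, hm j⟩ =
      (residue A a) • (maximalIdeal A).toCotangent ⟨f i, hm i⟩ := by
    have h2 : (⟨f j, hm j⟩ : maximalIdeal A) = a • ⟨f i, hm i⟩ := Subtype.ext ha.symm
    rw [h2, map_smul]
    rfl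
  have h2 := (linearIndependent_iff'.mp hf) {i, j} (fun k => if k = j then 1 else - residue A a) (by
    rw [Finset.sum_pair (Ne.symm hij)]
    simp only [if_true, if_neg (Ne.symm hij)]
    rw [h1]; simp) j (by simp)
  simp at h2

end

/-- The ramification index of a valuation ring with maximal ideal generated by an `n`-th root of
the uniformizer. -/
lemma ramificationIdx'_eq {R V : Type u} [CommRing R] [CommRing V] [IsDomain V] [IsLocalRing R]
    [IsLocalRing V] [Algebra R V] (a : R) (t : V) (n : ℕ) (hi : maximalIdeal R = Ideal.span {a})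
    (ht : maximalIdeal V = Ideal.span {t}) (h0 : t ≠ 0) (h : t ^ n = algebraMap R V a) :
    Ideal.ramificationIdx' (maximalIdeal R) (maximalIdeal V) = n := by
  apply Ideal.ramificationIdx'_spec
  · rw [hi, ht, Ideal.map_span, Set.image_singleton, Ideal.span_singleton_pow, h]
  · rw [hi, ht, Ideal.map_span, Set.image_singleton, Ideal.span_singleton_pow, ← h,
      Ideal.span_singleton_le_span_singleton]
    rintro ⟨c, hc⟩
    have h1 : t ^ n * (1 - t * c) = 0 := by
      rw [mul_sub, mul_one, sub_eq_zero]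
      rw [pow_succ, mul_assoc] at hc
      exact hc
    rcases mul_eq_zero.mp h1 with h2 | h2
    · exact h0 (eq_zero_of_pow_eq_zero h2)
    · have h3 : IsUnit t := IsUnit.of_mul_eq_one c (sub_eq_zero.mp h2).symm
      have h4 : t ∈ maximalIdeal V := by rw [ht]; exact Ideal.mem_span_singleton_self _
      exact (mem_maximalIdeal _).mp h4 h3

section Main

variable {A : Type u} [CommRing A] [IsLocalRing A] [IsNoetherianRing A] {r : ℕ}
  (f : Fin r → A) (n : Fin r → ℕ)
  (hm : ∀ i, f i ∈ maximalIdeal A)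
  (hf : LinearIndependent (ResidueField A) (fun i => (maximalIdeal A).toCotangent ⟨f i, hm i⟩))
  [hP : ∀ i, (Ideal.span {f i}).IsPrime] (hn : ∀ i, 1 ≤ n i)
  (hu : ∀ i, IsUnit ((n i : ℕ) : ResidueField A))

include hm hf hn hu in
theorem main (i : Fin r) (q : Ideal (SGA1.kummerAlg A f n)) [q.IsPrime]
    (hq : Ideal.comap (algebraMap A (SGA1.kummerAlg A f n)) q = ⊥) (V : ValuationSubring q.ResidueField)
    [Algebra (Localization.AtPrime (Ideal.span {f i})) V]
    (hAlg : ∀ x, ((algebraMap (Localization.AtPrime (Ideal.span {f i})) V x : V) : q.ResidueField) =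
      SGA1.genericResidueMap (algebraMap A (SGA1.kummerAlg A f n)) (Ideal.span {f i}) q hq x)
    [IsLocalHom (algebraMap (Localization.AtPrime (Ideal.span {f i})) V)] :
    Algebra.IsSeparable (ResidueField (Localization.AtPrime (Ideal.span {f i}))) (ResidueField V) ∧
    ∃ τ : V, (τ : q.ResidueField) = algebraMap _ q.ResidueField (T f n i) ∧
      maximalIdeal V = Ideal.span {τ} := by
  set R := Localization.AtPrime (Ideal.span {f i}) with hR
  have hg : ∀ a : A, SGA1.genericResidueMap (algebraMap A (SGA1.kummerAlg A f n))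
      (Ideal.span {f i}) q hq (algebraMap A R a) =
      algebraMap _ q.ResidueField (algebraMap A (SGA1.kummerAlg A f n) a) := fun a =>
    IsLocalization.lift_eq _ _
  have hmem : ∀ a : A, algebraMap _ q.ResidueField (algebraMap A (SGA1.kummerAlg A f n) a) ∈ V :=
    fun a => by rw [← hg, ← hAlg]; exact (algebraMap R V _).2
  have htV : ∀ j, algebraMap _ q.ResidueField (T f n j) ∈ V := fun j =>
    mem_of_pow_mem V (hn j) (by rw [← map_pow, T_pow]; exact hmem _)
  let τ : Fin r → V := fun j => ⟨algebraMap _ q.ResidueField (T f n j), htV j⟩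
  have hτ : ∀ j, τ j ^ n j = algebraMap R V (algebraMap A R (f j)) := fun j => by
    apply Subtype.ext
    rw [hAlg, hg, ← T_pow, map_pow]
    rfl
  have hi : maximalIdeal R = Ideal.span {algebraMap A R (f i)} := by
    have := Localization.AtPrime.map_eq_maximalIdeal (I := Ideal.span {f i})
    rw [Ideal.map_span, Set.image_singleton] at this
    exact this.symm
  have hu1 : ∀ j, j ≠ i → IsUnit (algebraMap A R (f j)) := fun j hj =>
    IsLocalization.map_units R (⟨f j, notMem_span f hm hf hj⟩ : (Ideal.span {f i}).primeCompl)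
  have hmu : ∀ j, IsUnit ((n j : ℕ) : R) := fun j => by
    have h1 := hu j
    rw [← map_natCast (residue A)] at h1
    have h2 := ((isUnit_map_iff (residue A) _).mp h1).map (algebraMap A R)
    rwa [map_natCast] at h2
  have hne : τ i ≠ 0 := by
    intro h0
    have h1 : algebraMap R V (algebraMap A R (f i)) = 0 := by
      rw [← hτ, h0, zero_pow (by have := hn i; omega)]
    have h2 := congrArg (Subtype.val) h1
    rw [hAlg, hg] at h2
    have h3 : algebraMap A (SGA1.kummerAlg A f n) (f i) ∈ q := by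
      rw [← Ideal.ker_algebraMap_residueField q, RingHom.mem_ker]; exact h2
    have h4 : f i ∈ Ideal.comap (algebraMap A (SGA1.kummerAlg A f n)) q := h3
    rw [hq, Ideal.mem_bot] at h4
    exact ne_zero f hm hf i h4
  have hadj : ∀ b : SGA1.kummerAlg A f n, ∃ c : V, c ∈ Algebra.adjoin R (Set.range τ) ∧
      (c : q.ResidueField) = algebraMap _ q.ResidueField b := by
    intro b
    have hb : b ∈ Algebra.adjoin A (Set.range (T f n)) := by rw [adjoin_T]; trivial
    induction hb using Algebra.adjoin_induction with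
    | mem x hx =>
      obtain ⟨j, rfl⟩ := hx
      exact ⟨τ j, Algebra.subset_adjoin ⟨j, rfl⟩, rfl⟩
    | algebraMap a =>
      exact ⟨algebraMap R V (algebraMap A R a), Subalgebra.algebraMap_mem _ _, by rw [hAlg, hg]⟩
    | add x y _ _ hx hy =>
      obtain ⟨c, hc, hc'⟩ := hx
      obtain ⟨d, hd, hd'⟩ := hy
      exact ⟨c + d, add_mem hc hd, by rw [map_add, ← hc', ← hd']; rfl⟩
    | mul x y _ _ hx hy =>
      obtain ⟨c, hc, hc'⟩ := hx
      obtain ⟨d, hd, hd'⟩ := hy
      exact ⟨c * d, mul_mem hc hd, by rw [map_mul, ← hc', ← hd']; rfl⟩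
  have hfrac : ∀ x : q.ResidueField, ∃ c s : V, c ∈ Algebra.adjoin R (Set.range τ) ∧
      s ∈ Algebra.adjoin R (Set.range τ) ∧ s ≠ 0 ∧ x * s = c := by
    intro x
    obtain ⟨b, s, hs, hx⟩ := IsFractionRing.div_surjective (A := SGA1.kummerAlg A f n ⧸ q) x
    obtain ⟨b, rfl⟩ := Ideal.Quotient.mk_surjective b
    obtain ⟨s, rfl⟩ := Ideal.Quotient.mk_surjective s
    have hb' : ∀ b, algebraMap (SGA1.kummerAlg A f n ⧸ q) q.ResidueField (Ideal.Quotient.mk q b) =
      algebraMap _ q.ResidueField b := fun b =>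
      (IsScalarTower.algebraMap_apply (SGA1.kummerAlg A f n) (SGA1.kummerAlg A f n ⧸ q)
        q.ResidueField b).symm
    rw [hb', hb'] at hx
    obtain ⟨c, hc, hc'⟩ := hadj b
    obtain ⟨d, hd, hd'⟩ := hadj s
    have hs0 : algebraMap _ q.ResidueField s ≠ 0 := by
      rw [← hb']
      exact IsFractionRing.to_map_ne_zero_of_mem_nonZeroDivisors hs
    refine ⟨c, d, hc, hd, ?_, ?_⟩
    · rintro rfl
      exact hs0 hd'.symm
    · rw [hc', hd', ← hx, div_mul_cancel₀ _ hs0]
  obtain ⟨h1, h2⟩ := KummerDVR.main V τ n hn (fun j => algebraMap A R (f j)) hτ i hi hu1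
    (fun j _ => hmu j) hne hfrac
  exact ⟨h1, τ i, rfl, h2⟩

end Main

end Groth.Agent.Sga1.KummerTame
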