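import Mathlib.RingTheory.Localization.BaseChange
import Mathlib.RingTheory.Etale.Basic
import Mathlib.RingTheory.Localization.Away.Basic

/-!
# Base change of an algebra over a localization
-/

set_option autoImplicit false

universe u

open TensorProduct

namespace Groth.Agent.Sga1.AbhBase

variable (A : Type u) [CommRing A] (S : Submonoid A) (A' : Type u) [CommRing A'] [Algebra A A']
  [IsLocalization S A']
  (B : Type u) [CommRing B] [Algebra A B] [Algebra A' B] [IsScalarTower A A' B]
  (L : Type u) [CommRing L] [Algebra A L] [Algebra A' L] [IsScalarTower A A' L]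

include S in
/-- `L ⊗[A'] B ≃ L ⊗[A] B` if `A'` is a localization of `A`. -/
noncomputable def baseEquiv : L ⊗[A'] B ≃ₐ[L] L ⊗[A] B :=
  have := IsLocalization.tensorProduct_compatibleSMul S A' L B
  Algebra.TensorProduct.equivOfCompatibleSMul A A' L L B

include S in
theorem etale [Algebra.Etale A' B] : Algebra.Etale L (L ⊗[A] B) :=
  Algebra.Etale.of_equiv (baseEquiv A S A' B L)

include S in
theorem finite [Module.Finite A' B] : Module.Finite L (L ⊗[A] B) :=
  Module.Finite.equiv (baseEquiv A S A' B L).toLinearEquiv

end Groth.Agent.Sga1.AbhBase
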