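import Groth.Prelude.Def_SGA1
import Mathlib.RingTheory.RegularLocalRing.Defs
import Mathlib.RingTheory.Localization.Away.Basic

/-!
# Abhyankar's lemma (S2922): shared definitions

`ForallRam f φ i P`: every ramification index over the discrete valuation ring `A_(f_i)` of every
residue field of `B` over the generic point of `Spec A` satisfies `P`.
-/

set_option autoImplicit false

universe u

open IsLocalRing

namespace Groth.Agent.Sga1.AbhDefs

variable {A : Type u} [CommRing A] {B : Type u} [CommRing B]

/-- every ramification index over `A_(f_i)` of the residue fields of `B` over the generic point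
satisfies `P` (the valuation subrings are those occurring in `SGA1.IsTameAlong`). -/
def ForallRam {r : ℕ} (f : Fin r → A) [∀ i, (Ideal.span {f i}).IsPrime] (φ : A →+* B) (i : Fin r)
    (P : ℕ → Prop) : Prop :=
  ∀ (q : Ideal B) [q.IsPrime] (hq : Ideal.comap φ q = ⊥) (W : ValuationSubring q.ResidueField)
    (h : EtRam.Dominates (Localization.AtPrime (Ideal.span {f i}))
      (SGA1.genericResidueMap φ (Ideal.span {f i}) q hq) W),
    letI : Algebra (Localization.AtPrime (Ideal.span {f i})) W :=
      (RingHom.codRestrict _ W h.1).toAlgebra
    P (Ideal.ramificationIdx' (maximalIdeal (Localization.AtPrime (Ideal.span {f i})))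
      (maximalIdeal W))

end Groth.Agent.Sga1.AbhDefs
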