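import Groth.Agent.Sga1.KummerReg
import Groth.Agent.Sga1.KummerFinite
import Groth.Agent.CalgA.RegBasic
import Mathlib.RingTheory.DiscreteValuationRing.TFAE

/-!
# Kummer algebras of degree one over a DVR; localizations at principal primes
-/

set_option autoImplicit false

universe u

open IsLocalRing SGA1 Groth.Agent.Sga1.Kummer

namespace Groth.Agent.Sga1.AbhKumDvr

/-- the localization of a Noetherian domain at a nonzero principal prime is a DVR -/
theorem isDiscreteValuationRing_localization (A : Type u) [CommRing A] [IsDomain A] [IsNoetherianRing A]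
    (a : A) (ha : a ≠ 0) [h : (Ideal.span {a}).IsPrime] :
    IsDiscreteValuationRing (Localization.AtPrime (Ideal.span {a})) ∧
      maximalIdeal (Localization.AtPrime (Ideal.span {a})) =
        Ideal.span {algebraMap A (Localization.AtPrime (Ideal.span {a})) a} := by
  let R := Localization.AtPrime (Ideal.span {a})
  have hmax : maximalIdeal R = Ideal.span {algebraMap A R a} := by
    rw [← Localization.AtPrime.map_eq_maximalIdeal, Ideal.map_span, Set.image_singleton]
  have hinj : Function.Injective (algebraMap A R) :=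
    IsLocalization.injective R (Ideal.primeCompl_le_nonZeroDivisors (Ideal.span {a}))
  have hnf : ¬ IsField R := by
    rw [IsLocalRing.isField_iff_maximalIdeal_eq, hmax, Ideal.span_singleton_eq_bot]
    exact (map_ne_zero_iff _ hinj).mpr ha
  refine ⟨?_, hmax⟩
  have : IsNoetherianRing R := IsLocalization.isNoetherianRing (Ideal.span {a}).primeCompl R inferInstance
  refine ((IsDiscreteValuationRing.TFAE R hnf).out 4 0).mp ?_
  rw [hmax]
  exact ⟨⟨_, rfl⟩⟩

section

variable (R : Type u) [CommRing R] [IsDomain R] [IsDiscreteValuationRing R] {ϖ : R}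
  (hϖ : Irreducible ϖ) (n : ℕ) (hn : 1 ≤ n)

/-- `R[T]/(T^n - ϖ)` -/
abbrev Kum (R : Type u) [CommRing R] (ϖ : R) (n : ℕ) : Type u :=
  kummerAlg R (fun _ : Fin 1 => ϖ) (fun _ => n)

/-- the root -/
noncomputable def root (R : Type u) [CommRing R] (ϖ : R) (n : ℕ) : Kum R ϖ n :=
  T (fun _ : Fin 1 => ϖ) (fun _ => n) 0

include hϖ hn in
theorem isDomain : IsDomain (Kum R ϖ n) := by
  have hm : ∀ i : Fin 1, (fun _ : Fin 1 => ϖ) i ∈ maximalIdeal R := fun _ =>
    (mem_maximalIdeal _).mpr hϖ.not_isUnit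
  have hreg : IsRegularLocalRing (Kum R ϖ n) := by
    refine KummerReg.isRegularLocalRing (fun _ : Fin 1 => ϖ) (fun _ => n) hm ?_ (fun _ => hn)
    rw [linearIndependent_unique_iff]
    intro h0
    have h2 := (Ideal.toCotangent_eq_zero (maximalIdeal R) ⟨ϖ, hm 0⟩).mp h0
    have h3 : ϖ ∈ maximalIdeal R ^ 2 := h2
    rw [hϖ.maximalIdeal_eq, Ideal.span_singleton_pow, Ideal.mem_span_singleton, sq] at h3
    obtain ⟨c, hc⟩ := h3
    have h4 : ϖ * (ϖ * c) = ϖ * 1 := by rw [mul_one, ← mul_assoc]; exact hc.symm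
    have h5 := mul_left_cancel₀ hϖ.ne_zero h4
    exact hϖ.not_isUnit (IsUnit.of_mul_eq_one _ h5)
  exact Groth.Agent.CalgA.RegBasic.isDomain _

omit [IsDomain R] [IsDiscreteValuationRing R] in
theorem root_pow : root R ϖ n ^ n = algebraMap R (Kum R ϖ n) ϖ :=
  T_pow (fun _ : Fin 1 => ϖ) (fun _ => n) 0

omit [IsDomain R] [IsDiscreteValuationRing R] in
theorem adjoin_root : Algebra.adjoin R {root R ϖ n} = ⊤ := by
  rw [← adjoin_T (fun _ : Fin 1 => ϖ) (fun _ => n)]
  congr 1
  ext x
  simp only [Set.mem_singleton_iff, Set.mem_range]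
  constructor
  · rintro rfl
    exact ⟨0, rfl⟩
  · rintro ⟨i, rfl⟩
    rw [Subsingleton.elim i 0]
    rfl

include hn in
theorem injective_algebraMap : Function.Injective (algebraMap R (Kum R ϖ n)) := by
  obtain ⟨φ, hφ⟩ := KummerFinite.exists_geometric_point R (fun _ : Fin 1 => ϖ) (fun _ => n) (fun _ => hn)
  have h1 : Function.Injective (algebraMap R (AlgebraicClosure (FractionRing R))) := by
    rw [IsScalarTower.algebraMap_eq R (FractionRing R) (AlgebraicClosure (FractionRing R))]
    exact (algebraMap (FractionRing R) _).injective.comp (IsFractionRing.injective R _)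
  rw [← hφ, RingHom.coe_comp] at h1
  exact Function.Injective.of_comp h1

include hϖ hn in
theorem isDiscreteValuationRing [IsDomain (Kum R ϖ n)] :
    ∃ _ : IsDiscreteValuationRing (Kum R ϖ n), maximalIdeal (Kum R ϖ n) = Ideal.span {root R ϖ n} := by
  have hm : ∀ i : Fin 1, (fun _ : Fin 1 => ϖ) i ∈ maximalIdeal R := fun _ =>
    (mem_maximalIdeal _).mpr hϖ.not_isUnit
  have hloc : IsLocalRing (Kum R ϖ n) := KummerReg.isLocalRing _ _ hm (fun _ => hn)
  have hfin : Module.Finite R (Kum R ϖ n) := finite _ _ (fun _ => hn)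
  have hnoeth : IsNoetherianRing (Kum R ϖ n) := IsNoetherianRing.of_finite R _
  have hmax : maximalIdeal (Kum R ϖ n) = Ideal.span {root R ϖ n} := by
    have h1 := KummerReg.eq_of_isMaximal (fun _ : Fin 1 => ϖ) (fun _ => n) hm (fun _ => hn)
      (maximalIdeal (Kum R ϖ n))
    have hrange : Set.range (T (fun _ : Fin 1 => ϖ) (fun _ => n)) = {root R ϖ n} := by
      ext x
      simp only [Set.mem_singleton_iff, Set.mem_range]
      constructor
      · rintro ⟨i, rfl⟩
        rw [Subsingleton.elim i 0]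
        rfl
      · rintro rfl
        exact ⟨0, rfl⟩
    rw [hrange, hϖ.maximalIdeal_eq, Ideal.map_span, Set.image_singleton, ← root_pow] at h1
    rw [h1, sup_eq_right, Ideal.span_singleton_le_iff_mem]
    exact Ideal.pow_mem_of_mem _ (Ideal.mem_span_singleton_self _) n hn
  have hnf : ¬ IsField (Kum R ϖ n) := by
    rw [IsLocalRing.isField_iff_maximalIdeal_eq, hmax, Ideal.span_singleton_eq_bot]
    intro h0
    have h1 := root_pow (ϖ := ϖ) R n
    rw [h0, zero_pow (by omega)] at h1
    exact hϖ.ne_zero ((map_eq_zero_iff _ (injective_algebraMap R n hn)).mp h1.symm)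
  have hdvr : IsDiscreteValuationRing (Kum R ϖ n) := by
    refine ((IsDiscreteValuationRing.TFAE (Kum R ϖ n) hnf).out 4 0).mp ?_
    rw [hmax]
    exact ⟨⟨_, rfl⟩⟩
  exact ⟨hdvr, hmax⟩

end

end Groth.Agent.Sga1.AbhKumDvr
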