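import Groth.Agent.Sga1.AbhVal
import Mathlib.RingTheory.RamificationInertia.Ramification
import Mathlib.NumberTheory.RamificationInertia.Basic

/-!
# Valuation subrings dominating a discrete valuation ring: DVR, essentially of finite type, bound
-/

set_option autoImplicit false

universe u

open IsLocalRing IsDedekindDomain

namespace Groth.Agent.Sga1.AbhVal2

open Groth.Agent.Sga1.AbhVal

section

variable {R V : Type u} [CommRing R] [IsDomain R] [IsDiscreteValuationRing R]
  [CommRing V] [IsDomain V] [IsDiscreteValuationRing V] [Algebra R V]

/-- factorization of a uniformizer with the ramification index -/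
theorem exists_unit_mul_pow (hinj : Function.Injective (algebraMap R V)) [IsLocalHom (algebraMap R V)]
    {ϖ : R} (hϖ : Irreducible ϖ) {π : V} (hπ : Irreducible π) :
    (∃ u : Vˣ, algebraMap R V ϖ = u * π ^ (Ideal.ramificationIdx' (maximalIdeal R) (maximalIdeal V))) ∧
      1 ≤ Ideal.ramificationIdx' (maximalIdeal R) (maximalIdeal V) := by
  have h0 : algebraMap R V ϖ ≠ 0 := (map_ne_zero_iff _ hinj).mpr hϖ.ne_zero
  obtain ⟨n, u, hu⟩ := IsDiscreteValuationRing.eq_unit_mul_pow_irreducible h0 hπ
  have hmap : (maximalIdeal R).map (algebraMap R V) = maximalIdeal V ^ n := by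
    rw [hϖ.maximalIdeal_eq, Ideal.map_span, Set.image_singleton, hu, hπ.maximalIdeal_eq,
      Ideal.span_singleton_pow, mul_comm, Ideal.span_singleton_mul_right_unit u.isUnit]
  have hidx : Ideal.ramificationIdx' (maximalIdeal R) (maximalIdeal V) = n := by
    refine Ideal.ramificationIdx'_spec hmap.le fun h => ?_
    rw [hmap] at h
    have h1 : π ^ n ∈ maximalIdeal V ^ (n + 1) := h (Ideal.pow_mem_pow
      ((mem_maximalIdeal _).mpr hπ.not_isUnit) n)
    rw [hπ.maximalIdeal_eq, Ideal.span_singleton_pow, Ideal.mem_span_singleton, pow_succ] at h1
    obtain ⟨c, hc⟩ := h1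
    have h2 : π ^ n * (π * c) = π ^ n * 1 := by rw [mul_one, ← mul_assoc]; exact hc.symm
    have h3 := mul_left_cancel₀ (pow_ne_zero n hπ.ne_zero) h2
    exact hπ.not_isUnit (IsUnit.of_mul_eq_one _ h3)
  rw [hidx]
  refine ⟨⟨u, hu⟩, ?_⟩
  by_contra hn
  have hn0 : n = 0 := by omega
  subst hn0
  rw [pow_zero, mul_one] at hu
  have : IsUnit ϖ := isUnit_of_map_unit (algebraMap R V) ϖ (hu ▸ u.isUnit)
  exact hϖ.not_isUnit this

end

section DVR

variable (R : Type u) [CommRing R] [IsDomain R] [IsDiscreteValuationRing R]
  (K : Type u) [Field K] [Algebra R K] [IsFractionRing R K]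
  (L : Type u) [Field L] [Algebra K L] [FiniteDimensional K L] [Algebra.IsSeparable K L]
  [Algebra R L] [IsScalarTower R K L]

include K

/-- A valuation subring dominating `R` in a finite separable extension is a DVR. -/
theorem isDiscreteValuationRing_of_dominates (V : ValuationSubring L)
    (h : EtRam.Dominates R (algebraMap R L) V) : IsDiscreteValuationRing V := by
  let C := integralClosure R L
  have h1 : IsDedekindDomain C := IsIntegralClosure.isDedekindDomain R K L C
  have h2 : IsFractionRing C L := IsIntegralClosure.isFractionRing_of_finite_extension R K L C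
  obtain ⟨v, hv, -⟩ := exists_of_dominates R K L C V h
  have hpr := v.isPrime
  subst hv
  exact IsLocalization.AtPrime.isDiscreteValuationRing_of_dedekind_domain C v.ne_bot _

/-- A valuation subring dominating `R` in a finite separable extension is essentially of finite
type over `R`. -/
theorem essFiniteType_of_dominates (V : ValuationSubring L)
    (h : EtRam.Dominates R (algebraMap R L) V) :
    letI : Algebra R V := (RingHom.codRestrict (algebraMap R L) V h.1).toAlgebra
    Algebra.EssFiniteType R V := by
  let C := integralClosure R L
  have h1 : IsDedekindDomain C := IsIntegralClosure.isDedekindDomain R K L C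
  have h2 : IsFractionRing C L := IsIntegralClosure.isFractionRing_of_finite_extension R K L C
  have h3 : Module.Finite R C := IsIntegralClosure.finite R K L C
  obtain ⟨v, hv, -⟩ := exists_of_dominates R K L C V h
  have hpr := v.isPrime
  subst hv
  let V := HeightOneSpectrum.valuationSubringAtPrime L v
  let : Algebra R V := (RingHom.codRestrict (algebraMap R L) V h.1).toAlgebra
  have htower : IsScalarTower R C V := by
    refine IsScalarTower.of_algebraMap_eq fun x => Subtype.ext ?_
    exact IsScalarTower.algebraMap_apply R C L x
  have hess : Algebra.EssFiniteType C V :=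
    Algebra.EssFiniteType.of_isLocalization V v.asIdeal.primeCompl
  exact Algebra.EssFiniteType.comp R C V

omit K in
theorem isLocalHom_of_dominates {R : Type u} [CommRing R] [IsLocalRing R] {L : Type u} [Field L]
    (g : R →+* L) (V : ValuationSubring L) (h : EtRam.Dominates R g V) :
    IsLocalHom (RingHom.codRestrict g V h.1) := by
  refine ⟨fun a ha => ?_⟩
  by_contra hna
  have h5 := h.2 a ((mem_maximalIdeal _).mpr hna)
  have h6 : RingHom.codRestrict g V h.1 a ∈ maximalIdeal V :=
    (ValuationSubring.valuation_lt_one_iff V _).mpr h5
  exact (mem_maximalIdeal _).mp h6 ha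

/-- bound for the ramification index -/
theorem ramificationIdx'_le (V : ValuationSubring L)
    (h : EtRam.Dominates R (algebraMap R L) V) :
    letI : Algebra R V := (RingHom.codRestrict (algebraMap R L) V h.1).toAlgebra
    1 ≤ Ideal.ramificationIdx' (maximalIdeal R) (maximalIdeal V) ∧
    Ideal.ramificationIdx' (maximalIdeal R) (maximalIdeal V) ≤ Module.finrank K L := by
  let C := integralClosure R L
  have h1 : IsDedekindDomain C := IsIntegralClosure.isDedekindDomain R K L C
  have h2 : IsFractionRing C L := IsIntegralClosure.isFractionRing_of_finite_extension R K L C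
  have h3 : Module.Finite R C := IsIntegralClosure.finite R K L C
  have hfaith := faithfulSMul R K L C
  have hdvr := isDiscreteValuationRing_of_dominates R K L V h
  have hlh := isLocalHom_of_dominates (algebraMap R L) V h
  obtain ⟨v, hv, -⟩ := exists_of_dominates R K L C V h
  have hpr := v.isPrime
  subst hv
  let V := HeightOneSpectrum.valuationSubringAtPrime L v
  let : Algebra R V := (RingHom.codRestrict (algebraMap R L) V h.1).toAlgebra
  have htower : IsScalarTower R C V := by
    refine IsScalarTower.of_algebraMap_eq fun x => Subtype.ext ?_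
    exact IsScalarTower.algebraMap_apply R C L x
  have htower' : IsScalarTower R V L := IsScalarTower.of_algebraMap_eq' rfl
  have hinj : Function.Injective (algebraMap R V) := by
    have : Function.Injective (algebraMap R L) := by
      rw [IsScalarTower.algebraMap_eq R K L]
      exact (algebraMap K L).injective.comp (IsFractionRing.injective R K)
    rw [IsScalarTower.algebraMap_eq R V L, RingHom.coe_comp] at this
    exact Function.Injective.of_comp this
  have hlh' : IsLocalHom (algebraMap R V) := hlh
  obtain ⟨ϖ, hϖ⟩ := IsDiscreteValuationRing.exists_irreducible R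
  obtain ⟨π, hπ⟩ := IsDiscreteValuationRing.exists_irreducible V
  refine ⟨(exists_unit_mul_pow hinj hϖ hπ).2, ?_⟩
  have hmne : maximalIdeal R ≠ ⊥ := IsDiscreteValuationRing.not_a_field R
  have hess : Algebra.EssFiniteType C V :=
    Algebra.EssFiniteType.of_isLocalization V v.asIdeal.primeCompl
  have hliesC : v.asIdeal.LiesOver (maximalIdeal R) := by
    constructor
    symm
    refine IsLocalRing.eq_maximalIdeal ?_
    have hint : Algebra.IsIntegral R C := inferInstance
    have hne : v.asIdeal.under R ≠ ⊥ := Ideal.under_ne_bot R v.ne_bot
    exact (Ideal.IsPrime.under R v.asIdeal).isMaximal hne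
  have hliesV : (maximalIdeal V).LiesOver v.asIdeal := by
    constructor
    exact (IsLocalization.AtPrime.under_maximalIdeal V v.asIdeal).symm
  have hliesR : (maximalIdeal V).LiesOver (maximalIdeal R) := by
    constructor
    have h5 : (maximalIdeal V).comap (algebraMap R V) = maximalIdeal R :=
      ((local_hom_TFAE (algebraMap R V)).out 0 4).mp hlh'
    exact h5.symm
  have : FaithfulSMul R V := (faithfulSMul_iff_algebraMap_injective R V).mpr hinj
  have hflat : Module.Flat C V := IsLocalization.flat V v.asIdeal.primeCompl
  have hunr : Algebra.FormallyUnramified C V :=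
    Algebra.FormallyUnramified.of_isLocalization v.asIdeal.primeCompl
  have hunr' : Algebra.IsUnramifiedAt C (maximalIdeal V) := by
    have : Algebra.FormallyUnramified V (Localization.AtPrime (maximalIdeal V)) :=
      Algebra.FormallyUnramified.of_isLocalization (maximalIdeal V).primeCompl
    exact Algebra.FormallyUnramified.comp C V _
  rw [Ideal.ramificationIdx'_eq_ramificationIdx (maximalIdeal R) (maximalIdeal V) hmne,
    Ideal.ramificationIdx_tower (R := R) v.asIdeal (maximalIdeal V),
    Ideal.ramificationIdx_eq_one (maximalIdeal V) C, mul_one,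
    ← Ideal.ramificationIdx'_eq_ramificationIdx (maximalIdeal R) v.asIdeal hmne]
  have : Module.IsTorsionFree R C := inferInstance
  have : NoZeroSMulDivisors R C := by
    refine ⟨fun {a x} hax => ?_⟩
    rw [Algebra.smul_def] at hax
    exact (mul_eq_zero.mp hax).imp (fun h => by simpa using h) id
  exact Ideal.ramificationIdx_le_finrank (S := C) K L (p := maximalIdeal R) v.asIdeal

end DVR

end Groth.Agent.Sga1.AbhVal2
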