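import Groth.Agent.Sga1.AbhBase
import Groth.Agent.Sga1.AbhVal2
import Groth.Agent.Sga1.AbhDefs
import Groth.Agent.Sga1.AbhKumDvr
import Mathlib.RingTheory.Unramified.Field

/-!
# Bound for the ramification indices in Abhyankar's lemma
-/

set_option autoImplicit false

universe u

open IsLocalRing TensorProduct SGA1 Groth.Agent.Sga1.AbhDefs

namespace Groth.Agent.Sga1.AbhBound

variable (A : Type u) [CommRing A] [IsRegularLocalRing A] [IsDomain A] {r : ℕ} (f : Fin r → A)
    [∀ i, (Ideal.span {f i}).IsPrime]
    (B : Type u) [CommRing B] [Algebra A B] [Algebra (Localization.Away (∏ i, f i)) B]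
    [IsScalarTower A (Localization.Away (∏ i, f i)) B]
    [Module.Finite (Localization.Away (∏ i, f i)) B] [Algebra.Etale (Localization.Away (∏ i, f i)) B]

/-- bound for the ramification indices -/
theorem ramIdx_bound (i : Fin r) : ForallRam f (algebraMap A B) i
    (fun e => 1 ≤ e ∧ e ≤ Module.finrank (FractionRing A) (FractionRing A ⊗[A] B)) := by
  intro q hqp hq W h
  let F := ∏ i, f i
  let A' := Localization.Away F
  let K := FractionRing A
  let L := q.ResidueField
  have hB : Nontrivial B := ⟨⟨0, 1, fun h0 => hqp.ne_top ((Ideal.eq_top_iff_one q).mpr (h0 ▸ q.zero_mem))⟩⟩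
  have hF : F ≠ 0 := by
    intro h0
    have h1 : IsUnit (algebraMap A B F) := by
      rw [IsScalarTower.algebraMap_apply A A' B]
      exact (IsLocalization.Away.algebraMap_isUnit (S := A') F).map _
    rw [h0, map_zero] at h1
    exact not_isUnit_zero h1
  have hfi : ∀ j, f j ≠ 0 := fun j => Finset.prod_ne_zero_iff.mp hF j (Finset.mem_univ j)
  obtain ⟨hdvr, -⟩ := AbhKumDvr.isDiscreteValuationRing_localization A (f i) (hfi i)
  let R := Localization.AtPrime (Ideal.span {f i})
  have hle : (Ideal.span {f i}).primeCompl ≤ nonZeroDivisors A := Ideal.primeCompl_le_nonZeroDivisors _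
  let : Algebra R K := (IsLocalization.map (M := (Ideal.span {f i}).primeCompl) (T := nonZeroDivisors A)
    (S := R) K (RingHom.id A) hle).toAlgebra
  have htRK : IsScalarTower A R K := IsScalarTower.of_algebraMap_eq fun x =>
    (IsLocalization.map_eq (M := (Ideal.span {f i}).primeCompl) (T := nonZeroDivisors A)
      (S := R) (Q := K) (g := RingHom.id A) hle x).symm
  have hfrac : IsFractionRing R K :=
    IsFractionRing.isFractionRing_of_isDomain_of_isLocalization (Ideal.span {f i}).primeCompl R K
  have hleF : Submonoid.powers F ≤ nonZeroDivisors A := powers_le_nonZeroDivisors_of_noZeroDivisors hF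
  let : Algebra A' K := (IsLocalization.map (M := Submonoid.powers F) (T := nonZeroDivisors A)
    (S := A') K (RingHom.id A) hleF).toAlgebra
  have htA'K : IsScalarTower A A' K := IsScalarTower.of_algebraMap_eq fun x =>
    (IsLocalization.map_eq (M := Submonoid.powers F) (T := nonZeroDivisors A)
      (S := A') (Q := K) (g := RingHom.id A) hleF x).symm
  let M := K ⊗[A] B
  have hMet : Algebra.Etale K M := AbhBase.etale A (Submonoid.powers F) A' B K
  have hMfin : Module.Finite K M := AbhBase.finite A (Submonoid.powers F) A' B K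
  have hinj : Function.Injective (algebraMap A L) := by
    rw [injective_iff_map_eq_zero]
    intro a ha
    rw [IsScalarTower.algebraMap_apply A B L, ← RingHom.mem_ker, Ideal.ker_algebraMap_residueField] at ha
    have h1 : a ∈ Ideal.comap (algebraMap A B) q := ha
    rwa [hq] at h1
  let : Algebra K L := (IsFractionRing.lift (K := K) hinj).toAlgebra
  have htKL : IsScalarTower A K L := IsScalarTower.of_algebraMap_eq fun x =>
    (IsFractionRing.lift_algebraMap (K := K) hinj x).symm
  let ψ : M →ₐ[K] L := Algebra.TensorProduct.lift (Algebra.ofId K L) (IsScalarTower.toAlgHom A B L)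
    (fun _ _ => mul_comm _ _)
  have hψB : ∀ b : B, ψ ((1 : K) ⊗ₜ[A] b) = algebraMap B L b := by
    intro b
    change (Algebra.ofId K L) 1 * (IsScalarTower.toAlgHom A B L) b = _
    rw [map_one, one_mul, IsScalarTower.coe_toAlgHom']
  have hψ : Function.Surjective ψ := by
    have hfin : Module.Finite K ψ.range :=
      Module.Finite.of_surjective ψ.rangeRestrict.toLinearMap ψ.rangeRestrict_surjective
    have hinv : ∀ x ∈ ψ.range, x⁻¹ ∈ ψ.range := by
      intro x hx
      have halg : IsAlgebraic K x := by
        have h1 : IsIntegral K (⟨x, hx⟩ : ψ.range) := Algebra.IsIntegral.isIntegral _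
        exact (h1.map ψ.range.val).isAlgebraic
      exact Subalgebra.inv_mem_of_algebraic ψ.range (x := ⟨x, hx⟩) halg
    intro l
    obtain ⟨x, s, hs, rfl⟩ := IsFractionRing.div_surjective (B ⧸ q) l
    obtain ⟨x, rfl⟩ := Ideal.Quotient.mk_surjective x
    obtain ⟨s, rfl⟩ := Ideal.Quotient.mk_surjective s
    change _ ∈ ψ.range
    rw [div_eq_mul_inv]
    exact ψ.range.mul_mem ⟨_, hψB x⟩ (hinv _ ⟨_, hψB s⟩)
  have hLfin : Module.Finite K L := Module.Finite.of_surjective ψ.toLinearMap hψ
  have hLunr : Algebra.FormallyUnramified K L := Algebra.FormallyUnramified.of_surjective ψ hψ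
  have hLsep : Algebra.IsSeparable K L := Algebra.FormallyUnramified.isSeparable K L
  have hfr : Module.finrank K L ≤ Module.finrank K M :=
    LinearMap.finrank_le_finrank_of_surjective (f := ψ.toLinearMap) hψ
  let : Algebra R L := (SGA1.genericResidueMap (algebraMap A B) (Ideal.span {f i}) q hq).toAlgebra
  have htRKL : IsScalarTower R K L := by
    refine IsScalarTower.of_algebraMap_eq' ?_
    refine IsLocalization.ringHom_ext (Ideal.span {f i}).primeCompl ?_
    ext a
    have h1 : SGA1.genericResidueMap (algebraMap A B) (Ideal.span {f i}) q hq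
        (algebraMap A (Localization.AtPrime (Ideal.span {f i})) a) =
        algebraMap B q.ResidueField (algebraMap A B a) :=
      IsLocalization.lift_eq _ _
    change SGA1.genericResidueMap (algebraMap A B) (Ideal.span {f i}) q hq
        (algebraMap A (Localization.AtPrime (Ideal.span {f i})) a) =
        algebraMap K L (algebraMap R K (algebraMap A R a))
    rw [h1, ← IsScalarTower.algebraMap_apply A R K, ← IsScalarTower.algebraMap_apply A K L,
      ← IsScalarTower.algebraMap_apply A B L]
  have hkey := AbhVal2.ramificationIdx'_le R K L W h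
  exact ⟨hkey.1, hkey.2.trans hfr⟩

end Groth.Agent.Sga1.AbhBound
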