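import Groth.Agent.Sga1.AbhNak
import Mathlib.RingTheory.Etale.Basic
import Mathlib.RingTheory.Localization.AtPrime.Basic
import Mathlib.RingTheory.Localization.Integral
import Mathlib.RingTheory.IntegralClosure.IntegrallyClosed
import Mathlib.RingTheory.Ideal.GoingUp
import Mathlib.RingTheory.Unramified.Basic

set_option autoImplicit false
universe u

namespace Groth.Agent.Sga1.AbhClaims

open IsLocalRing TensorProduct

/-- Transfer of a ring map along an isomorphism `Lc ⊗[A'] C' ≃ Lc ⊗[A] B`. -/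
theorem transfer {A A' Lc B C' Ω : Type u} [CommRing A] [CommRing A'] [CommRing Lc] [CommRing B] [CommRing C']
    [Field Ω] [Algebra A B] [Algebra A Lc] [Algebra A' Lc] [Algebra A' C']
    (Φ : Lc ⊗[A'] C' ≃ₐ[Lc] Lc ⊗[A] B) (ψ : Lc →+* Ω) (χB : B →+* Ω)
    (hψ : ψ.comp (algebraMap A Lc) = χB.comp (algebraMap A B)) :
    ∃ χC : C' →+* Ω, χC.comp (algebraMap A' C') = ψ.comp (algebraMap A' Lc) ∧
      (∀ S : Subring Ω, ψ.range ≤ S → χC.range ≤ S → χB.range ≤ S) ∧
      (∀ S : Subring Ω, ψ.range ≤ S → χB.range ≤ S → χC.range ≤ S) := by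
  let : Algebra A Ω := (ψ.comp (algebraMap A Lc)).toAlgebra
  let ψ' : Lc →ₐ[A] Ω := { ψ with commutes' := fun a => rfl }
  let χ' : B →ₐ[A] Ω := { χB with commutes' := fun a => (congrArg (fun g : A →+* Ω => g a) hψ).symm }
  let Θ : Lc ⊗[A] B →ₐ[A] Ω := Algebra.TensorProduct.lift ψ' χ' (fun _ _ => Commute.all _ _)
  have hΘ : ∀ l b, Θ (l ⊗ₜ b) = ψ l * χB b := fun l b => rfl
  let χC : C' →+* Ω := (Θ : Lc ⊗[A] B →+* Ω).comp
    ((Φ : Lc ⊗[A'] C' →+* Lc ⊗[A] B).comp (Algebra.TensorProduct.includeRight (R := A') (A := Lc) (B := C')).toRingHom)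
  have hχC : ∀ c, χC c = Θ (Φ (1 ⊗ₜ c)) := fun c => rfl
  have hΘΦ : ∀ (l : Lc) (c : C'), Θ (Φ (l ⊗ₜ c)) = ψ l * χC c := by
    intro l c
    have h1 : (l ⊗ₜ[A'] c : Lc ⊗[A'] C') = l • ((1 : Lc) ⊗ₜ[A'] c) := by
      rw [TensorProduct.smul_tmul', smul_eq_mul, mul_one]
    rw [h1, map_smul, Algebra.smul_def, map_mul, hχC]
    congr 1
    rw [Algebra.TensorProduct.algebraMap_apply, hΘ, map_one, mul_one]
    rfl
  refine ⟨χC, ?_, ?_, ?_⟩
  · ext a
    have h1 : ((1 : Lc) ⊗ₜ[A'] (algebraMap A' C' a)) = (algebraMap A' Lc a) ⊗ₜ[A'] (1 : C') := by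
      rw [← mul_one (algebraMap A' C' a), ← Algebra.smul_def, TensorProduct.tmul_smul, TensorProduct.smul_tmul',
        Algebra.smul_def, mul_one]
    rw [RingHom.comp_apply, hχC, h1, hΘΦ, map_one, mul_one, RingHom.comp_apply]
  · intro S h1 h2
    rintro _ ⟨b, rfl⟩
    have h3 : ∀ z : Lc ⊗[A'] C', Θ (Φ z) ∈ S := by
      intro z
      induction z using TensorProduct.induction_on with
      | zero => rw [map_zero, map_zero]; exact S.zero_mem
      | tmul l c => rw [hΘΦ]; exact S.mul_mem (h1 ⟨l, rfl⟩) (h2 ⟨c, rfl⟩)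
      | add x y hx hy => rw [map_add, map_add]; exact S.add_mem hx hy
    have h4 := h3 (Φ.symm (1 ⊗ₜ b))
    rw [AlgEquiv.apply_symm_apply, hΘ, map_one, one_mul] at h4
    exact h4
  · intro S h1 h2
    rintro _ ⟨c, rfl⟩
    have h3 : ∀ z : Lc ⊗[A] B, Θ z ∈ S := by
      intro z
      induction z using TensorProduct.induction_on with
      | zero => rw [map_zero]; exact S.zero_mem
      | tmul l b => rw [hΘ]; exact S.mul_mem (h1 ⟨l, rfl⟩) (h2 ⟨b, rfl⟩)
      | add x y hx hy => rw [map_add]; exact S.add_mem hx hy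
    exact h3 _

/-- Claim 1: maps of finite étale algebras to a field over a strictly henselian local ring. -/
theorem claim1 {A' C' H' Ω : Type u} [CommRing A'] [CommRing C'] [CommRing H'] [Field Ω] [HenselianLocalRing H']
    [IsSepClosed (ResidueField H')] [Algebra A' C'] [Module.Finite A' C'] [Algebra.Etale A' C']
    (α : A' →+* H') (ι : H' →+* Ω) (χ : C' →+* Ω) (h : χ.comp (algebraMap A' C') = ι.comp α) :
    χ.range ≤ ι.range := by
  let : Algebra A' H' := α.toAlgebra
  let : Algebra H' Ω := ι.toAlgebra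
  let : Algebra A' Ω := (ι.comp α).toAlgebra
  have : IsScalarTower A' H' Ω := IsScalarTower.of_algebraMap_eq fun _ => rfl
  let χ' : C' →ₐ[A'] Ω := { χ with commutes' := fun a => congrArg (fun g : A' →+* Ω => g a) h }
  let g : H' ⊗[A'] C' →ₐ[H'] Ω := Algebra.TensorProduct.lift (Algebra.ofId H' Ω) χ' (fun _ _ => Commute.all _ _)
  rintro _ ⟨c, rfl⟩
  obtain ⟨y, hy⟩ := AbhNak.exists_algebraMap_eq g (1 ⊗ₜ c)
  refine ⟨y, ?_⟩
  have h1 : g (1 ⊗ₜ c) = χ c := by
    simp [g, χ']
  rw [← h1, hy]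
  rfl


/-- Elements of a field integral over an integrally closed subring and lying in its fraction field. -/
theorem mem_range_of_isIntegral {H' Ω : Type u} [CommRing H'] [IsDomain H'] [IsIntegrallyClosed H'] [Field Ω]
    (ι : H' →+* Ω) (hι : Function.Injective ι) {y : Ω} {u v : H'} (hv : v ≠ 0) (hy : y * ι v = ι u)
    (hint : ι.IsIntegralElem y) : y ∈ ι.range := by
  let : Algebra H' Ω := ι.toAlgebra
  let K := FractionRing H'
  let j : K →+* Ω := IsFractionRing.lift hι
  have hj : ∀ a, j (algebraMap H' K a) = ι a := fun a => IsFractionRing.lift_algebraMap hι a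
  let : Algebra K Ω := j.toAlgebra
  have : IsScalarTower H' K Ω := IsScalarTower.of_algebraMap_eq fun a => (hj a).symm
  let z : K := algebraMap H' K u / algebraMap H' K v
  have hv' : ι v ≠ 0 := fun h => hv ((injective_iff_map_eq_zero ι).1 hι v h)
  have hz : j z = y := by
    simp only [z]
    rw [map_div₀, hj, hj, div_eq_iff hv', hy]
  have h1 : IsIntegral H' (algebraMap K Ω z) := by
    show ι.IsIntegralElem (j z)
    rw [hz]; exact hint
  have h2 : IsIntegral H' z := (isIntegral_algebraMap_iff (algebraMap K Ω).injective).1 h1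
  obtain ⟨w, hw⟩ := IsIntegrallyClosed.isIntegral_iff.1 h2
  exact ⟨w, by rw [← hj, hw, hz]⟩

/-- Claim 2. -/
theorem claim2 {A₁ C H₁ H' Ω : Type u} [CommRing A₁] [CommRing C] [CommRing H₁] [IsDomain H₁] [CommRing H']
    [IsDomain H'] [IsIntegrallyClosed H'] [Field Ω] (P : Ideal A₁) [P.IsPrime] (PP : Ideal H₁) [PP.IsPrime]
    [Algebra (Localization.AtPrime P) C] [Module.Finite (Localization.AtPrime P) C]
    [Algebra.Etale (Localization.AtPrime P) C]
    (β : A₁ →+* H₁) (hβ : PP.comap β = P) (γ : H₁ →+* H') (ι : H' →+* Ω) (hι : Function.Injective ι)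
    (hγ : Function.Injective γ) (hγi : γ.IsIntegral)
    (χ : C →+* Ω) (h : χ.comp ((algebraMap (Localization.AtPrime P) C).comp (algebraMap A₁ _)) = (ι.comp γ).comp β)
    (hfrac : ∀ c : C, ∃ u v : H', v ≠ 0 ∧ χ c * ι v = ι u)
    (p : ℕ) [hp : Fact p.Prime] (hpP : (p : H₁) ∈ PP) (s : ℕ)
    (hpow : ∀ y : H', ∃ (x : H₁) (z : H'), y ^ (p ^ s) = γ x + p * z) (c : C) :
    ∃ u v : H₁, v ∉ PP ∧ χ c * ι (γ v) = ι (γ u) := by
  let R := Localization.AtPrime PP
  let ι₁ : H₁ →+* Ω := ι.comp γ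
  have hι₁ : Function.Injective ι₁ := hι.comp hγ
  have hunit : ∀ y : PP.primeCompl, IsUnit (ι₁ y) := by
    intro y
    rw [isUnit_iff_ne_zero]
    intro h0
    have : (y : H₁) = 0 := (injective_iff_map_eq_zero ι₁).1 hι₁ _ h0
    exact y.2 (by rw [this]; exact PP.zero_mem)
  let ιR : R →+* Ω := IsLocalization.lift (M := PP.primeCompl) hunit
  have hιR : ∀ a : H₁, ιR (algebraMap H₁ R a) = ι₁ a := fun a => IsLocalization.lift_eq hunit a
  let loc : Localization.AtPrime P →+* R := Localization.localRingHom P PP β hβ.symm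
  have hloc : ∀ a : A₁, loc (algebraMap A₁ _ a) = algebraMap H₁ R (β a) := fun a =>
    Localization.localRingHom_to_map P PP β hβ.symm a
  have hcomp : χ.comp (algebraMap (Localization.AtPrime P) C) = ιR.comp loc := by
    apply IsLocalization.ringHom_ext P.primeCompl
    ext a
    have h1 := congrArg (fun g : A₁ →+* Ω => g a) h
    simp only [RingHom.comp_apply] at h1 ⊢
    rw [h1, hloc, hιR]
    rfl
  let : Algebra (Localization.AtPrime P) R := loc.toAlgebra
  let : Algebra R Ω := ιR.toAlgebra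
  let : Algebra (Localization.AtPrime P) Ω := (ιR.comp loc).toAlgebra
  have : IsScalarTower (Localization.AtPrime P) R Ω := IsScalarTower.of_algebraMap_eq fun _ => rfl
  let : Algebra H₁ Ω := ι₁.toAlgebra
  have : IsScalarTower H₁ R Ω := IsScalarTower.of_algebraMap_eq fun a => (hιR a).symm
  let χ' : C →ₐ[Localization.AtPrime P] Ω :=
    { χ with commutes' := fun a => congrArg (fun g : Localization.AtPrime P →+* Ω => g a) hcomp }
  let S := R ⊗[Localization.AtPrime P] C
  let g : S →ₐ[R] Ω := Algebra.TensorProduct.lift (Algebra.ofId R Ω) χ' (fun _ _ => Commute.all _ _)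
  have hg : ∀ (a : R) (c : C), g (a ⊗ₜ c) = ιR a * χ c := fun a c => rfl
  let D : Subalgebra R Ω := g.range
  have hDfin : Module.Finite R D := Module.Finite.of_surjective g.rangeRestrict.toLinearMap g.rangeRestrict_surjective
  have hDunr : Algebra.FormallyUnramified R D :=
    Algebra.FormallyUnramified.of_surjective g.rangeRestrict g.rangeRestrict_surjective
  have hDft : Algebra.Unramified R D := ⟨inferInstance, inferInstance⟩
  have hιRinj : Function.Injective ιR := by
    rw [injective_iff_map_eq_zero]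
    intro a ha
    obtain ⟨x, t, rfl⟩ := IsLocalization.exists_mk'_eq PP.primeCompl a
    have h1 : ιR (IsLocalization.mk' R x t) * ι₁ t = ι₁ x := by
      rw [← hιR, ← hιR, ← map_mul, IsLocalization.mk'_spec]
    rw [ha, zero_mul] at h1
    have h2 : x = 0 := (injective_iff_map_eq_zero ι₁).1 hι₁ _ h1.symm
    rw [h2, IsLocalization.mk'_zero]
  -- every element of `D` is a fraction
  have hDfrac : ∀ d : Ω, d ∈ D → ∃ u v : H', v ≠ 0 ∧ d * ι v = ι u := by
    rintro _ ⟨z, rfl⟩
    show ∃ u v : H', v ≠ 0 ∧ g z * ι v = ι u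
    induction z using TensorProduct.induction_on with
    | zero => exact ⟨0, 1, one_ne_zero, by simp⟩
    | tmul a c =>
      obtain ⟨x, t, rfl⟩ := IsLocalization.exists_mk'_eq PP.primeCompl a
      obtain ⟨u, v, hv, huv⟩ := hfrac c
      refine ⟨γ x * u, γ t * v, ?_, ?_⟩
      · refine mul_ne_zero ?_ hv
        intro h0
        have : (t : H₁) = 0 := (injective_iff_map_eq_zero γ).1 hγ _ h0
        exact t.2 (by rw [this]; exact PP.zero_mem)
      · have h1 : ιR (IsLocalization.mk' R x t) * ι₁ t = ι₁ x := by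
          rw [← hιR, ← hιR, ← map_mul, IsLocalization.mk'_spec]
        rw [hg, map_mul, map_mul, ← huv]
        have h2 : ι (γ t) = ι₁ t := rfl
        have h3 : ι (γ x) = ι₁ x := rfl
        rw [h2, h3, ← h1]
        ring
    | add x y hx hy =>
      obtain ⟨u, v, hv, huv⟩ := hx
      obtain ⟨u', v', hv', huv'⟩ := hy
      refine ⟨u * v' + u' * v, v * v', mul_ne_zero hv hv', ?_⟩
      rw [map_add, map_mul, map_add, map_mul, map_mul, ← huv, ← huv']
      ring
  have hpR : (p : R) ∈ maximalIdeal R := by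
    have : (p : R) = algebraMap H₁ R p := by rw [map_natCast]
    rw [this, ← Localization.AtPrime.map_eq_maximalIdeal]
    exact Ideal.mem_map_of_mem _ hpP
  have hsurj : Function.Surjective (algebraMap R D) := by
    refine AbhNak.surjective_of_pow p hpR s ?_
    rintro ⟨x, hxD⟩
    -- `x` is integral over `R`
    have hxint : IsIntegral R x := by
      have h1 : IsIntegral R (⟨x, hxD⟩ : D) := Algebra.IsIntegral.isIntegral _
      exact h1.map D.val
    obtain ⟨t, ht⟩ := IsIntegral.exists_multiple_integral_of_isLocalization PP.primeCompl x hxint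
    have ht' : ι.IsIntegralElem (ι₁ t * x) := by
      obtain ⟨q, hq, hq0⟩ := ht
      refine ⟨q.map γ, hq.map γ, ?_⟩
      rw [Polynomial.eval₂_map]
      exact hq0
    obtain ⟨u, v, hv, huv⟩ := hDfrac x hxD
    obtain ⟨y, hy⟩ := mem_range_of_isIntegral ι hι (u := γ t * u) (v := v) hv (by
      rw [mul_assoc, huv, map_mul]; rfl) ht'
    obtain ⟨a, z, haz⟩ := hpow y
    -- `x ^ q = a / t ^ q + p * (z / t ^ q)`
    have ht0 : ι₁ t ≠ 0 := (hunit t).ne_zero
    let r : R := IsLocalization.mk' R a (t ^ (p ^ s))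
    have hr : ιR r * ι₁ t ^ (p ^ s) = ι₁ a := by
      have : ι₁ t ^ (p ^ s) = ιR (algebraMap H₁ R ((t ^ (p ^ s) : PP.primeCompl) : H₁)) := by
        rw [hιR, ← map_pow]; rfl
      rw [this, ← map_mul, IsLocalization.mk'_spec, hιR]
    let w : Ω := ι z / ι₁ t ^ (p ^ s)
    have hw : IsIntegral R w := by
      have h1 : IsIntegral H₁ (ι z) := by
        have h2 : γ.IsIntegralElem z := hγi z
        obtain ⟨q, hq, hq0⟩ := h2
        refine ⟨q, hq, ?_⟩
        have h3 := congrArg ι hq0
        rw [map_zero, Polynomial.hom_eval₂] at h3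
        exact h3
      have h3 : IsIntegral R (ι z) := h1.tower_top
      have h4 : w = algebraMap R Ω (IsLocalization.mk' R 1 (t ^ (p ^ s))) * ι z := by
        have h5 : algebraMap R Ω (IsLocalization.mk' R 1 (t ^ (p ^ s))) * ι₁ t ^ (p ^ s) = 1 := by
          have : ι₁ t ^ (p ^ s) = ιR (algebraMap H₁ R ((t ^ (p ^ s) : PP.primeCompl) : H₁)) := by
            rw [hιR, ← map_pow]; rfl
          rw [this]
          show ιR _ * ιR _ = 1
          rw [← map_mul, IsLocalization.mk'_spec, map_one, map_one]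
        simp only [w]
        rw [div_eq_iff (pow_ne_zero _ ht0), mul_right_comm, h5, one_mul]
      rw [h4]
      exact (isIntegral_algebraMap).mul h3
    refine ⟨r, ?_⟩
    intro 𝔫 h𝔫
    have hxw : x ^ (p ^ s) - ιR r = p * w := by
      have h1 : (ι₁ t * x) ^ (p ^ s) = ι₁ a + p * ι z := by
        rw [← hy, ← map_pow, haz, map_add, map_mul, map_natCast]; rfl
      rw [mul_pow] at h1
      simp only [w]
      field_simp
      rw [← hr] at h1
      linear_combination h1
    -- lying over in the integral closure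
    let E := integralClosure R Ω
    have hDE : D ≤ E := by
      intro d hd
      have h1 : IsIntegral R (⟨d, hd⟩ : D) := Algebra.IsIntegral.isIntegral _
      exact h1.map D.val
    let : Algebra D E := (Subalgebra.inclusion hDE).toRingHom.toAlgebra
    have : IsScalarTower R D E := IsScalarTower.of_algebraMap_eq fun _ => rfl
    have hint : Algebra.IsIntegral D E := by
      have : Algebra.IsIntegral R E := inferInstance
      exact Algebra.IsIntegral.tower_top R
    have hinj : Function.Injective (algebraMap D E) := Subalgebra.inclusion_injective hDE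
    obtain ⟨Q, hQ, hQ𝔫⟩ := Ideal.exists_ideal_over_prime_of_isIntegral (R := D) (S := E) 𝔫 ⊥ (by
      rw [← RingHom.ker_eq_comap_bot, (RingHom.injective_iff_ker_eq_bot _).1 hinj]
      exact bot_le)
    have hp𝔫 : (p : D) ∈ 𝔫 := by
      have h1 : 𝔫.comap (algebraMap R D) = maximalIdeal R :=
        IsLocalRing.eq_maximalIdeal (Ideal.isMaximal_comap_of_isIntegral_of_isMaximal (R := R) 𝔫)
      have h2 : (p : R) ∈ 𝔫.comap (algebraMap R D) := by rw [h1]; exact hpR
      rw [Ideal.mem_comap, map_natCast] at h2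
      exact h2
    have hpQ : (p : E) ∈ Q := by
      rw [← hQ𝔫.2, Ideal.mem_comap, map_natCast] at hp𝔫
      exact hp𝔫
    rw [← hQ𝔫.2, Ideal.mem_comap]
    have h5 : algebraMap D E ((⟨x, hxD⟩ : D) ^ (p ^ s) - algebraMap R D r) = (p : E) * ⟨w, hw⟩ := by
      apply Subtype.ext
      rw [map_sub, map_pow]
      show x ^ (p ^ s) - ιR r = ((p : E) : Ω) * w
      rw [hxw]
      rfl
    rw [h5]
    exact Q.mul_mem_right _ hpQ
  obtain ⟨a, ha⟩ := hsurj ⟨χ c, ⟨1 ⊗ₜ c, by
    show g (1 ⊗ₜ c) = χ c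
    rw [hg, map_one, one_mul]⟩⟩
  obtain ⟨x, t, rfl⟩ := IsLocalization.exists_mk'_eq PP.primeCompl a
  refine ⟨x, t, t.2, ?_⟩
  have h1 : ιR (IsLocalization.mk' R x t) = χ c := congrArg Subtype.val ha
  rw [← h1]
  show _ * ι₁ t = ι₁ x
  rw [← hιR, ← hιR, ← map_mul, IsLocalization.mk'_spec]

end Groth.Agent.Sga1.AbhClaims
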