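import Groth.Agent.Sga1.AbhPure
import Groth.Agent.Sga1.AbhBase
import Groth.Prelude.Def_SGA1

/-!
# Finite etale covers of `D(F) ⊂ Spec A` and finite etale `A[1/F]`-algebras
-/

set_option autoImplicit false

universe u

open IsLocalRing TensorProduct CategoryTheory CategoryTheory.Limits AlgebraicGeometry
open Groth.Agent.Pi1A.FEtAffine Groth.Agent.Sga1.AbhPure

namespace Groth.Agent.Sga1.AbhConv

variable (A : Type u) [CommRing A] (F : A) (V : FEt.Cat ((SGA1.specBasicOpen A F) : Scheme.{u}))

/-- the structure map `A → Γ(V)` -/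
noncomputable def str : A →+* Γ(V.left, ⊤) :=
  ((V.hom ≫ (SGA1.specBasicOpen A F).ι).appTop).hom.comp (Scheme.ΓSpecIso (CommRingCat.of A)).inv.hom

/-- every finite etale cover of `D(F)` comes from a finite etale `A[1/F]`-algebra with underlying ring `Γ(V)`
and compatible `A`-algebra structure. -/
theorem exists_algebra : ∃ (_ : Algebra (Localization.Away F) Γ(V.left, ⊤))
    (_ : Module.Finite (Localization.Away F) Γ(V.left, ⊤))
    (_ : Algebra.Etale (Localization.Away F) Γ(V.left, ⊤)),
    (algebraMap (Localization.Away F) Γ(V.left, ⊤)).comp (algebraMap A (Localization.Away F)) = str A F V ∧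
    Nonempty (V ≅ (FEt.restrict (basicIso A F).hom).obj (ofAlgebra (Localization.Away F) Γ(V.left, ⊤))) := by
  have hV : IsFinite V.hom := V.prop.1
  have haff : IsAffine ((SGA1.specBasicOpen A F) : Scheme.{u}) := IsAffine.of_isIso (basicIso A F).hom
  have : IsAffine ((Functor.fromPUnit ((SGA1.specBasicOpen A F) : Scheme.{u})).obj V.right) := haff
  have haffV : IsAffine V.left := isAffine_of_isAffineHom V.hom
  let φ : CommRingCat.of (Localization.Away F) ⟶ Γ(V.left, ⊤) :=
    Spec.preimage (V.left.isoSpec.inv ≫ V.hom ≫ (basicIso A F).hom)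
  have hφ : Spec.map φ = V.left.isoSpec.inv ≫ V.hom ≫ (basicIso A F).hom := Spec.map_preimage _
  have h : FEt.prop (Spec.map φ) := by
    rw [hφ, MorphismProperty.cancel_left_of_respectsIso FEt.prop,
      MorphismProperty.cancel_right_of_respectsIso FEt.prop]
    exact V.prop
  let alg : Algebra (Localization.Away F) Γ(V.left, ⊤) := φ.hom.toAlgebra
  have h1 : Module.Finite (Localization.Away F) Γ(V.left, ⊤) := (IsFinite.SpecMap_iff φ).mp h.1
  have h2 : Algebra.Etale (Localization.Away F) Γ(V.left, ⊤) :=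
    (HasRingHomProperty.Spec_iff (P := @Etale)).mp h.2
  refine ⟨alg, h1, h2, ?_, ?_⟩
  · have h3 : Spec.map (CommRingCat.ofHom (algebraMap A (Localization.Away F)) ≫ φ) =
        Spec.map (CommRingCat.ofHom (str A F V)) := by
      have h4 : CommRingCat.ofHom (str A F V) = (Scheme.ΓSpecIso (CommRingCat.of A)).inv ≫
        (V.hom ≫ (SGA1.specBasicOpen A F).ι).appTop := rfl
      rw [Spec.map_comp, hφ, h4, Spec.map_comp, Category.assoc, Category.assoc]
      erw [basicIso_hom_specMap]
      rw [← Scheme.isoSpec_Spec_inv]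
      have h6 := Scheme.isoSpec_inv_naturality (X := V.left) (Y := Spec (CommRingCat.of A))
        (V.hom ≫ (SGA1.specBasicOpen A F).ι)
      exact h6.symm
    have h5 := Spec.map_injective h3
    exact congrArg CommRingCat.Hom.hom h5
  · have hpb : IsPullback V.left.isoSpec.hom V.hom (Spec.map φ) (basicIso A F).hom :=
      IsPullback.of_horiz_isIso ⟨by rw [hφ]; simp⟩
    exact ⟨isoMk (hpb.isoIsPullback _ _ (isPullback (basicIso A F).hom
      (ofAlgebra (Localization.Away F) Γ(V.left, ⊤)))) (IsPullback.isoIsPullback_hom_snd _ _ _ _)⟩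

end Groth.Agent.Sga1.AbhConv
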