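import Groth.Agent.Sga1.AbhConv

/-!
# Comparison of restrictions to `D(F)` after a base change `A → A₁`
-/

set_option autoImplicit false

universe u

open IsLocalRing TensorProduct CategoryTheory CategoryTheory.Limits AlgebraicGeometry
open Groth.Agent.Pi1A.FEtAffine Groth.Agent.Sga1.AbhPure

namespace Groth.Agent.Sga1.AbhConv2

variable (A : Type u) [CommRing A] (F : A) (A₁ : Type u) [CommRing A₁] [Algebra A A₁]

/-- `π⁻¹ D(F) ≅ Spec A₁[1/F]` -/
noncomputable def preIso : ((specMap A A₁) ⁻¹ᵁ (SGA1.specBasicOpen A F) : Scheme.{u}) ≅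
    Spec (CommRingCat.of (Localization.Away (algebraMap A A₁ F))) :=
  IsOpenImmersion.isoOfRangeEq ((specMap A A₁) ⁻¹ᵁ (SGA1.specBasicOpen A F)).ι
    (specMap A₁ (Localization.Away (algebraMap A A₁ F))) (by
      rw [Scheme.Opens.range_ι]
      exact (PrimeSpectrum.localization_away_comap_range _ _).symm)

theorem preIso_hom_specMap : (preIso A F A₁).hom ≫ specMap A₁ (Localization.Away (algebraMap A A₁ F)) =
    ((specMap A A₁) ⁻¹ᵁ (SGA1.specBasicOpen A F)).ι :=
  IsOpenImmersion.isoOfRangeEq_hom_fac _ _ _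

variable [Algebra (Localization.Away F) (Localization.Away (algebraMap A A₁ F))]
  [IsScalarTower A (Localization.Away F) (Localization.Away (algebraMap A A₁ F))]

instance mono_specMap : Mono (specMap A (Localization.Away F)) := by
  have h : specMap A (Localization.Away F) = (basicIso A F).inv ≫ (basic A F).ι := (basicIso_inv_ι A F).symm
  rw [h]
  infer_instance

theorem restrict_comp : (specMap A A₁) ∣_ (SGA1.specBasicOpen A F) ≫ (basicIso A F).hom =
    (preIso A F A₁).hom ≫ specMap (Localization.Away F) (Localization.Away (algebraMap A A₁ F)) := by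
  rw [← cancel_mono (specMap A (Localization.Away F)), Category.assoc, Category.assoc]
  have h1 : specMap (Localization.Away F) (Localization.Away (algebraMap A A₁ F)) ≫
      specMap A (Localization.Away F) =
      specMap A₁ (Localization.Away (algebraMap A A₁ F)) ≫ specMap A A₁ := by
    change Spec.map _ ≫ Spec.map _ = Spec.map _ ≫ Spec.map _
    rw [← Spec.map_comp, ← Spec.map_comp, ← CommRingCat.ofHom_comp, ← CommRingCat.ofHom_comp,
      ← IsScalarTower.algebraMap_eq, ← IsScalarTower.algebraMap_eq]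
  rw [h1, reassoc_of% (preIso_hom_specMap A F A₁)]
  have h2 : (specMap A A₁) ∣_ (SGA1.specBasicOpen A F) ≫ (basicIso A F).hom ≫ specMap A (Localization.Away F) =
      (specMap A A₁) ∣_ (SGA1.specBasicOpen A F) ≫ (SGA1.specBasicOpen A F).ι :=
    congrArg (fun t => (specMap A A₁) ∣_ (SGA1.specBasicOpen A F) ≫ t) (basicIso_hom_specMap A F)
  rw [h2]
  exact morphismRestrict_ι (specMap A A₁) (SGA1.specBasicOpen A F)

variable (B : Type u) [CommRing B] [Algebra A B] [Algebra (Localization.Away F) B]
    [IsScalarTower A (Localization.Away F) B]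
    [Module.Finite (Localization.Away F) B] [Algebra.Etale (Localization.Away F) B]
    (V : FEt.Cat ((SGA1.specBasicOpen A F) : Scheme.{u}))
    (hV : Nonempty (V ≅ (FEt.restrict (basicIso A F).hom).obj (ofAlgebra (Localization.Away F) B)))
    (C : Type u) [CommRing C] [Algebra A₁ C] [Module.Finite A₁ C] [Algebra.Etale A₁ C]
    (he : Nonempty (Localization.Away (algebraMap A A₁ F) ⊗[A₁] C ≃ₐ[Localization.Away (algebraMap A A₁ F)]
      Localization.Away (algebraMap A A₁ F) ⊗[A] B))

include hV he in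
theorem nonempty_iso : Nonempty
    ((FEt.restrict ((specMap A A₁) ⁻¹ᵁ (SGA1.specBasicOpen A F)).ι).obj (ofAlgebra A₁ C) ≅
      (FEt.restrict ((specMap A A₁) ∣_ (SGA1.specBasicOpen A F))).obj V) := by
  obtain ⟨v⟩ := hV
  obtain ⟨e⟩ := he
  let Q := Localization.Away (algebraMap A A₁ F)
  have h1 := preIso_hom_specMap A F A₁
  have h2 := restrict_comp A F A₁
  have hDet : Algebra.Etale Q (Q ⊗[A] B) := AbhBase.etale A (Submonoid.powers F) (Localization.Away F) B Q
  have hDfin : Module.Finite Q (Q ⊗[A] B) := AbhBase.finite A (Submonoid.powers F) (Localization.Away F) B Q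
  have i1 := (restrictCongr h1).symm.app (ofAlgebra A₁ C)
  have i2 := (restrictComp (preIso A F A₁).hom (specMap A₁ Q)).app (ofAlgebra A₁ C)
  have i3 := (FEt.restrict (preIso A F A₁).hom).mapIso (restrictOfAlgebraIso A₁ Q C)
  have i4 := (FEt.restrict (preIso A F A₁).hom).mapIso (isoOfAlgEquiv e).symm
  have i5 := (FEt.restrict (preIso A F A₁).hom).mapIso
    (isoOfAlgEquiv (AbhBase.baseEquiv A (Submonoid.powers F) (Localization.Away F) B Q))
  have i6 := (FEt.restrict (preIso A F A₁).hom).mapIso (restrictOfAlgebraIso (Localization.Away F) Q B).symm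
  have i7 := (restrictComp (preIso A F A₁).hom (specMap (Localization.Away F) Q)).symm.app
    (ofAlgebra (Localization.Away F) B)
  have i8 := (restrictCongr h2).symm.app (ofAlgebra (Localization.Away F) B)
  have i9 := (restrictComp ((specMap A A₁) ∣_ (SGA1.specBasicOpen A F)) (basicIso A F).hom).app
    (ofAlgebra (Localization.Away F) B)
  have i10 := (FEt.restrict ((specMap A A₁) ∣_ (SGA1.specBasicOpen A F))).mapIso v.symm
  exact ⟨i1 ≪≫ i2 ≪≫ i3 ≪≫ i4 ≪≫ i5 ≪≫ i6 ≪≫ i7 ≪≫ i8 ≪≫ i9 ≪≫ i10⟩

end Groth.Agent.Sga1.AbhConv2
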