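import Groth.Agent.Sga1.AbhKum
import Mathlib.RingTheory.Etale.Pi
import Mathlib.RingTheory.TensorProduct.Pi
import Mathlib.RingTheory.Localization.BaseChange

/-!
# Extending étale algebras over the fraction field of a DVR
-/

set_option autoImplicit false

universe u

open IsLocalRing TensorProduct

namespace Groth.Agent.Sga1.AbhExt

variable (R : Type u) [CommRing R] [IsDomain R] [IsDiscreteValuationRing R]
  (K : Type u) [Field K] [Algebra R K] [IsFractionRing R K]

/-- field case -/
theorem exists_extension_field (N : Type u) [Field N] [Algebra K N] [FiniteDimensional K N]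
    [Algebra.IsSeparable K N] [Algebra R N] [IsScalarTower R K N]
    (h : EtRam.IsUnramifiedExt R (algebraMap R N)) :
    ∃ (C : Type u) (_ : CommRing C) (_ : Algebra R C), Module.Finite R C ∧ Algebra.Etale R C ∧
      Nonempty (K ⊗[R] C ≃ₐ[K] N) := by
  let C := integralClosure R N
  have h1 : IsDedekindDomain C := IsIntegralClosure.isDedekindDomain R K N C
  have h2 : IsFractionRing C N := IsIntegralClosure.isFractionRing_of_finite_extension R K N C
  obtain ⟨h3, h4⟩ := AbhVal.etale_of_isUnramifiedExt R K N C h
  refine ⟨C, inferInstance, inferInstance, h3, h4, ?_⟩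
  have hint : Algebra.IsIntegral R C := inferInstance
  have hfaith := AbhVal.faithfulSMul R K N C
  have hloc : IsLocalization (Algebra.algebraMapSubmonoid C (nonZeroDivisors R)) N :=
    IsIntegralClosure.isLocalization R K N C
  have hpush : Algebra.IsPushout R K C N :=
    (Algebra.isPushout_of_isLocalization (nonZeroDivisors R) K C N).symm
  exact ⟨Algebra.IsPushout.equiv R K C N⟩

theorem exists_extension (M : Type u) [CommRing M] [Algebra K M] [Algebra.Etale K M] [Algebra R M]
    [IsScalarTower R K M]
    (h : ∀ (N : Type u) [Field N] (ψ : M →+* N), Function.Surjective ψ →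
      EtRam.IsUnramifiedExt R (ψ.comp (algebraMap R M))) :
    ∃ (C : Type u) (_ : CommRing C) (_ : Algebra R C), Module.Finite R C ∧ Algebra.Etale R C ∧
      Nonempty (K ⊗[R] C ≃ₐ[K] M) := by
  classical
  obtain ⟨I, _, Ai, _, _, e, H⟩ := (Algebra.Etale.iff_exists_algEquiv_prod K M).mp inferInstance
  have key : ∀ i, ∃ (C : Type u) (_ : CommRing C) (_ : Algebra R C), Module.Finite R C ∧
      Algebra.Etale R C ∧ Nonempty (K ⊗[R] C ≃ₐ[K] Ai i) := by
    intro i
    have := (H i).1
    have := (H i).2
    let : Algebra R (Ai i) := ((algebraMap K (Ai i)).comp (algebraMap R K)).toAlgebra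
    have : IsScalarTower R K (Ai i) := IsScalarTower.of_algebraMap_eq' rfl
    refine exists_extension_field R K (Ai i) ?_
    let ψ : M →ₐ[K] Ai i := (Pi.evalAlgHom K Ai i).comp e.toAlgHom
    have hψ : Function.Surjective ψ := (Function.surjective_eval i).comp e.surjective
    have := h (Ai i) ψ.toRingHom hψ
    have heq : ψ.toRingHom.comp (algebraMap R M) = algebraMap R (Ai i) := by
      rw [IsScalarTower.algebraMap_eq R K M, ← RingHom.comp_assoc]
      have : ψ.toRingHom.comp (algebraMap K M) = algebraMap K (Ai i) := ψ.comp_algebraMap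
      rw [this]
      rfl
    rw [heq] at this
    exact this
  choose C hC1 hC2 hC3 hC4 hC5 using key
  have := Fintype.ofFinite I
  refine ⟨∀ i, C i, inferInstance, inferInstance, inferInstance, inferInstance, ?_⟩
  exact ⟨((Algebra.TensorProduct.piRight R K K C).trans
    (AlgEquiv.piCongrRight fun i => (hC5 i).some)).trans e.symm⟩

end Groth.Agent.Sga1.AbhExt
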