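import Groth.Agent.Sga1.AbhExt

/-!
# Abhyankar's lemma over a DVR, algebra form
-/

set_option autoImplicit false

universe u

open IsLocalRing TensorProduct Groth.Agent.Sga1.AbhKum

namespace Groth.Agent.Sga1.AbhExt2

variable (R : Type u) [CommRing R] [IsDomain R] [IsDiscreteValuationRing R]
  (K : Type u) [Field K] [Algebra R K] [IsFractionRing R K]
  (M : Type u) [CommRing M] [Algebra K M] [Algebra.Etale K M] [Algebra R M] [IsScalarTower R K M]
  {ϖ : R} (hϖ : Irreducible ϖ) {n : ℕ} (hn : (n : R) ∉ maximalIdeal R)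
  (htame : ∀ (L : Type u) [Field L] (ψ : M →+* L), Function.Surjective ψ →
    TameDvd R (ψ.comp (algebraMap R M)) n)
  (R₂ : Type u) [CommRing R₂] [IsDomain R₂] [IsDiscreteValuationRing R₂] [Algebra R R₂]
  {t : R₂} (ht : maximalIdeal R₂ = Ideal.span {t}) (htn : t ^ n = algebraMap R R₂ ϖ)
  (hgen : Algebra.adjoin R {t} = ⊤)
  (K₂ : Type u) [Field K₂] [Algebra R₂ K₂] [IsFractionRing R₂ K₂] [Algebra K K₂] [Algebra R K₂]
  [IsScalarTower R R₂ K₂] [IsScalarTower R K K₂]

include htn hgen in
omit [IsDomain R] [IsDiscreteValuationRing R] [IsFractionRing R K] [IsDomain R₂]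
  [IsDiscreteValuationRing R₂] in
theorem adjoin_eq_top (hn0 : n ≠ 0) : Algebra.adjoin K {algebraMap R₂ K₂ t} = ⊤ := by
  set F := Algebra.adjoin K {algebraMap R₂ K₂ t} with hF
  have hint : IsIntegral K (algebraMap R₂ K₂ t) := by
    refine IsIntegral.of_pow (Nat.pos_of_ne_zero hn0) ?_
    rw [← map_pow, htn, ← IsScalarTower.algebraMap_apply, IsScalarTower.algebraMap_apply R K K₂]
    exact isIntegral_algebraMap
  have hR₂ : ∀ x : R₂, algebraMap R₂ K₂ x ∈ F := by
    intro x
    have hx : x ∈ Algebra.adjoin R {t} := by rw [hgen]; trivial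
    induction hx using Algebra.adjoin_induction with
    | mem x hx =>
      rw [Set.mem_singleton_iff] at hx
      rw [hx]
      exact Algebra.self_mem_adjoin_singleton K _
    | algebraMap r =>
      rw [← IsScalarTower.algebraMap_apply, IsScalarTower.algebraMap_apply R K K₂]
      exact F.algebraMap_mem _
    | add x y _ _ hx hy => rw [map_add]; exact F.add_mem hx hy
    | mul x y _ _ hx hy => rw [map_mul]; exact F.mul_mem hx hy
  have hfin : Module.Finite K F :=
    Algebra.finite_adjoin_of_finite_of_isIntegral (Set.finite_singleton _) (by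
      rintro x rfl; exact hint)
  have hinv : ∀ x ∈ F, x⁻¹ ∈ F := by
    intro x hx
    have halg : IsAlgebraic K x := by
      have h1 : IsIntegral K (⟨x, hx⟩ : F) := Algebra.IsIntegral.isIntegral _
      exact (h1.map F.val).isAlgebraic
    exact Subalgebra.inv_mem_of_algebraic F (x := ⟨x, hx⟩) halg
  rw [eq_top_iff]
  rintro x -
  obtain ⟨a, b, hb, rfl⟩ := IsFractionRing.div_surjective R₂ x
  rw [div_eq_mul_inv]
  exact F.mul_mem (hR₂ a) (hinv _ (hR₂ b))

include hϖ hn htame ht htn hgen in
theorem exists_extension_kummer :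
    ∃ (C : Type u) (_ : CommRing C) (_ : Algebra R₂ C), Module.Finite R₂ C ∧ Algebra.Etale R₂ C ∧
      Nonempty (K₂ ⊗[R₂] C ≃ₐ[K₂] K₂ ⊗[K] M) := by
  have hn0 : n ≠ 0 := by
    rintro rfl
    simp at hn
  refine AbhExt.exists_extension R₂ K₂ (K₂ ⊗[K] M) ?_
  intro N _ ψ hψ
  let i : M →+* K₂ ⊗[K] M := (Algebra.TensorProduct.includeRight : M →ₐ[K] K₂ ⊗[K] M).toRingHom
  let I : Ideal M := RingHom.ker (ψ.comp i)
  have hMfin : Module.Finite K M := Algebra.FormallyUnramified.finite_of_free K M
  have hIp : I.IsPrime := RingHom.ker_isPrime _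
  have hImax : I.IsMaximal := by
    have : IsArtinianRing M := isArtinian_of_tower K inferInstance
    exact Ideal.IsPrime.isMaximal' hIp
  let : Field (M ⧸ I) := Ideal.Quotient.field I
  let L := M ⧸ I
  have hfinL : Module.Finite K L := inferInstance
  have hunrL : Algebra.FormallyUnramified K L :=
    Algebra.FormallyUnramified.of_surjective (Ideal.Quotient.mkₐ K I) (Ideal.Quotient.mkₐ_surjective K I)
  have hsepL : Algebra.IsSeparable K L := Algebra.FormallyUnramified.isSeparable K L
  let : Algebra L N := (Ideal.Quotient.lift I (ψ.comp i) (fun a ha => ha)).toAlgebra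
  let : Algebra K₂ N := (ψ.comp (algebraMap K₂ (K₂ ⊗[K] M))).toAlgebra
  let : Algebra R₂ N := (ψ.comp (algebraMap R₂ (K₂ ⊗[K] M))).toAlgebra
  let : Algebra R N := ((algebraMap L N).comp (algebraMap R L)).toAlgebra
  have htw1 : IsScalarTower R L N := IsScalarTower.of_algebraMap_eq' rfl
  have htw2 : IsScalarTower R₂ K₂ N := by
    refine IsScalarTower.of_algebraMap_eq fun x => ?_
    change ψ (algebraMap R₂ (K₂ ⊗[K] M) x) = ψ (algebraMap K₂ (K₂ ⊗[K] M) (algebraMap R₂ K₂ x))
    rw [← IsScalarTower.algebraMap_apply]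
  have hKL : ∀ k : K, algebraMap L N (algebraMap K L k) = algebraMap K₂ N (algebraMap K K₂ k) := by
    intro k
    change ψ (i (algebraMap K M k)) = ψ (algebraMap K₂ (K₂ ⊗[K] M) (algebraMap K K₂ k))
    congr 1
    change (1 : K₂) ⊗ₜ[K] algebraMap K M k = (algebraMap K K₂ k) ⊗ₜ[K] (1 : M)
    rw [Algebra.algebraMap_eq_smul_one, Algebra.algebraMap_eq_smul_one, ← TensorProduct.smul_tmul]
  have htw4 : IsScalarTower R K L := inferInstance
  have htw3 : IsScalarTower R R₂ N := by
    refine IsScalarTower.of_algebraMap_eq fun x => ?_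
    rw [IsScalarTower.algebraMap_apply R L N, IsScalarTower.algebraMap_apply R K L, hKL,
      IsScalarTower.algebraMap_apply R₂ K₂ N, ← IsScalarTower.algebraMap_apply R K K₂,
      ← IsScalarTower.algebraMap_apply R R₂ K₂]
  have hfaith : FaithfulSMul R₂ N := by
    rw [faithfulSMul_iff_algebraMap_injective, IsScalarTower.algebraMap_eq R₂ K₂ N]
    exact (algebraMap K₂ N).injective.comp (IsFractionRing.injective R₂ K₂)
  have hK₂ := adjoin_eq_top R K R₂ htn hgen K₂ hn0
  have hgenN : Algebra.adjoin L {algebraMap R₂ N t} = ⊤ := by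
    rw [eq_top_iff]
    rintro x -
    obtain ⟨y, rfl⟩ := hψ x
    induction y using TensorProduct.induction_on with
    | zero => rw [map_zero]; exact Subalgebra.zero_mem _
    | add a b ha hb => rw [map_add]; exact Subalgebra.add_mem _ ha hb
    | tmul a m =>
      have h1 : a ⊗ₜ[K] m = algebraMap K₂ (K₂ ⊗[K] M) a * i m := by
        change a ⊗ₜ[K] m = (a ⊗ₜ[K] (1 : M)) * ((1 : K₂) ⊗ₜ[K] m)
        rw [Algebra.TensorProduct.tmul_mul_tmul, mul_one, one_mul]
      rw [h1, map_mul]
      refine Subalgebra.mul_mem _ ?_ ?_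
      · have ha : a ∈ Algebra.adjoin K {algebraMap R₂ K₂ t} := by rw [hK₂]; trivial
        change algebraMap K₂ N a ∈ _
        clear h1
        induction ha using Algebra.adjoin_induction with
        | mem x hx =>
          rw [Set.mem_singleton_iff] at hx
          rw [hx, ← IsScalarTower.algebraMap_apply]
          exact Algebra.self_mem_adjoin_singleton L _
        | algebraMap r => rw [← hKL]; exact Subalgebra.algebraMap_mem _ _
        | add x y _ _ hx hy => rw [map_add]; exact Subalgebra.add_mem _ hx hy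
        | mul x y _ _ hx hy => rw [map_mul]; exact Subalgebra.mul_mem _ hx hy
      · change algebraMap L N (Ideal.Quotient.mk I m) ∈ _
        exact Subalgebra.algebraMap_mem _ _
  have hL := htame L (Ideal.Quotient.mk I) Ideal.Quotient.mk_surjective
  exact AbhKum.isUnramifiedExt R K L R₂ ht hϖ hn htn N hgenN hL

end Groth.Agent.Sga1.AbhExt2
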