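import Mathlib.RingTheory.Unramified.LocalRing
import Mathlib.RingTheory.EssentialFiniteness
import Mathlib.Data.Nat.Choose.Sum

/-!
# The tame Kummer local computation

`W` local with principal maximal ideal `(π)`, `S = W[w, τ]` with `w` a unit, `w^e = u ∈ W`, `e`
invertible, `π = τ^m w⁻¹`. Then at a prime of `S` containing `τ` the maximal ideal of the local ring is
generated by `τ` and the residue field is formally unramified over `W`.
-/

set_option autoImplicit false

universe u

open IsLocalRing

namespace Groth.Agent.Sga1.AbhKumT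

variable {W : Type u} [CommRing W] {S : Type u} [CommRing S] [Algebra W S]
  {w τ : S} (hgen : Algebra.adjoin W {w, τ} = ⊤) {w' : S} (hw : w * w' = 1)
  {π : W} {m : ℕ} (hm : 1 ≤ m)
  (hπτ : algebraMap W S π = τ ^ m * w')
  {e : ℕ} (he : IsUnit (e : W)) {u : W} (hu : w ^ e = algebraMap W S u)
  (n₂ : Ideal S) [n₂.IsPrime] (hτ : τ ∈ n₂)
  (T : Type u) [CommRing T] [Algebra S T] [IsLocalization.AtPrime T n₂]
  [Algebra W T] [IsScalarTower W S T]

include he in
/-- two units congruent modulo a square zero ideal with the same `e`-th power are equal -/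
theorem eq_of_pow_eq {B : Type u} [CommRing B] [Algebra W B] (J : Ideal B) (hJ : J ^ 2 = ⊥)
    (a b : B) (hb : IsUnit b) (hab : a - b ∈ J) (h : a ^ e = b ^ e) : a = b := by
  obtain ⟨d, hd⟩ : ∃ d, d = a - b := ⟨_, rfl⟩
  have had : a = b + d := by rw [hd]; ring
  have hdd : d ^ 2 = 0 := by
    have : d ^ 2 ∈ J ^ 2 := Ideal.pow_mem_pow (hd ▸ hab) 2
    rwa [hJ] at this
  have heB : IsUnit (e : B) := by simpa using he.map (algebraMap W B)
  have hexp : ∀ k : ℕ, (b + d) ^ k = b ^ k + (k : B) * b ^ (k - 1) * d := by
    intro k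
    induction k with
    | zero => simp
    | succ k ih =>
      rw [pow_succ, ih]
      cases k with
      | zero => simp
      | succ k =>
        simp only [Nat.add_sub_cancel]
        push_cast
        have : d * d = 0 := by rw [← sq]; exact hdd
        linear_combination ((k : B) + 1) * b ^ k * this
  rw [had, hexp e] at h
  have h1 : (e : B) * b ^ (e - 1) * d = 0 := by linear_combination h
  have h2 : IsUnit ((e : B) * b ^ (e - 1)) := heB.mul (hb.pow _)
  have h3 : d = 0 := (h2.mul_right_eq_zero).mp h1
  rw [had, h3, add_zero]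

include hgen hw he hu n₂ in
theorem formallyUnramified_quot :
    Algebra.FormallyUnramified W (T ⧸ Ideal.span {algebraMap S T τ}) := by
  rw [Algebra.FormallyUnramified.iff_comp_injective]
  intro B _ _ J hJ f g hfg
  let q : T →ₐ[W] T ⧸ Ideal.span {algebraMap S T τ} := Ideal.Quotient.mkₐ W _
  let i : S →ₐ[W] T := IsScalarTower.toAlgHom W S T
  have hcong : ∀ x, f x - g x ∈ J := by
    intro x
    have := DFunLike.congr_fun hfg x
    simp only [AlgHom.comp_apply, Ideal.Quotient.mkₐ_eq_mk] at this
    exact (Ideal.Quotient.mk_eq_mk_iff_sub_mem _ _).mp this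
  have hw1 : f (q (i w)) = g (q (i w)) := by
    refine eq_of_pow_eq he J hJ _ _ ?_ (hcong _) ?_
    · refine IsUnit.of_mul_eq_one (g (q (i w'))) ?_
      rw [← map_mul, ← map_mul, ← map_mul, hw, map_one, map_one, map_one]
    · rw [← map_pow, ← map_pow, ← map_pow, ← map_pow, ← map_pow, ← map_pow, hu]
      have : q (i (algebraMap W S u)) = algebraMap W _ u := by
        rw [AlgHom.commutes, AlgHom.commutes]
      rw [this, AlgHom.commutes, AlgHom.commutes]
  have hτ1 : q (i τ) = 0 := by
    change Ideal.Quotient.mk _ (algebraMap S T τ) = 0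
    rw [Ideal.Quotient.eq_zero_iff_mem]
    exact Ideal.mem_span_singleton_self _
  have h1 : (f.comp q).comp i = (g.comp q).comp i := by
    refine AlgHom.ext_of_adjoin_eq_top hgen ?_
    rintro x (rfl | rfl)
    · exact hw1
    · change f (q (i _)) = g (q (i _))
      rw [hτ1, map_zero, map_zero]
  have h2 : f.comp q = g.comp q := by
    refine AlgHom.coe_ringHom_injective ?_
    refine IsLocalization.ringHom_ext n₂.primeCompl ?_
    exact congrArg (fun φ : S →ₐ[W] B => (φ : S →+* B)) h1
  refine AlgHom.ext fun x => ?_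
  obtain ⟨y, rfl⟩ := Ideal.Quotient.mk_surjective x
  exact DFunLike.congr_fun h2 y

variable [IsLocalRing W] (hπ : maximalIdeal W = Ideal.span {π}) [IsLocalRing T]
  [IsLocalHom (algebraMap W T)] [Algebra.EssFiniteType W T]

include hgen hw he hu hτ hπ hπτ hm in
theorem maximalIdeal_eq : maximalIdeal T = Ideal.span {algebraMap S T τ} := by
  have hfu := formallyUnramified_quot hgen hw he hu n₂ T
  have hle : Ideal.span {algebraMap S T τ} ≤ maximalIdeal T := by
    rw [Ideal.span_singleton_le_iff_mem]
    exact (IsLocalization.AtPrime.to_map_mem_maximal_iff T n₂ τ).mpr hτ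
  refine le_antisymm ?_ hle
  let A' := T ⧸ Ideal.span {algebraMap S T τ}
  have hne : Nontrivial A' := by
    rw [Ideal.Quotient.nontrivial_iff]
    exact ne_top_of_le_ne_top (maximalIdeal.isMaximal T).ne_top hle
  have hloc : IsLocalRing A' := IsLocalRing.of_surjective' (Ideal.Quotient.mk _) Ideal.Quotient.mk_surjective
  have hlh : IsLocalHom (Ideal.Quotient.mk (Ideal.span {algebraMap S T τ})) :=
    IsLocalHom.of_surjective _ Ideal.Quotient.mk_surjective
  have hlh' : IsLocalHom (algebraMap W A') := by
    have : algebraMap W A' = (Ideal.Quotient.mk (Ideal.span {algebraMap S T τ})).comp (algebraMap W T) := rfl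
    rw [this]
    exact RingHom.isLocalHom_comp _ _
  have hess : Algebra.EssFiniteType W A' := Algebra.EssFiniteType.comp W T A'
  have hmax := Algebra.FormallyUnramified.map_maximalIdeal (R := W) (S := A')
  have hzero : algebraMap W A' π = 0 := by
    have : algebraMap W A' π = Ideal.Quotient.mk _ (algebraMap S T (algebraMap W S π)) := by
      rw [← IsScalarTower.algebraMap_apply]; rfl
    rw [this, Ideal.Quotient.eq_zero_iff_mem, hπτ, map_mul, map_pow]
    refine Ideal.mul_mem_right _ _ ?_
    exact Ideal.pow_mem_of_mem _ (Ideal.mem_span_singleton_self _) m hm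
  rw [hπ, Ideal.map_span, Set.image_singleton, hzero, Ideal.span_singleton_zero] at hmax
  intro x hx
  have hx' : Ideal.Quotient.mk (Ideal.span {algebraMap S T τ}) x ∈ maximalIdeal A' := by
    rw [mem_maximalIdeal] at hx ⊢
    exact fun h => hx (isUnit_of_map_unit _ _ h)
  rw [← hmax] at hx'
  exact Ideal.Quotient.eq_zero_iff_mem.mp hx'

include hgen hw he hu hτ hπ hπτ hm in
theorem formallyUnramified_residueField : Algebra.FormallyUnramified W (ResidueField T) := by
  have hfu := formallyUnramified_quot hgen hw he hu n₂ T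
  rw [← maximalIdeal_eq hgen hw hm hπτ he hu n₂ hτ T hπ] at hfu
  exact hfu

end Groth.Agent.Sga1.AbhKumT
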