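import Groth.Agent.Sga1.AbhVal2
import Groth.Agent.Sga1.AbhKumT

/-!
# Adjoining an `n`-th root of a uniformizer eliminates tame ramification
-/

set_option autoImplicit false

universe u

open IsLocalRing IsDedekindDomain Groth.Agent.Sga1.AbhVal2 Groth.Agent.Sga1.AbhKumT

namespace Groth.Agent.Sga1.AbhKum

theorem inv_mem {N : Type u} [Field N] (V : ValuationSubring N) (x : N) (hx : x ∈ V)
    (hx' : ¬ V.valuation x < 1) : x⁻¹ ∈ V := by
  have h1 : V.valuation x = 1 := le_antisymm ((V.valuation_le_one_iff x).mpr hx) (not_lt.mp hx')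
  rw [← V.valuation_le_one_iff, map_inv₀, h1, inv_one]

section loc
variable {N : Type u} [Field N] (S : Type u) [CommRing S] [IsDomain S] [Algebra S N]
  [IsFractionRing S N] (V : ValuationSubring N) (hS : ∀ s, algebraMap S N s ∈ V)
  (n : Ideal S) [n.IsPrime] (hn : ∀ s, s ∈ n ↔ V.valuation (algebraMap S N s) < 1)
  [IsDiscreteValuationRing (Localization.AtPrime n)]

include hn hS in
/-- If the localization of `S` at the centre of `V` is a DVR then it is `V`. -/
theorem exists_of_mem (x : N) (hx : x ∈ V) :
    ∃ a s : S, s ∉ n ∧ x = algebraMap S N a * (algebraMap S N s)⁻¹ := by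
  let A₀ : Subalgebra S N := Localization.subalgebra.ofField N n.primeCompl n.primeCompl_le_nonZeroDivisors
  have hloc : IsLocalization n.primeCompl A₀ := Localization.subalgebra.isLocalization_ofField N _ _
  let e : Localization.AtPrime n ≃ₐ[S] A₀ := IsLocalization.algEquiv n.primeCompl _ _
  have hdvr : IsDiscreteValuationRing A₀ := IsDiscreteValuationRing.RingEquivClass.isDiscreteValuationRing e
  have hfr : IsFractionRing A₀ N := Localization.subalgebra.isFractionRing_ofField N _ _
  let V₃ : ValuationSubring N := ValuationSubring.ofSubring A₀.toSubring (fun x => by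
    have := ValuationRing.isInteger_or_isInteger A₀ x
    simpa [IsLocalization.IsInteger] using this)
  have hdvr3 : IsDiscreteValuationRing V₃ := hdvr
  have hK : Ring.KrullDimLE 1 V₃ := by
    exact Ring.KrullDimLE.mk₁' (fun _ a _ ↦ Ideal.IsPrime.isMaximal inferInstance a)
  have hmem : ∀ y : N, y ∈ V₃ ↔ ∃ (a s : S) (_ : s ∈ n.primeCompl),
      y = algebraMap S N a * (algebraMap S N s)⁻¹ := fun y => Iff.rfl
  have hle : V₃ ≤ V := by
    intro y hy
    obtain ⟨a, s, hs, rfl⟩ := (hmem y).mp hy
    exact V.mul_mem _ _ (hS a) (inv_mem V _ (hS s) fun h => hs ((hn s).mpr h))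
  have hne : V ≠ ⊤ := by
    have h0 : n ≠ ⊥ := by
      rintro rfl
      have := IsDiscreteValuationRing.not_isField (Localization.AtPrime (⊥ : Ideal S))
      apply this
      have h2 : IsFractionRing S (Localization.AtPrime (⊥ : Ideal S)) := by
        simpa [Ideal.primeCompl_bot] using
          Localization.isLocalization (M := (⊥ : Ideal S).primeCompl)
      let : Field (Localization.AtPrime (⊥ : Ideal S)) := IsFractionRing.toField S
      exact Field.toIsField _
    obtain ⟨c, hc, hc0⟩ := Submodule.exists_mem_ne_zero_of_ne_bot h0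
    intro htop
    have h1 : algebraMap S N c ≠ 0 := by simpa using hc0
    have h2 : (algebraMap S N c)⁻¹ ∈ V := by rw [htop]; trivial
    have h3 := V.valuation_le_one ⟨_, h2⟩
    have h4 : V.valuation (algebraMap S N c) * V.valuation (algebraMap S N c)⁻¹ = 1 := by
      rw [← map_mul, mul_inv_cancel₀ h1, map_one]
    have h5 : V.valuation (algebraMap S N c) * V.valuation (algebraMap S N c)⁻¹ < 1 :=
      mul_lt_one_of_lt_of_le ((hn c).mp hc) h3
    exact absurd h4 h5.ne
  have heq := ValuationSubring.eq_of_le_of_ne_top _ hle hne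
  rw [← heq] at hx
  obtain ⟨a, s, hs, h⟩ := (hmem x).mp hx
  exact ⟨a, s, hs, h⟩

include hn hS in
theorem isLocalization (alg : Algebra S V) (halg : ∀ s, ((algebraMap S V s : V) : N) = algebraMap S N s) :
    IsLocalization.AtPrime V n := by
  refine (isLocalization_iff _ _).mpr ⟨?_, ?_, ?_⟩
  · rintro ⟨s, hs⟩
    have hs' : (algebraMap S N s)⁻¹ ∈ V := inv_mem V _ (hS s) fun h => hs ((hn s).mpr h)
    have h0 : algebraMap S N s ≠ 0 := by
      intro h0
      apply hs
      apply (hn s).mpr
      rw [h0, map_zero]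
      exact zero_lt_one
    refine IsUnit.of_mul_eq_one ⟨_, hs'⟩ (Subtype.ext ?_)
    change ((algebraMap S V s : V) : N) * (algebraMap S N s)⁻¹ = 1
    rw [halg, mul_inv_cancel₀ h0]
  · intro x
    obtain ⟨a, s, hs, h⟩ := exists_of_mem S V hS n hn x.1 x.2
    refine ⟨(a, ⟨s, hs⟩), Subtype.ext ?_⟩
    have h0 : algebraMap S N s ≠ 0 := by
      intro h0
      apply hs
      apply (hn s).mpr
      rw [h0, map_zero]
      exact zero_lt_one
    change (x : N) * ((algebraMap S V s : V) : N) = ((algebraMap S V a : V) : N)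
    rw [halg, halg, h, mul_assoc, inv_mul_cancel₀ h0, mul_one]
  · intro a b hab
    refine ⟨1, ?_⟩
    have : algebraMap S N a = algebraMap S N b := by
      rw [← halg, ← halg, hab]
    rw [IsFractionRing.injective S N this]

end loc

theorem val_lt_one_iff {N : Type u} [Field N] (V : ValuationSubring N) (x : N) :
    V.valuation x < 1 ↔ x = 0 ∨ x⁻¹ ∉ V := by
  by_cases hx : x = 0
  · simp [hx]
  · rw [← V.valuation_le_one_iff, map_inv₀]
    have h0 : V.valuation x ≠ 0 := (map_ne_zero _).mpr hx
    have h1 : 0 < V.valuation x := zero_lt_iff.mpr h0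
    simp only [hx, false_or, not_le]
    exact (one_lt_inv₀ h1).symm

theorem comap_val_lt_one_iff {L N : Type u} [Field L] [Field N] (g : L →+* N)
    (V : ValuationSubring N) (x : L) :
    (V.comap g).valuation x < 1 ↔ V.valuation (g x) < 1 := by
  rw [val_lt_one_iff, val_lt_one_iff, map_eq_zero, ValuationSubring.mem_comap, map_inv₀]

/-- tameness with ramification indices dividing `n` -/
def TameDvd (R : Type u) [CommRing R] [IsLocalRing R] {L : Type u} [Field L] (g : R →+* L) (n : ℕ) :
    Prop :=
  ∀ (V : ValuationSubring L) (h : EtRam.Dominates R g V),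
    letI : Algebra R V := (RingHom.codRestrict g V h.1).toAlgebra
    ∀ [IsLocalHom (algebraMap R V)],
      Algebra.IsSeparable (ResidueField R) (ResidueField V) ∧
      Ideal.ramificationIdx' (maximalIdeal R) (maximalIdeal V) ∣ n

section core

variable (R : Type u) [CommRing R] [IsDomain R] [IsDiscreteValuationRing R]
  (K : Type u) [Field K] [Algebra R K] [IsFractionRing R K]
  (L : Type u) [Field L] [Algebra K L] [FiniteDimensional K L] [Algebra.IsSeparable K L]
  [Algebra R L] [IsScalarTower R K L]
  (R₂ : Type u) [CommRing R₂] [IsDomain R₂] [IsDiscreteValuationRing R₂] [Algebra R R₂]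
  {t : R₂} (ht : maximalIdeal R₂ = Ideal.span {t})
  {ϖ : R} (hϖ : Irreducible ϖ) {n : ℕ} (hn : (n : R) ∉ maximalIdeal R)
  (htn : t ^ n = algebraMap R R₂ ϖ)
  (N : Type u) [Field N] [Algebra L N] [Algebra R₂ N] [Algebra R N] [IsScalarTower R L N]
  [IsScalarTower R R₂ N] [FaithfulSMul R₂ N]
  (hgen : Algebra.adjoin L {algebraMap R₂ N t} = ⊤)

include K ht hϖ hn htn hgen in
/-- **Abhyankar's lemma for a root of a uniformizer.** -/
theorem isUnramifiedExt (htame : TameDvd R (algebraMap R L) n) :
    EtRam.IsUnramifiedExt R₂ (algebraMap R₂ N) := by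
  intro V₂ h₂
  have hn0 : n ≠ 0 := by
    rintro rfl
    simp at hn
  -- the trace of `V₂` on `L`
  let W : ValuationSubring L := V₂.comap (algebraMap L N)
  have hW : EtRam.Dominates R (algebraMap R L) W := by
    have h1 : ∀ a : R, algebraMap L N (algebraMap R L a) = algebraMap R₂ N (algebraMap R R₂ a) := by
      intro a
      rw [← IsScalarTower.algebraMap_apply, ← IsScalarTower.algebraMap_apply]
    refine ⟨fun a => ?_, fun a ha => ?_⟩
    · rw [ValuationSubring.mem_comap, h1]
      exact h₂.1 _
    · rw [comap_val_lt_one_iff, h1]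
      refine h₂.2 _ ?_
      rw [hϖ.maximalIdeal_eq, Ideal.mem_span_singleton] at ha
      obtain ⟨c, rfl⟩ := ha
      rw [map_mul, ← htn, ht]
      refine Ideal.mul_mem_right _ _ ?_
      exact Ideal.pow_mem_of_mem _ (Ideal.mem_span_singleton_self _) n (Nat.pos_of_ne_zero hn0)
  let algW : Algebra R W := (RingHom.codRestrict (algebraMap R L) W hW.1).toAlgebra
  have hlhW : IsLocalHom (algebraMap R W) := isLocalHom_of_dominates (algebraMap R L) W hW
  obtain ⟨hsepW, hdvd⟩ := htame W hW
  have hdvr : IsDiscreteValuationRing W := isDiscreteValuationRing_of_dominates R K L W hW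
  have hessW : Algebra.EssFiniteType R W := essFiniteType_of_dominates R K L W hW
  have htRWL : IsScalarTower R W L := IsScalarTower.of_algebraMap_eq' rfl
  have hinjRL : Function.Injective (algebraMap R L) := by
    rw [IsScalarTower.algebraMap_eq R K L]
    exact (algebraMap K L).injective.comp (IsFractionRing.injective R K)
  have hinj : Function.Injective (algebraMap R W) := by
    rw [IsScalarTower.algebraMap_eq R W L, RingHom.coe_comp] at hinjRL
    exact Function.Injective.of_comp hinjRL
  obtain ⟨π, hπ⟩ := IsDiscreteValuationRing.exists_irreducible W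
  obtain ⟨⟨u, hu⟩, he1⟩ := exists_unit_mul_pow hinj hϖ hπ
  set e := Ideal.ramificationIdx' (maximalIdeal R) (maximalIdeal W) with he
  obtain ⟨m, hm⟩ := hdvd
  have hm1 : 1 ≤ m := by
    rcases Nat.eq_zero_or_pos m with h | h
    · subst h; simp at hm; exact absurd hm hn0
    · exact h
  have heR : IsUnit ((e : ℕ) : R) := by
    by_contra hcon
    apply hn
    rw [hm, Nat.cast_mul]
    exact Ideal.mul_mem_right _ _ ((mem_maximalIdeal _).mpr hcon)
  have heW : IsUnit ((e : ℕ) : W) := by
    have := heR.map (algebraMap R W)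
    rwa [map_natCast] at this
  let algWN : Algebra W N := ((algebraMap L N).comp (algebraMap W L)).toAlgebra
  have htWLN : IsScalarTower W L N := IsScalarTower.of_algebraMap_eq' rfl
  have hinjWN : Function.Injective (algebraMap W N) :=
    (algebraMap L N).injective.comp (IsFractionRing.injective W L)
  have hWV : ∀ a : W, algebraMap W N a ∈ V₂ := fun a => a.2
  obtain ⟨τ, hτdef⟩ : ∃ τ : N, τ = algebraMap R₂ N t := ⟨_, rfl⟩
  obtain ⟨p, hpdef⟩ : ∃ p : N, p = algebraMap W N π := ⟨_, rfl⟩
  have hp0 : p ≠ 0 := by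
    rw [hpdef]; exact (map_ne_zero_iff _ hinjWN).mpr hπ.ne_zero
  have ht0 : t ≠ 0 := by
    rintro rfl
    rw [Ideal.span_singleton_zero] at ht
    exact IsDiscreteValuationRing.not_a_field R₂ ht
  have hτ0 : τ ≠ 0 := by
    rw [hτdef]
    exact (map_ne_zero_iff _ (FaithfulSMul.algebraMap_injective R₂ N)).mpr ht0
  obtain ⟨w, hwdef⟩ : ∃ w : N, w = τ ^ m / p := ⟨_, rfl⟩
  have hw0 : w ≠ 0 := by rw [hwdef]; exact div_ne_zero (pow_ne_zero _ hτ0) hp0
  have hpw : p * w = τ ^ m := by rw [hwdef]; field_simp
  have hτn : τ ^ n = algebraMap W N u * p ^ e := by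
    rw [hτdef, ← map_pow, htn, ← IsScalarTower.algebraMap_apply, hpdef, ← map_pow, ← map_mul, ← hu]
    rw [IsScalarTower.algebraMap_apply R L N, IsScalarTower.algebraMap_apply R W L]
    rfl
  have hwe : w ^ e = algebraMap W N u := by
    have h1 : p ^ e * w ^ e = p ^ e * algebraMap W N u := by
      rw [← mul_pow, hpw, ← pow_mul, mul_comm m e, ← hm, hτn, mul_comm]
    exact mul_left_cancel₀ (pow_ne_zero _ hp0) h1
  have hwinv : w⁻¹ = w ^ (e - 1) * algebraMap W N ((u⁻¹ : Wˣ) : W) := by
    have h1 : w * (w ^ (e - 1) * algebraMap W N ((u⁻¹ : Wˣ) : W)) = 1 := by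
      rw [← mul_assoc, ← pow_succ', Nat.sub_add_cancel he1, hwe, ← map_mul, Units.mul_inv, map_one]
    exact inv_eq_of_mul_eq_one_right h1
  let S : Subalgebra W N := Algebra.adjoin W {w, τ}
  have hwS : w ∈ S := Algebra.subset_adjoin (by simp)
  have hτS : τ ∈ S := Algebra.subset_adjoin (by simp)
  have hw'S : w⁻¹ ∈ S := by
    rw [hwinv]
    exact S.mul_mem (S.pow_mem hwS _) (S.algebraMap_mem _)
  have hintw : IsIntegral W w := IsIntegral.of_pow he1 (by rw [hwe]; exact isIntegral_algebraMap)
  have hintτ : IsIntegral W τ := IsIntegral.of_pow hm1 (by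
    rw [← hpw, hpdef]; exact isIntegral_algebraMap.mul hintw)
  have hfinS : Module.Finite W S := by
    refine Algebra.finite_adjoin_of_finite_of_isIntegral (Set.toFinite _) ?_
    rintro x (rfl | rfl)
    · exact hintw
    · exact hintτ
  have hnoethS : IsNoetherianRing S := IsNoetherianRing.of_finite W S
  have hfracS : IsFractionRing S N := by
    refine IsFractionRing.of_field S N fun z => ?_
    have hz : z ∈ Algebra.adjoin L {algebraMap R₂ N t} := by rw [hgen]; trivial
    have key : ∃ x y : S, (y : N) ≠ 0 ∧ z = (x : N) / (y : N) := by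
      induction hz using Algebra.adjoin_induction with
      | mem x hx =>
        rw [Set.mem_singleton_iff] at hx
        exact ⟨⟨τ, hτS⟩, 1, one_ne_zero, hx.trans (hτdef.symm.trans (div_one τ).symm)⟩
      | algebraMap l =>
        obtain ⟨a, b, hb, rfl⟩ := IsFractionRing.div_surjective W l
        refine ⟨algebraMap W S a, algebraMap W S b, ?_, ?_⟩
        · exact (map_ne_zero_iff _ hinjWN).mpr (nonZeroDivisors.ne_zero hb)
        · rw [map_div₀]; rfl
      | add x y _ _ hx hy =>
        obtain ⟨a, b, hb, rfl⟩ := hx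
        obtain ⟨c, d, hd, rfl⟩ := hy
        refine ⟨a * d + b * c, b * d, mul_ne_zero hb hd, ?_⟩
        push_cast
        field_simp
      | mul x y _ _ hx hy =>
        obtain ⟨a, b, hb, rfl⟩ := hx
        obtain ⟨c, d, hd, rfl⟩ := hy
        refine ⟨a * c, b * d, mul_ne_zero hb hd, ?_⟩
        push_cast
        field_simp
    obtain ⟨x, y, -, h⟩ := key
    exact ⟨x, y, h⟩
  have hSV : ∀ s : S, algebraMap S N s ∈ V₂ := by
    intro s
    have hle : S ≤ { V₂.toSubring with algebraMap_mem' := hWV } := by
      refine Algebra.adjoin_le ?_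
      rintro x (rfl | rfl)
      · change _ ∈ V₂
        rw [← V₂.valuation_le_one_iff]
        by_contra hcon
        have h1 : 1 < V₂.valuation x ^ e := one_lt_pow₀ (not_le.mp hcon) (by omega)
        rw [← map_pow, hwe] at h1
        exact absurd ((V₂.valuation_le_one_iff _).mpr (hWV u)) (not_le.mpr h1)
      · change _ ∈ V₂
        rw [hτdef]
        exact h₂.1 t
    exact hle s.2
  let g : S →+* V₂ := (algebraMap S N).codRestrict V₂.toSubring hSV
  let n₂ : Ideal S := (maximalIdeal V₂).comap g
  have hn₂ : ∀ s : S, s ∈ n₂ ↔ V₂.valuation (algebraMap S N s) < 1 := fun s =>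
    ValuationSubring.valuation_lt_one_iff V₂ (g s)
  let wS : S := ⟨w, hwS⟩
  let τ' : S := ⟨τ, hτS⟩
  let w'S : S := ⟨w⁻¹, hw'S⟩
  have hgenS : Algebra.adjoin W {wS, τ'} = ⊤ := by
    rw [← Algebra.adjoin_adjoin_coe_preimage]
    congr 1
    ext x
    simp only [Set.mem_insert_iff, Set.mem_singleton_iff, Set.mem_preimage]
    constructor
    · rintro (rfl | rfl)
      · exact Or.inl rfl
      · exact Or.inr rfl
    · rintro (h | h)
      · exact Or.inl (Subtype.ext h)
      · exact Or.inr (Subtype.ext h)
  have hww' : wS * w'S = 1 := Subtype.ext (mul_inv_cancel₀ hw0)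
  have hπτ : algebraMap W S π = τ' ^ m * w'S := by
    refine Subtype.ext ?_
    change algebraMap W N π = τ ^ m * w⁻¹
    rw [← hpdef, ← hpw, mul_assoc, mul_inv_cancel₀ hw0, mul_one]
  have hwSe : wS ^ e = algebraMap W S (u : W) := Subtype.ext hwe
  have hτn₂ : τ' ∈ n₂ := by
    rw [hn₂]
    change V₂.valuation τ < 1
    rw [hτdef]
    exact h₂.2 t (by rw [ht]; exact Ideal.mem_span_singleton_self t)
  have hπmax : maximalIdeal W = Ideal.span {π} := hπ.maximalIdeal_eq
  have hmW : ∀ a ∈ maximalIdeal W, algebraMap W S a ∈ n₂ := by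
    intro a ha
    rw [hπmax, Ideal.mem_span_singleton] at ha
    obtain ⟨c, rfl⟩ := ha
    rw [map_mul, hπτ]
    exact Ideal.mul_mem_right _ _ (Ideal.mul_mem_right _ _ (Ideal.pow_mem_of_mem _ hτn₂ m hm1))
  -- the localization of `S` at `n₂` is a DVR
  have hdvrT : IsDiscreteValuationRing (Localization.AtPrime n₂) := by
    let T := Localization.AtPrime n₂
    have hlhT : IsLocalHom (algebraMap W T) := by
      refine ⟨fun a ha => ?_⟩
      by_contra hna
      have h1 := hmW a ((mem_maximalIdeal _).mpr hna)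
      have h3 : algebraMap S T (algebraMap W S a) ∈ maximalIdeal T :=
        (IsLocalization.AtPrime.to_map_mem_maximal_iff T n₂ _).mpr h1
      rw [← IsScalarTower.algebraMap_apply] at h3
      exact (mem_maximalIdeal _).mp h3 ha
    have hess : Algebra.EssFiniteType S T := Algebra.EssFiniteType.of_isLocalization T n₂.primeCompl
    have hess' : Algebra.EssFiniteType W T := Algebra.EssFiniteType.comp W S T
    have hmax := maximalIdeal_eq hgenS hww' hm1 hπτ heW hwSe n₂ hτn₂ T hπmax
    have hnf : ¬ IsField T := by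
      intro hf
      have h1 := (IsLocalRing.isField_iff_maximalIdeal_eq.mp hf)
      rw [hmax, Ideal.span_singleton_eq_bot] at h1
      have h3 : τ' = 0 := by
        have hi : Function.Injective (algebraMap S T) :=
          IsLocalization.injective T n₂.primeCompl_le_nonZeroDivisors
        exact (map_eq_zero_iff _ hi).mp h1
      exact hτ0 (congrArg Subtype.val h3)
    refine ((IsDiscreteValuationRing.TFAE T hnf).out 4 0).mp ?_
    rw [hmax]
    exact ⟨⟨_, rfl⟩⟩
  -- hence it is `V₂`
  let algSV : Algebra S V₂ := g.toAlgebra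
  have hlocV : IsLocalization.AtPrime V₂ n₂ := isLocalization S V₂ hSV n₂ hn₂ algSV (fun _ => rfl)
  let algWV : Algebra W V₂ := ((algebraMap S V₂).comp (algebraMap W S)).toAlgebra
  have htWSV : IsScalarTower W S V₂ := IsScalarTower.of_algebraMap_eq' rfl
  have hlhV : IsLocalHom (algebraMap W V₂) := by
    refine ⟨fun a ha => ?_⟩
    by_contra hna
    have h1 : g (algebraMap W S a) ∈ maximalIdeal V₂ := hmW a ((mem_maximalIdeal _).mpr hna)
    exact (mem_maximalIdeal _).mp h1 ha
  have hessSV : Algebra.EssFiniteType S V₂ := Algebra.EssFiniteType.of_isLocalization V₂ n₂.primeCompl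
  have hessWV : Algebra.EssFiniteType W V₂ := Algebra.EssFiniteType.comp W S V₂
  have hmaxV := maximalIdeal_eq hgenS hww' hm1 hπτ heW hwSe n₂ hτn₂ V₂ hπmax
  have hfuV := formallyUnramified_residueField hgenS hww' hm1 hπτ heW hwSe n₂ hτn₂ V₂ hπmax
  have hsepV : Algebra.IsSeparable (ResidueField W) (ResidueField V₂) := by
    have h1 : Algebra.FormallyUnramified (ResidueField W) (ResidueField V₂) :=
      Algebra.FormallyUnramified.of_restrictScalars W _ _
    have h3 : Algebra.EssFiniteType W (ResidueField V₂) := Algebra.EssFiniteType.comp W V₂ _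
    have h4 : Algebra.EssFiniteType (ResidueField W) (ResidueField V₂) :=
      Algebra.EssFiniteType.of_comp W _ _
    exact Algebra.FormallyUnramified.isSeparable _ _
  let algRV : Algebra R₂ V₂ := (RingHom.codRestrict (algebraMap R₂ N) V₂ h₂.1).toAlgebra
  intro hlhRV₀
  have hlhRV : IsLocalHom (algebraMap R₂ V₂) := hlhRV₀
  change EtRam.IsWeaklyUnramified R₂ V₂ ∧ Algebra.IsSeparable (ResidueField R₂) (ResidueField V₂)
  constructor
  · change (maximalIdeal R₂).map (algebraMap R₂ V₂) = maximalIdeal V₂
    rw [ht, Ideal.map_span, Set.image_singleton, hmaxV]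
    congr 2
    exact Subtype.ext hτdef.symm
  · let algRV' : Algebra R V₂ := ((algebraMap W V₂).comp (algebraMap R W)).toAlgebra
    have ht1 : IsScalarTower R W V₂ := IsScalarTower.of_algebraMap_eq' rfl
    have ht2 : IsScalarTower R R₂ V₂ := by
      refine IsScalarTower.of_algebraMap_eq fun a => Subtype.ext ?_
      change algebraMap L N (algebraMap R L a) = algebraMap R₂ N (algebraMap R R₂ a)
      rw [← IsScalarTower.algebraMap_apply, ← IsScalarTower.algebraMap_apply]
    have hlh1 : IsLocalHom (algebraMap R V₂) := RingHom.isLocalHom_comp _ _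
    have hlh2 : IsLocalHom (algebraMap R R₂) := by
      refine ⟨fun a ha => ?_⟩
      have h1 : IsUnit (algebraMap R₂ V₂ (algebraMap R R₂ a)) := ha.map _
      rw [← IsScalarTower.algebraMap_apply] at h1
      exact isUnit_of_map_unit _ _ h1
    have h3 : Algebra.IsSeparable (ResidueField R) (ResidueField V₂) :=
      Algebra.IsSeparable.trans (ResidueField R) (ResidueField W) (ResidueField V₂)
    exact Algebra.isSeparable_tower_top_of_isSeparable (ResidueField R) (ResidueField R₂)
      (ResidueField V₂)

end core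

end Groth.Agent.Sga1.AbhKum
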