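import Groth.Agent.Sga1.AbhKum
import Groth.Agent.Sga1.AbhDefs
import Mathlib.RingTheory.Localization.FractionRing

/-!
# From `SGA1.IsTameAlong` to tameness of the residue fields of the generic fibre
-/

set_option autoImplicit false

universe u

open IsLocalRing TensorProduct Groth.Agent.Sga1.AbhKum Groth.Agent.Sga1.AbhDefs

namespace Groth.Agent.Sga1.AbhTame

theorem TameDvd.of_equiv {R : Type u} [CommRing R] [IsLocalRing R] {L₁ L₂ : Type u} [Field L₁] [Field L₂]
    (g : R →+* L₁) (e : L₁ ≃+* L₂) {n : ℕ} (h : TameDvd R g n) :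
    TameDvd R ((e : L₁ →+* L₂).comp g) n := by
  intro V hV
  let V₁ : ValuationSubring L₁ := V.comap (e : L₁ →+* L₂)
  have hV₁ : EtRam.Dominates R g V₁ := by
    refine ⟨fun a => hV.1 a, fun a ha => ?_⟩
    rw [comap_val_lt_one_iff]
    exact hV.2 a ha
  let E : V₁ ≃+* V :=
    { toFun := fun x => ⟨e x.1, x.2⟩
      invFun := fun x => ⟨e.symm x.1, by
        change e (e.symm x.1) ∈ V
        rw [e.apply_symm_apply]
        exact x.2⟩
      left_inv := fun x => Subtype.ext (e.symm_apply_apply x.1)
      right_inv := fun x => Subtype.ext (e.apply_symm_apply x.1)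
      map_mul' := fun x y => Subtype.ext (map_mul e x.1 y.1)
      map_add' := fun x y => Subtype.ext (map_add e x.1 y.1) }
  let alg₁ : Algebra R V₁ := (RingHom.codRestrict g V₁ hV₁.1).toAlgebra
  let alg₂ : Algebra R V := (RingHom.codRestrict ((e : L₁ →+* L₂).comp g) V hV.1).toAlgebra
  let E' : V₁ ≃ₐ[R] V := AlgEquiv.ofRingEquiv (f := E) (fun r => Subtype.ext rfl)
  intro hlh₂'
  have hlh₂ : IsLocalHom (algebraMap R V) := hlh₂'
  have hlh₁ : IsLocalHom (algebraMap R V₁) := AbhVal2.isLocalHom_of_dominates g V₁ hV₁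
  obtain ⟨hs, hd⟩ := h V₁ hV₁
  have hmap : (maximalIdeal V₁).map E' = maximalIdeal V := by
    have := map_ringEquiv_maximalIdeal E
    exact this
  constructor
  · let ER := IsLocalRing.ResidueField.mapEquiv E
    have h1 : ∀ x : ResidueField R, ER (algebraMap (ResidueField R) (ResidueField V₁) x) =
        algebraMap (ResidueField R) (ResidueField V) x := by
      intro x
      obtain ⟨x, rfl⟩ := residue_surjective x
      rfl
    let ER' : ResidueField V₁ ≃ₐ[ResidueField R] ResidueField V := AlgEquiv.ofRingEquiv (f := ER) h1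
    exact AlgEquiv.Algebra.isSeparable ER'
  · have : Ideal.ramificationIdx' (maximalIdeal R) (maximalIdeal V) =
        Ideal.ramificationIdx' (maximalIdeal R) (maximalIdeal V₁) := by
      rw [← hmap, Ideal.ramificationIdx'_map_eq]
    change Ideal.ramificationIdx' (maximalIdeal R) (maximalIdeal V) ∣ n
    rw [this]
    exact hd

section

variable {A : Type u} [CommRing A] [IsDomain A] {r : ℕ} (f : Fin r → A)
  [∀ i, (Ideal.span {f i}).IsPrime] (i : Fin r)
  {B : Type u} [CommRing B] [Algebra A B]
  (K : Type u) [Field K] [Algebra A K] [IsFractionRing A K]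
  [Algebra (Localization.AtPrime (Ideal.span {f i})) K]
  [IsScalarTower A (Localization.AtPrime (Ideal.span {f i})) K]

include K in
theorem tameDvd (htame : SGA1.IsTameAlong f (algebraMap A B)) {n : ℕ}
    (hd : ForallRam f (algebraMap A B) i (· ∣ n)) (L : Type u) [Field L] (ψ : K ⊗[A] B →+* L)
    (hψ : Function.Surjective ψ) :
    TameDvd (Localization.AtPrime (Ideal.span {f i}))
      (ψ.comp (algebraMap (Localization.AtPrime (Ideal.span {f i})) (K ⊗[A] B))) n := by
  let R := Localization.AtPrime (Ideal.span {f i})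
  let j : B →+* K ⊗[A] B := (Algebra.TensorProduct.includeRight : B →ₐ[A] K ⊗[A] B).toRingHom
  let q : Ideal B := RingHom.ker (ψ.comp j)
  have hqp : q.IsPrime := RingHom.ker_isPrime _
  have hjA : ∀ a : A, j (algebraMap A B a) = algebraMap K (K ⊗[A] B) (algebraMap A K a) := by
    intro a
    change (1 : K) ⊗ₜ[A] algebraMap A B a = (algebraMap A K a) ⊗ₜ[A] (1 : B)
    rw [Algebra.algebraMap_eq_smul_one, Algebra.algebraMap_eq_smul_one, ← TensorProduct.smul_tmul]
  have hq : Ideal.comap (algebraMap A B) q = ⊥ := by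
    rw [eq_bot_iff]
    intro a ha
    have h1 : ψ (j (algebraMap A B a)) = 0 := ha
    rw [hjA] at h1
    have h2 : algebraMap A K a = 0 := by
      by_contra hne
      have h3 := (IsUnit.mk0 _ hne).map (ψ.comp (algebraMap K (K ⊗[A] B)))
      rw [RingHom.comp_apply, h1] at h3
      exact not_isUnit_zero h3
    exact (map_eq_zero_iff _ (IsFractionRing.injective A K)).mp h2
  let e₀ : q.ResidueField →+* L := Ideal.ResidueField.lift q (ψ.comp j) le_rfl (by
    intro x hx
    change IsUnit _
    rw [isUnit_iff_ne_zero]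
    exact hx)
  have he₀ : ∀ b : B, e₀ (algebraMap B q.ResidueField b) = ψ (j b) := fun b =>
    Ideal.ResidueField.lift_algebraMap q (ψ.comp j) _ _ b
  have hsurj : Function.Surjective e₀ := by
    intro l
    obtain ⟨x, rfl⟩ := hψ l
    suffices h : ∀ x : K ⊗[A] B, ψ x ∈ e₀.range from h x
    intro x
    induction x using TensorProduct.induction_on with
    | zero => rw [map_zero]; exact Subring.zero_mem _
    | add a b ha hb => rw [map_add]; exact Subring.add_mem _ ha hb
    | tmul k b =>
      obtain ⟨a, s, hs, rfl⟩ := IsFractionRing.div_surjective A k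
      have hs0 : algebraMap A K s ≠ 0 := by
        simpa using nonZeroDivisors.ne_zero hs
      have h1 : (algebraMap A K s ⊗ₜ[A] (1 : B)) * ((algebraMap A K a / algebraMap A K s) ⊗ₜ[A] b) =
          (algebraMap A K a) ⊗ₜ[A] b := by
        rw [Algebra.TensorProduct.tmul_mul_tmul, one_mul, mul_div_cancel₀ _ hs0]
      have h2 : ψ (algebraMap A K s ⊗ₜ[A] (1 : B)) = e₀ (algebraMap B _ (algebraMap A B s)) := by
        rw [he₀, hjA]; rfl
      have h3 : ψ ((algebraMap A K a) ⊗ₜ[A] b) = e₀ (algebraMap B _ (algebraMap A B a * b)) := by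
        rw [he₀, map_mul, hjA]
        congr 1
        change _ = (algebraMap A K a ⊗ₜ[A] (1 : B)) * ((1 : K) ⊗ₜ[A] b)
        rw [Algebra.TensorProduct.tmul_mul_tmul, mul_one, one_mul]
      have h4 : e₀ (algebraMap B _ (algebraMap A B s)) ≠ 0 := by
        rw [← h2]
        have h5 := (IsUnit.mk0 _ hs0).map (ψ.comp (algebraMap K (K ⊗[A] B)))
        exact h5.ne_zero
      have h6 : e₀ (algebraMap B _ (algebraMap A B s)) * ψ ((algebraMap A K a / algebraMap A K s) ⊗ₜ[A] b) =
          e₀ (algebraMap B _ (algebraMap A B a * b)) := by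
        rw [← h2, ← h3, ← map_mul, h1]
      refine ⟨algebraMap B _ (algebraMap A B a * b) / algebraMap B _ (algebraMap A B s), ?_⟩
      rw [map_div₀, ← h6, mul_div_cancel_left₀ _ h4]
  let e : q.ResidueField ≃+* L := RingEquiv.ofBijective e₀ ⟨e₀.injective, hsurj⟩
  have hg : (e : q.ResidueField →+* L).comp
      (SGA1.genericResidueMap (algebraMap A B) (Ideal.span {f i}) q hq) =
      ψ.comp (algebraMap R (K ⊗[A] B)) := by
    refine IsLocalization.ringHom_ext (Ideal.span {f i}).primeCompl ?_
    ext a
    simp only [RingHom.comp_apply]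
    have h1 : SGA1.genericResidueMap (algebraMap A B) (Ideal.span {f i}) q hq
        (algebraMap A (Localization.AtPrime (Ideal.span {f i})) a) =
        algebraMap B q.ResidueField (algebraMap A B a) :=
      IsLocalization.lift_eq _ _
    rw [h1]
    change e₀ _ = _
    rw [he₀, hjA, ← IsScalarTower.algebraMap_apply A R (K ⊗[A] B), IsScalarTower.algebraMap_apply A K (K ⊗[A] B)]
  have h0 : TameDvd R (SGA1.genericResidueMap (algebraMap A B) (Ideal.span {f i}) q hq) n := by
    intro V hV
    let alg₁ : Algebra R V := (RingHom.codRestrict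
      (SGA1.genericResidueMap (algebraMap A B) (Ideal.span {f i}) q hq) V hV.1).toAlgebra
    intro hlh
    refine ⟨?_, hd q hq V hV⟩
    exact (@htame i q hqp hq V hV hlh).1
  have h1 := TameDvd.of_equiv _ e h0
  rw [hg] at h1
  exact h1

end

end Groth.Agent.Sga1.AbhTame
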