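import Groth.Agent.Sga1.AbhBase
import Groth.Agent.Sga1.AbhExt2
import Groth.Agent.Sga1.AbhTame
import Groth.Agent.Sga1.AbhKumDvr
import Groth.Agent.CurvesC.RegNormal
import Mathlib.RingTheory.IntegralClosure.GoingDown
import Mathlib.RingTheory.Ideal.Height

/-!
# Abhyankar's lemma in codimension one of the Kummer algebra
-/

set_option autoImplicit false

universe u

open IsLocalRing TensorProduct SGA1 Groth.Agent.Sga1.AbhDefs

namespace Groth.Agent.Sga1.AbhLocal

section

variable (A : Type u) [CommRing A] [IsRegularLocalRing A] [IsDomain A] {r : ℕ} (f : Fin r → A)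
    (hm : ∀ i, f i ∈ maximalIdeal A)
    (hf : LinearIndependent (ResidueField A) (fun i => (maximalIdeal A).toCotangent ⟨f i, hm i⟩))
    (n : Fin r → ℕ) (hn : ∀ i, 1 ≤ n i)

include hn in
theorem injective_kummer : Function.Injective (algebraMap A (kummerAlg A f n)) := by
  obtain ⟨φ, hφ⟩ := KummerFinite.exists_geometric_point A f n hn
  have h1 : Function.Injective (algebraMap A (AlgebraicClosure (FractionRing A))) := by
    rw [IsScalarTower.algebraMap_eq A (FractionRing A) (AlgebraicClosure (FractionRing A))]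
    exact (algebraMap (FractionRing A) _).injective.comp (IsFractionRing.injective A _)
  rw [← hφ, RingHom.coe_comp] at h1
  exact Function.Injective.of_comp h1

include hm hf hn in
omit [IsDomain A] in
theorem isDomain_kummer : IsDomain (kummerAlg A f n) := by
  have := KummerReg.isRegularLocalRing f n hm hf hn
  exact Groth.Agent.CalgA.RegBasic.isDomain _

include hm hf in
omit [IsDomain A] in
theorem ne_zero (i : Fin r) : f i ≠ 0 := by
  intro h0
  refine hf.ne_zero i ?_
  rw [Ideal.toCotangent_eq_zero]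
  change f i ∈ _
  rw [h0]
  exact Ideal.zero_mem _

include hm hf hn in
/-- a height one prime of the Kummer algebra containing `f_i` lies over `(f_i)` -/
theorem comap_eq [∀ i, (Ideal.span {f i}).IsPrime] (ξ : Ideal (kummerAlg A f n)) [ξ.IsPrime]
    (hξ : ξ.height = 1) (i : Fin r) (hi : algebraMap A (kummerAlg A f n) (f i) ∈ ξ) :
    ξ.comap (algebraMap A (kummerAlg A f n)) = Ideal.span {f i} := by
  have hreg := KummerReg.isRegularLocalRing f n hm hf hn
  have hdom := isDomain_kummer A f hm hf n hn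
  have hfin := Kummer.finite f n hn
  have hinj := injective_kummer A f n hn
  have : FaithfulSMul A (kummerAlg A f n) := (faithfulSMul_iff_algebraMap_injective A _).mpr hinj
  have hic : IsIntegrallyClosed A := Groth.Agent.CurvesC.RegNormal.isIntegrallyClosed A
  have hgd : Algebra.HasGoingDown A (kummerAlg A f n) := inferInstance
  have hle : Ideal.span {f i} ≤ ξ.comap (algebraMap A (kummerAlg A f n)) := by
    rw [Ideal.span_singleton_le_iff_mem]
    exact hi
  refine (eq_of_le_of_not_lt hle fun hlt => ?_).symm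
  have hlies : ξ.LiesOver (ξ.comap (algebraMap A (kummerAlg A f n))) := ⟨rfl⟩
  obtain ⟨Q, hQ, hQp, hQl⟩ := Ideal.exists_ideal_lt_liesOver_of_lt (p := Ideal.span {f i})
    (q := ξ.comap (algebraMap A (kummerAlg A f n))) ξ hlt
  have h1 : Q.height < ξ.height := by
    have : ξ.FiniteHeight := inferInstance
    exact Ideal.height_strict_mono_of_isPrime hQ
  rw [hξ, Order.lt_one_iff, Ideal.height_eq_zero_iff_eq_bot] at h1
  have h2 : f i ∈ Q.under A := by
    rw [← hQl.over]
    exact Ideal.mem_span_singleton_self _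
  have h3 : algebraMap A (kummerAlg A f n) (f i) ∈ Q := h2
  rw [h1, Ideal.mem_bot, map_eq_zero_iff _ hinj] at h3
  exact ne_zero A f hm hf i h3

end

section

variable (A K K₂ R₂ O L : Type u) [CommRing A] [CommRing K] [CommRing K₂] [CommRing R₂] [CommRing O]
  [CommRing L] [Algebra A K] [Algebra A L] [Algebra K L] [IsScalarTower A K L]
  [Algebra K K₂] [Algebra K₂ L] [IsScalarTower K K₂ L]
  [Algebra R₂ K₂] [Algebra R₂ L] [IsScalarTower R₂ K₂ L]
  [Algebra R₂ O] [Algebra O L] [IsScalarTower R₂ O L]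
  (B : Type u) [CommRing B] [Algebra A B] (C₂ : Type u) [CommRing C₂] [Algebra R₂ C₂]
  (e : K₂ ⊗[R₂] C₂ ≃ₐ[K₂] K₂ ⊗[K] (K ⊗[A] B))

/-- chain of base change isomorphisms -/
noncomputable def chain : L ⊗[O] (O ⊗[R₂] C₂) ≃ₐ[L] L ⊗[A] B :=
  let e1 : L ⊗[O] (O ⊗[R₂] C₂) ≃ₐ[L] L ⊗[R₂] C₂ := Algebra.TensorProduct.cancelBaseChange R₂ O L L C₂
  let e2 : L ⊗[R₂] C₂ ≃ₐ[L] L ⊗[K₂] (K₂ ⊗[R₂] C₂) :=
    (Algebra.TensorProduct.cancelBaseChange R₂ K₂ L L C₂).symm
  let e3 : L ⊗[K₂] (K₂ ⊗[R₂] C₂) ≃ₐ[L] L ⊗[K₂] (K₂ ⊗[K] (K ⊗[A] B)) :=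
    Algebra.TensorProduct.congr AlgEquiv.refl e
  let e4 : L ⊗[K₂] (K₂ ⊗[K] (K ⊗[A] B)) ≃ₐ[L] L ⊗[K] (K ⊗[A] B) :=
    Algebra.TensorProduct.cancelBaseChange K K₂ L L (K ⊗[A] B)
  let e5 : L ⊗[K] (K ⊗[A] B) ≃ₐ[L] L ⊗[A] B := Algebra.TensorProduct.cancelBaseChange A K L L B
  (((e1.trans e2).trans e3).trans e4).trans e5

end

section

variable (A : Type u) [CommRing A] [IsDomain A] [IsNoetherianRing A] {r : ℕ} (f : Fin r → A)
    [∀ i, (Ideal.span {f i}).IsPrime]
    (B : Type u) [CommRing B] [Algebra A B]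
    [Algebra (Localization.Away (∏ i, f i)) B]
    [IsScalarTower A (Localization.Away (∏ i, f i)) B]
    [Algebra.Etale (Localization.Away (∏ i, f i)) B]
    (htame : SGA1.IsTameAlong f (algebraMap A B))

include htame in
theorem exists_over (hF : ∏ i, f i ≠ 0) (i : Fin r) (n : ℕ) (hn : (n : A) ∉ Ideal.span {f i})
    (hd : ForallRam f (algebraMap A B) i (· ∣ n))
    (O : Type u) [CommRing O] [Algebra A O] [Algebra (Localization.AtPrime (Ideal.span {f i})) O]
    [IsScalarTower A (Localization.AtPrime (Ideal.span {f i})) O]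
    (L : Type u) [Field L] [Algebra O L] [Algebra A L] [IsScalarTower A O L]
    (hAL : Function.Injective (algebraMap A L)) (T : O) (hT : T ^ n = algebraMap A O (f i)) :
    ∃ (C : Type u) (_ : CommRing C) (_ : Algebra O C),
      Module.Finite O C ∧ Algebra.Etale O C ∧ Nonempty (L ⊗[O] C ≃ₐ[L] L ⊗[A] B) := by
  let F := ∏ i, f i
  let A' := Localization.Away F
  let K := FractionRing A
  have hfi : ∀ j, f j ≠ 0 := fun j => Finset.prod_ne_zero_iff.mp hF j (Finset.mem_univ j)
  obtain ⟨hdvr, hmax⟩ := AbhKumDvr.isDiscreteValuationRing_localization A (f i) (hfi i)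
  let R := Localization.AtPrime (Ideal.span {f i})
  have hle : (Ideal.span {f i}).primeCompl ≤ nonZeroDivisors A := Ideal.primeCompl_le_nonZeroDivisors _
  let : Algebra R K := (IsLocalization.map (M := (Ideal.span {f i}).primeCompl) (T := nonZeroDivisors A)
    (S := R) K (RingHom.id A) hle).toAlgebra
  have htRK : IsScalarTower A R K := IsScalarTower.of_algebraMap_eq fun x =>
    (IsLocalization.map_eq (M := (Ideal.span {f i}).primeCompl) (T := nonZeroDivisors A)
      (S := R) (Q := K) (g := RingHom.id A) hle x).symm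
  have hfrac : IsFractionRing R K :=
    IsFractionRing.isFractionRing_of_isDomain_of_isLocalization (Ideal.span {f i}).primeCompl R K
  have hleF : Submonoid.powers F ≤ nonZeroDivisors A := powers_le_nonZeroDivisors_of_noZeroDivisors hF
  let : Algebra A' K := (IsLocalization.map (M := Submonoid.powers F) (T := nonZeroDivisors A)
    (S := A') K (RingHom.id A) hleF).toAlgebra
  have htA'K : IsScalarTower A A' K := IsScalarTower.of_algebraMap_eq fun x =>
    (IsLocalization.map_eq (M := Submonoid.powers F) (T := nonZeroDivisors A)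
      (S := A') (Q := K) (g := RingHom.id A) hleF x).symm
  let M := K ⊗[A] B
  have hMet : Algebra.Etale K M := AbhBase.etale A (Submonoid.powers F) A' B K
  set ϖ : R := algebraMap A R (f i) with hϖdef
  have hϖ : Irreducible ϖ := (IsDiscreteValuationRing.irreducible_iff_uniformizer ϖ).mpr hmax
  have hn1 : 1 ≤ n := by
    by_contra h
    have : n = 0 := by omega
    subst this
    simp at hn
  have hnR : (n : R) ∉ maximalIdeal R := by
    intro h
    refine hn ?_
    have h1 : algebraMap A R (n : A) ∈ maximalIdeal R := by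
      rw [map_natCast]; exact h
    rwa [← Ideal.mem_comap, ← Ideal.under_def, Localization.AtPrime.under_maximalIdeal] at h1
  have hdom := AbhKumDvr.isDomain R hϖ n hn1
  let R₂ := AbhKumDvr.Kum R ϖ n
  obtain ⟨hdvr₂, hmax₂⟩ := AbhKumDvr.isDiscreteValuationRing R hϖ n hn1
  let t : R₂ := AbhKumDvr.root R ϖ n
  have htn : t ^ n = algebraMap R R₂ ϖ := AbhKumDvr.root_pow R n
  have hinjR₂ : Function.Injective (algebraMap R R₂) := AbhKumDvr.injective_algebraMap R n hn1
  let K₂ := FractionRing R₂
  have hinjK₂ : Function.Injective (algebraMap R K₂) := by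
    rw [IsScalarTower.algebraMap_eq R R₂ K₂]
    exact (IsFractionRing.injective R₂ K₂).comp hinjR₂
  let : Algebra K K₂ := (IsFractionRing.lift (K := K) hinjK₂).toAlgebra
  have htRKK₂ : IsScalarTower R K K₂ := IsScalarTower.of_algebraMap_eq fun x =>
    (IsFractionRing.lift_algebraMap (K := K) hinjK₂ x).symm
  obtain ⟨C₂, _, _, hC₂fin, hC₂et, ⟨e⟩⟩ := AbhExt2.exists_extension_kummer R K M hϖ hnR
    (fun N _ ψ hψ => AbhTame.tameDvd f i K htame hd N ψ hψ) R₂ hmax₂ htn (AbhKumDvr.adjoin_root R n) K₂
  -- `R₂ → O`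
  let φ : R₂ →ₐ[R] O := Kummer.lift (fun _ : Fin 1 => ϖ) (fun _ => n) (fun _ => T) (fun _ => by
    rw [hT, hϖdef, ← IsScalarTower.algebraMap_apply])
  have hφt : φ t = T := Kummer.lift_T _ _ _ _ _
  let : Algebra R₂ O := φ.toAlgebra
  have htRR₂O : IsScalarTower R R₂ O := IsScalarTower.of_algebraMap_eq fun x => (φ.commutes x).symm
  have hTL : algebraMap O L T ≠ 0 := by
    intro h0
    have h1 : algebraMap O L (T ^ n) = 0 := by rw [map_pow, h0, zero_pow (by omega)]
    rw [hT, ← IsScalarTower.algebraMap_apply, map_eq_zero_iff _ hAL] at h1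
    exact hfi i h1
  let : Algebra R₂ L := ((algebraMap O L).comp (algebraMap R₂ O)).toAlgebra
  have htR₂OL : IsScalarTower R₂ O L := IsScalarTower.of_algebraMap_eq' rfl
  have hinjR₂L : Function.Injective (algebraMap R₂ L) := by
    rw [RingHom.injective_iff_ker_eq_bot]
    by_contra hne
    have hp : (RingHom.ker (algebraMap R₂ L)).IsPrime := RingHom.ker_isPrime _
    have hmx : (RingHom.ker (algebraMap R₂ L)).IsMaximal := hp.isMaximal hne
    have h1 : RingHom.ker (algebraMap R₂ L) = maximalIdeal R₂ := IsLocalRing.eq_maximalIdeal hmx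
    have h2 : t ∈ RingHom.ker (algebraMap R₂ L) := by
      rw [h1, hmax₂]
      exact Ideal.mem_span_singleton_self _
    rw [RingHom.mem_ker, IsScalarTower.algebraMap_apply R₂ O L] at h2
    change algebraMap O L (φ t) = 0 at h2
    rw [hφt] at h2
    exact hTL h2
  let : Algebra K₂ L := (IsFractionRing.lift (K := K₂) hinjR₂L).toAlgebra
  have htR₂K₂L : IsScalarTower R₂ K₂ L := IsScalarTower.of_algebraMap_eq fun x =>
    (IsFractionRing.lift_algebraMap (K := K₂) hinjR₂L x).symm
  let : Algebra K L := ((algebraMap K₂ L).comp (algebraMap K K₂)).toAlgebra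
  have htKK₂L : IsScalarTower K K₂ L := IsScalarTower.of_algebraMap_eq' rfl
  have htAKL : IsScalarTower A K L := by
    refine IsScalarTower.of_algebraMap_eq fun x => ?_
    rw [IsScalarTower.algebraMap_apply A R K, IsScalarTower.algebraMap_apply K K₂ L,
      ← IsScalarTower.algebraMap_apply R K K₂, IsScalarTower.algebraMap_apply R R₂ K₂,
      ← IsScalarTower.algebraMap_apply R₂ K₂ L, IsScalarTower.algebraMap_apply R₂ O L,
      ← IsScalarTower.algebraMap_apply R R₂ O, ← IsScalarTower.algebraMap_apply A R O,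
      ← IsScalarTower.algebraMap_apply A O L]
  refine ⟨O ⊗[R₂] C₂, inferInstance, inferInstance, inferInstance, inferInstance, ⟨?_⟩⟩
  exact chain A K K₂ R₂ O L B C₂ e

end

section

variable (A : Type u) [CommRing A] [IsRegularLocalRing A] [IsDomain A] {r : ℕ} (f : Fin r → A)
    (hm : ∀ i, f i ∈ maximalIdeal A)
    (hf : LinearIndependent (ResidueField A) (fun i => (maximalIdeal A).toCotangent ⟨f i, hm i⟩))
    [∀ i, (Ideal.span {f i}).IsPrime]
    (B : Type u) [CommRing B] [Algebra A B] [Algebra (Localization.Away (∏ i, f i)) B]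
    [IsScalarTower A (Localization.Away (∏ i, f i)) B]
    [Module.Finite (Localization.Away (∏ i, f i)) B] [Algebra.Etale (Localization.Away (∏ i, f i)) B]
    (htame : SGA1.IsTameAlong f (algebraMap A B))

include hm hf htame

/-- LOCAL, for any model `O` of the local ring at `ξ`. -/
theorem alg_local' (n : Fin r → ℕ) (hn : ∀ i, 1 ≤ n i) (ξ : Ideal (kummerAlg A f n)) [ξ.IsPrime]
    (hξ : ξ.height = 1)
    (h : ∀ i, algebraMap A (kummerAlg A f n) (f i) ∈ ξ →
      ((n i : ℕ) : A) ∉ Ideal.span {f i} ∧ ForallRam f (algebraMap A B) i (· ∣ n i))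
    (O : Type u) [CommRing O] [Algebra (kummerAlg A f n) O] [IsLocalization.AtPrime O ξ]
    (L : Type u) [Field L] [Algebra (kummerAlg A f n) L] [IsFractionRing (kummerAlg A f n) L]
    [Algebra A L] [IsScalarTower A (kummerAlg A f n) L]
    [Algebra O L] [IsScalarTower (kummerAlg A f n) O L] :
    ∃ (C : Type u) (_ : CommRing C) (_ : Algebra O C),
      Module.Finite O C ∧ Algebra.Etale O C ∧ Nonempty (L ⊗[O] C ≃ₐ[L] L ⊗[A] B) := by
  let A₁ := kummerAlg A f n
  let F := ∏ i, f i
  let A' := Localization.Away F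
  let : Algebra A O := ((algebraMap A₁ O).comp (algebraMap A A₁)).toAlgebra
  have htA : IsScalarTower A A₁ O := IsScalarTower.of_algebraMap_eq' (R := A) (S := A₁) (A := O) rfl
  have htAOL : IsScalarTower A O L := by
    refine IsScalarTower.of_algebraMap_eq fun x => ?_
    rw [IsScalarTower.algebraMap_apply A A₁ L, IsScalarTower.algebraMap_apply A₁ O L,
      ← IsScalarTower.algebraMap_apply A A₁ O]
  have hAL : Function.Injective (algebraMap A L) := by
    rw [IsScalarTower.algebraMap_eq A A₁ L]
    exact (IsFractionRing.injective A₁ L).comp (injective_kummer A f n hn)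
  have hF : F ≠ 0 := Finset.prod_ne_zero_iff.mpr fun i _ => ne_zero A f hm hf i
  by_cases hξF : algebraMap A A₁ F ∈ ξ
  · obtain ⟨i, hi⟩ : ∃ i, algebraMap A A₁ (f i) ∈ ξ := by
      rw [map_prod, Ideal.IsPrime.prod_mem_iff] at hξF
      obtain ⟨i, -, hi⟩ := hξF
      exact ⟨i, hi⟩
    have hcomap := comap_eq A f hm hf n hn ξ hξ i hi
    have hunit : ∀ s : (Ideal.span {f i}).primeCompl, IsUnit (algebraMap A O s) := by
      intro s
      rw [IsScalarTower.algebraMap_apply A A₁ O]
      refine (IsLocalization.AtPrime.isUnit_to_map_iff O ξ _).mpr fun hs => ?_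
      exact s.2 (hcomap.le hs)
    let : Algebra (Localization.AtPrime (Ideal.span {f i})) O := (IsLocalization.lift hunit).toAlgebra
    have htRO : IsScalarTower A (Localization.AtPrime (Ideal.span {f i})) O :=
      IsScalarTower.of_algebraMap_eq fun x => (IsLocalization.lift_eq hunit x).symm
    refine exists_over A f B htame hF i (n i) (h i hi).1 (h i hi).2 O L hAL
      (algebraMap A₁ O (Kummer.T f n i)) ?_
    rw [← map_pow, Kummer.T_pow, ← IsScalarTower.algebraMap_apply]
  · have hunit : IsUnit (algebraMap A O F) := by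
      rw [IsScalarTower.algebraMap_apply A A₁ O]
      exact (IsLocalization.AtPrime.isUnit_to_map_iff O ξ _).mpr hξF
    let : Algebra A' O := (IsLocalization.Away.lift F hunit).toAlgebra
    have htA'O : IsScalarTower A A' O :=
      IsScalarTower.of_algebraMap_eq fun x => (IsLocalization.Away.lift_eq F hunit x).symm
    let : Algebra A' L := ((algebraMap O L).comp (algebraMap A' O)).toAlgebra
    have htA'OL : IsScalarTower A' O L := IsScalarTower.of_algebraMap_eq' rfl
    have htAA'L : IsScalarTower A A' L := by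
      refine IsScalarTower.of_algebraMap_eq fun x => ?_
      rw [IsScalarTower.algebraMap_apply A' O L, ← IsScalarTower.algebraMap_apply A A' O,
        ← IsScalarTower.algebraMap_apply A O L]
    refine ⟨O ⊗[A'] B, inferInstance, inferInstance, inferInstance, inferInstance, ⟨?_⟩⟩
    exact (Algebra.TensorProduct.cancelBaseChange A' O L L B).trans
      (AbhBase.baseEquiv A (Submonoid.powers F) A' B L)

/-- LOCAL: at a height one prime `ξ` of the Kummer algebra, `B` extends to a finite etale algebra over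
the local ring at `ξ`, provided that for the `f_i ∈ ξ` the exponent `n_i` is invertible in `κ((f_i))`
and divisible by all ramification indices over `A_(f_i)`. -/
theorem alg_local (n : Fin r → ℕ) (hn : ∀ i, 1 ≤ n i) (ξ : Ideal (kummerAlg A f n)) [ξ.IsPrime]
    (hξ : ξ.height = 1)
    (h : ∀ i, algebraMap A (kummerAlg A f n) (f i) ∈ ξ →
      ((n i : ℕ) : A) ∉ Ideal.span {f i} ∧ ForallRam f (algebraMap A B) i (· ∣ n i))
    (L : Type u) [Field L] [Algebra (kummerAlg A f n) L] [IsFractionRing (kummerAlg A f n) L]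
    [Algebra A L] [IsScalarTower A (kummerAlg A f n) L]
    [Algebra (Localization.AtPrime ξ) L] [IsScalarTower (kummerAlg A f n) (Localization.AtPrime ξ) L] :
    ∃ (C : Type u) (_ : CommRing C) (_ : Algebra (Localization.AtPrime ξ) C),
      Module.Finite (Localization.AtPrime ξ) C ∧ Algebra.Etale (Localization.AtPrime ξ) C ∧
      Nonempty (L ⊗[Localization.AtPrime ξ] C ≃ₐ[L] L ⊗[A] B) :=
  alg_local' A f hm hf B htame n hn ξ hξ h (Localization.AtPrime ξ) L

end

end Groth.Agent.Sga1.AbhLocal
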