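import Groth.Agent.S0516
import Mathlib.RingTheory.Unramified.Field
import Mathlib.RingTheory.Unramified.Finite
import Mathlib.FieldTheory.PurelyInseparable.Basic
import Mathlib.RingTheory.Jacobson.Artinian
import Mathlib.RingTheory.KrullDimension.Zero

set_option autoImplicit false
universe u

namespace Groth.Agent.Sga1.AbhNak

open IsLocalRing

theorem exists_algebraMap_eq {R : Type u} [CommRing R] [HenselianLocalRing R]
    [IsSepClosed (ResidueField R)] {S : Type u} [CommRing S] [Algebra R S] [Module.Finite R S]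
    [Algebra.Unramified R S] {Ω : Type u} [Field Ω] [Algebra R Ω] (g : S →ₐ[R] Ω) (x : S) :
    ∃ y : R, g x = algebraMap R Ω y := by
  classical
  obtain ⟨ι, _, A, _, _, B, _, _, hA, hB, ⟨e⟩⟩ := Groth.Agent.S0516.result R S
  have hBfin : Module.Finite R B := Module.Finite.of_surjective
    ((AlgHom.snd R (∀ i, A i) B).comp e.toAlgHom).toLinearMap
      (Prod.snd_surjective.comp e.surjective)
  have hBsub : Subsingleton B := by
    have h1 : (maximalIdeal R) • (⊤ : Submodule R B) = ⊤ := by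
      rw [Ideal.smul_top_eq_map, hB, Submodule.restrictScalars_top]
    have h2 : (⊤ : Submodule R B) = ⊥ :=
      Submodule.eq_bot_of_le_smul_of_le_jacobson_bot (maximalIdeal R) ⊤ Module.Finite.fg_top h1.ge
        (maximalIdeal_le_jacobson _)
    exact (Submodule.subsingleton_iff R).1 (subsingleton_of_bot_eq_top h2.symm)
  let h : ((∀ i, A i) × B) →ₐ[R] Ω := g.comp e.symm.toAlgHom
  have hsum : (1 : (∀ i, A i) × B) = ∑ i, (Pi.single i 1, 0) := by
    apply Prod.ext
    · rw [Prod.fst_sum]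
      simp only [Prod.fst_one]
      exact (Finset.univ_sum_single (1 : ∀ i, A i)).symm
    · exact Subsingleton.elim _ _
  have h1 : ∑ i, h (Pi.single i 1, 0) = 1 := by rw [← map_sum, ← hsum, map_one]
  have h2 : ∃ i, h (Pi.single i 1, 0) ≠ 0 := by
    by_contra hcon
    push Not at hcon
    rw [Finset.sum_eq_zero (fun i _ => hcon i)] at h1
    exact zero_ne_one h1
  obtain ⟨i, hi⟩ := h2
  have h3 : h (Pi.single i 1, 0) = 1 := by
    have : h (Pi.single i 1, 0) * h (Pi.single i 1, 0) = h (Pi.single i 1, 0) := by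
      rw [← map_mul]
      congr 1
      apply Prod.ext
      · simp [← Pi.single_mul]
      · simp
    exact (mul_eq_left₀ hi).1 this
  obtain ⟨y, hy⟩ := hA i ((e x).1 i)
  refine ⟨y, ?_⟩
  have h4 : g x = h (e x) := by simp [h]
  have h5 : h (e x) = h (e x * (Pi.single i 1, 0)) := by rw [map_mul, h3, mul_one]
  have h6 : e x * (Pi.single i 1, 0) = algebraMap R _ y * (Pi.single i 1, 0) := by
    apply Prod.ext
    · ext k
      simp only [Prod.fst_mul, Pi.mul_apply, Prod.algebraMap_apply, Pi.algebraMap_apply]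
      by_cases hk : k = i
      · subst hk
        rw [hy]
      · rw [Pi.single_eq_of_ne hk, mul_zero, mul_zero]
    · exact Subsingleton.elim _ _
  rw [h4, h5, h6, map_mul, h3, mul_one, AlgHom.commutes]

/-- A finite unramified algebra over a local ring in which every `q`-th power is congruent to an element
of the base, modulo all maximal ideals, is a quotient of the base. -/
theorem surjective_of_pow {R D : Type u} [CommRing R] [IsLocalRing R] [CommRing D] [Algebra R D] 
    [Module.Finite R D] [Algebra.Unramified R D] (p : ℕ) [hp : Fact p.Prime] (hpR : (p : R) ∈ maximalIdeal R) (s : ℕ)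
    (h : ∀ x : D, ∃ y : R, ∀ 𝔫 : Ideal D, 𝔫.IsMaximal → x ^ (p ^ s) - algebraMap R D y ∈ 𝔫) :
    Function.Surjective (algebraMap R D) := by
  have hover : ∀ 𝔫 : Ideal D, 𝔫.IsMaximal → 𝔫.comap (algebraMap R D) = maximalIdeal R := by
    intro 𝔫 h𝔫
    exact IsLocalRing.eq_maximalIdeal (Ideal.isMaximal_comap_of_isIntegral_of_isMaximal _)
  have hunique : ∀ 𝔫 𝔫' : Ideal D, 𝔫.IsMaximal → 𝔫'.IsMaximal → 𝔫 ≤ 𝔫' := by
    intro 𝔫 𝔫' h𝔫 h𝔫' x hx
    obtain ⟨y, hy⟩ := h x
    have h1 : algebraMap R D y ∈ 𝔫 := by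
      have := 𝔫.sub_mem (Ideal.pow_mem_of_mem 𝔫 hx _ (pow_pos hp.out.pos s)) (hy 𝔫 h𝔫)
      simpa using this
    have h2 : y ∈ maximalIdeal R := by rw [← hover 𝔫 h𝔫]; exact h1
    have h3 : algebraMap R D y ∈ 𝔫' := by
      rw [← Ideal.mem_comap, hover 𝔫' h𝔫']; exact h2
    have h4 : x ^ (p ^ s) ∈ 𝔫' := by
      have := 𝔫'.add_mem (hy 𝔫' h𝔫') h3
      simpa using this
    exact h𝔫'.isPrime.mem_of_pow_mem _ h4
  rcases subsingleton_or_nontrivial D with hD | hD
  · exact Function.surjective_to_subsingleton _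
  obtain ⟨𝔫, h𝔫⟩ := Ideal.exists_maximal D
  -- `m_R D` is the maximal ideal
  have hmD : (maximalIdeal R).map (algebraMap R D) = 𝔫 := by
    apply le_antisymm
    · rw [Ideal.map_le_iff_le_comap, hover 𝔫 h𝔫]
    · have hrad : ((maximalIdeal R).map (algebraMap R D)).IsRadical :=
        Algebra.FormallyUnramified.isRadical_map_isMaximal R D (maximalIdeal R)
      rw [← hrad.radical, Ideal.radical_eq_sInf]
      refine le_sInf ?_
      rintro J ⟨hJ, hJp⟩
      have hJm : J.IsMaximal := by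
        refine Ideal.isMaximal_of_isIntegral_of_isMaximal_comap (R := R) J ?_
        have : J.comap (algebraMap R D) = maximalIdeal R := by
          refine le_antisymm (le_maximalIdeal (Ideal.IsPrime.ne_top inferInstance)) ?_
          rw [← Ideal.map_le_iff_le_comap]
          exact hJ
        rw [this]
        exact maximalIdeal.isMaximal R
      exact hunique 𝔫 J h𝔫 hJm
  -- the residue field extension is trivial
  let κ := ResidueField R
  let : Field (D ⧸ 𝔫) := Ideal.Quotient.field 𝔫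
  have hker : ∀ a ∈ maximalIdeal R, algebraMap R (D ⧸ 𝔫) a = 0 := by
    intro a ha
    rw [IsScalarTower.algebraMap_apply R D (D ⧸ 𝔫), Ideal.Quotient.algebraMap_eq, Ideal.Quotient.eq_zero_iff_mem,
      ← Ideal.mem_comap, hover 𝔫 h𝔫]
    exact ha
  let φ : κ →+* (D ⧸ 𝔫) := Ideal.Quotient.lift _ (algebraMap R (D ⧸ 𝔫)) hker
  let : Algebra κ (D ⧸ 𝔫) := φ.toAlgebra
  have : IsScalarTower R κ (D ⧸ 𝔫) := IsScalarTower.of_algebraMap_eq fun r => rfl
  have hfin : Module.Finite R (D ⧸ 𝔫) := inferInstance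
  have hfin' : Module.Finite κ (D ⧸ 𝔫) := Module.Finite.of_restrictScalars_finite R _ _
  have hunr : Algebra.FormallyUnramified R (D ⧸ 𝔫) := 
    Algebra.FormallyUnramified.of_surjective (Ideal.Quotient.mkₐ R 𝔫) Ideal.Quotient.mk_surjective
  have hunr' : Algebra.FormallyUnramified κ (D ⧸ 𝔫) :=
    Algebra.FormallyUnramified.of_restrictScalars R κ (D ⧸ 𝔫)
  have hsep : Algebra.IsSeparable κ (D ⧸ 𝔫) := Algebra.FormallyUnramified.isSeparable _ _
  have hchar : CharP κ p := by
    have : ((p : ℕ) : κ) = 0 := by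
      rw [← map_natCast (residue R)]
      exact (residue_eq_zero_iff _).2 hpR
    have h1 := ringChar.dvd this
    rcases (Nat.dvd_prime hp.out).1 h1 with h2 | h2
    · exact absurd h2 CharP.ringChar_ne_one
    · exact ringChar.of_eq h2
  have hexp : ExpChar κ p := ExpChar.prime hp.out
  have hpi : IsPurelyInseparable κ (D ⧸ 𝔫) := by
    rw [isPurelyInseparable_iff_pow_mem κ p]
    intro x
    obtain ⟨x, rfl⟩ := Ideal.Quotient.mk_surjective x
    obtain ⟨y, hy⟩ := h x
    refine ⟨s, residue R y, ?_⟩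
    have h1 : Ideal.Quotient.mk 𝔫 (x ^ (p ^ s)) = Ideal.Quotient.mk 𝔫 (algebraMap R D y) :=
      (Ideal.Quotient.mk_eq_mk_iff_sub_mem _ _).2 (hy 𝔫 h𝔫)
    rw [map_pow] at h1
    exact h1.symm
  have hsurj : Function.Surjective (algebraMap κ (D ⧸ 𝔫)) := (IsPurelyInseparable.bijective_algebraMap_of_isSeparable κ (D ⧸ 𝔫)).2
  -- Nakayama
  have hle : (⊤ : Submodule R D) ≤ LinearMap.range (Algebra.linearMap R D) ⊔ (maximalIdeal R) • (⊤ : Submodule R D) := by
    intro x _
    obtain ⟨y, hy⟩ := hsurj (Ideal.Quotient.mk 𝔫 x)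
    obtain ⟨y, rfl⟩ := IsLocalRing.residue_surjective y
    have h1 : Ideal.Quotient.mk 𝔫 (algebraMap R D y) = Ideal.Quotient.mk 𝔫 x := hy
    have h2 : x - algebraMap R D y ∈ 𝔫 := (Ideal.Quotient.mk_eq_mk_iff_sub_mem _ _).1 h1.symm
    rw [← hmD] at h2
    have h3 : x = algebraMap R D y + (x - algebraMap R D y) := by ring
    rw [h3]
    refine Submodule.add_mem_sup ⟨y, rfl⟩ ?_
    rw [Ideal.smul_top_eq_map]
    exact h2
  have := Submodule.le_of_le_smul_of_le_jacobson_bot (I := maximalIdeal R) Module.Finite.fg_top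
    (maximalIdeal_le_jacobson _) hle
  intro x
  exact this (Submodule.mem_top : x ∈ ⊤)

end Groth.Agent.Sga1.AbhNak
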