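import Mathlib.RingTheory.KrullDimension.Basic
import Mathlib.RingTheory.Localization.Away.Basic
import Mathlib.RingTheory.Localization.FractionRing
import Mathlib.RingTheory.LocalRing.MaximalIdeal.Basic
import Mathlib.RingTheory.Ideal.Height
import Mathlib.RingTheory.Localization.AtPrime.Basic

/-!
# Inverting an element of the maximal ideal of a one-dimensional local domain gives the fraction field
-/

set_option autoImplicit false

universe u

open IsLocalRing

namespace Groth.Agent.Sga1.AbhPureAlg

theorem isLocalization_away_of_dim_le_one (O : Type u) [CommRing O] [IsDomain O] [IsLocalRing O]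
    [Ring.KrullDimLE 1 O] (L : Type u) [Field L] [Algebra O L] [IsFractionRing O L] (g : O)
    (hg : g ∈ maximalIdeal O) (hg0 : g ≠ 0) : IsLocalization.Away g L := by
  have hinj : Function.Injective (algebraMap O L) := IsFractionRing.injective O L
  have hdvd : ∀ b : O, b ≠ 0 → ∃ (k : ℕ) (c : O), g ^ k = b * c := by
    intro b hb
    have h1 : g ∈ (Ideal.span {b}).radical := by
      rw [Ideal.radical_eq_sInf, Ideal.mem_sInf]
      rintro P ⟨hP, hPp⟩
      have hne : P ≠ ⊥ := by
        rintro rfl
        rw [Ideal.span_singleton_le_iff_mem, Ideal.mem_bot] at hP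
        exact hb hP
      have hPm : P.IsMaximal := hPp.isMaximal_of_ne_bot hne
      rw [IsLocalRing.eq_maximalIdeal hPm]
      exact hg
    obtain ⟨k, hk⟩ := h1
    obtain ⟨c, hc⟩ := Ideal.mem_span_singleton.mp hk
    exact ⟨k, c, hc⟩
  refine (isLocalization_iff (Submonoid.powers g) L).mpr ⟨?_, ?_, ?_⟩
  · rintro ⟨_, k, rfl⟩
    refine isUnit_iff_ne_zero.mpr ?_
    rw [Ne, map_eq_zero_iff _ hinj]
    exact pow_ne_zero k hg0
  · intro z
    obtain ⟨a, b, hb, rfl⟩ := IsFractionRing.div_surjective O z
    have hb0 : b ≠ 0 := nonZeroDivisors.ne_zero hb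
    obtain ⟨k, c, hc⟩ := hdvd b hb0
    refine ⟨(a * c, ⟨g ^ k, k, rfl⟩), ?_⟩
    have hb1 : algebraMap O L b ≠ 0 := by rwa [Ne, map_eq_zero_iff _ hinj]
    change _ * algebraMap O L (g ^ k) = algebraMap O L (a * c)
    rw [hc, map_mul, map_mul]
    field_simp
  · intro x y hxy
    exact ⟨1, by rw [hinj hxy]⟩

end Groth.Agent.Sga1.AbhPureAlg
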