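import Groth.Prelude.Def_EtRam
import Mathlib.RingTheory.DedekindDomain.AdicValuation
import Mathlib.RingTheory.DedekindDomain.IntegralClosure
import Mathlib.RingTheory.Valuation.LocalSubring
import Mathlib.RingTheory.Unramified.LocalRing
import Mathlib.RingTheory.Unramified.Locus
import Mathlib.RingTheory.Smooth.Fiber
import Mathlib.RingTheory.Flat.TorsionFree
import Mathlib.RingTheory.Etale.Field
import Mathlib.NumberTheory.RamificationInertia.Ramification

/-!
# Valuation subrings of a finite separable extension dominating a discrete valuation ring
-/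

set_option autoImplicit false

universe u

open IsLocalRing IsDedekindDomain

namespace Groth.Agent.Sga1.AbhVal

section
variable {L : Type u} [Field L]

/-- A valuation subring containing a subring `C` (through a map) with `Frac C = L`, `C` Dedekind,
whose centre is nonzero, is the localization at its centre. -/
theorem exists_eq_valuationSubringAtPrime (C : Type u) [CommRing C] [IsDedekindDomain C] [Algebra C L]
    [IsFractionRing C L] (V : ValuationSubring L) (hC : ∀ c : C, algebraMap C L c ∈ V)
    (c₀ : C) (h₀ : c₀ ≠ 0) (h₀' : V.valuation (algebraMap C L c₀) < 1) :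
    ∃ v : HeightOneSpectrum C, V = HeightOneSpectrum.valuationSubringAtPrime L v ∧
      ∀ c : C, c ∈ v.asIdeal ↔ V.valuation (algebraMap C L c) < 1 := by
  let g : C →+* V := (algebraMap C L).codRestrict V.toSubring hC
  let P : Ideal C := (maximalIdeal V).comap g
  have hP : ∀ c : C, c ∈ P ↔ V.valuation (algebraMap C L c) < 1 := fun c =>
    ValuationSubring.valuation_lt_one_iff V (g c)
  have hP0 : P ≠ ⊥ := by
    intro h
    have : c₀ ∈ P := (hP c₀).mpr h₀'
    rw [h] at this
    exact h₀ this
  let v : HeightOneSpectrum C := ⟨P, inferInstance, hP0⟩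
  refine ⟨v, ?_, hP⟩
  symm
  refine ValuationSubring.eq_of_le_of_ne_top _ (fun x hx => ?_) (fun htop => ?_)
  · obtain ⟨a, s, hs, rfl⟩ := hx
    have hs' : IsUnit (g s) := by
      by_contra hu
      exact hs ((mem_maximalIdeal _).mpr hu)
    have hV : (algebraMap C L s)⁻¹ ∈ V := by
      obtain ⟨u, hu⟩ := hs'
      have h1 : ((u : V) : L) = algebraMap C L s := by rw [hu]; rfl
      have h2 : ((u⁻¹ : Vˣ) : V).1 = (algebraMap C L s)⁻¹ := by
        rw [← h1]
        apply eq_inv_of_mul_eq_one_left
        exact congrArg Subtype.val u.inv_mul
      rw [← h2]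
      exact ((u⁻¹ : Vˣ) : V).2
    exact V.mul_mem _ _ (hC a) hV
  · have h1 : algebraMap C L c₀ ≠ 0 := by
      simpa using h₀
    have h2 : (algebraMap C L c₀)⁻¹ ∈ V := by rw [htop]; trivial
    have h3 := V.valuation_le_one ⟨_, h2⟩
    have h4 : V.valuation (algebraMap C L c₀) * V.valuation (algebraMap C L c₀)⁻¹ = 1 := by
      rw [← map_mul, mul_inv_cancel₀ h1, map_one]
    have h5 : V.valuation (algebraMap C L c₀) * V.valuation (algebraMap C L c₀)⁻¹ < 1 :=
      mul_lt_one_of_lt_of_le h₀' h3
    exact absurd h4 h5.ne

end

section DVR

variable (R : Type u) [CommRing R] [IsDomain R] [IsDiscreteValuationRing R]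
  (K : Type u) [Field K] [Algebra R K] [IsFractionRing R K]
  (L : Type u) [Field L] [Algebra K L] [FiniteDimensional K L] [Algebra.IsSeparable K L]
  [Algebra R L] [IsScalarTower R K L]
  (C : Type u) [CommRing C] [Algebra R C] [Algebra C L] [IsScalarTower R C L]
  [IsIntegralClosure C R L]

include K L in
omit [IsDomain R] [IsDiscreteValuationRing R] [FiniteDimensional K L] [Algebra.IsSeparable K L]
  [IsIntegralClosure C R L] in
theorem faithfulSMul : FaithfulSMul R C := by
  rw [faithfulSMul_iff_algebraMap_injective]
  have : Function.Injective (algebraMap R L) := by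
    rw [IsScalarTower.algebraMap_eq R K L]
    exact (algebraMap K L).injective.comp (IsFractionRing.injective R K)
  rw [IsScalarTower.algebraMap_eq R C L] at this
  exact Function.Injective.of_comp this

include K in
omit [FiniteDimensional K L] [Algebra.IsSeparable K L] in
/-- The localizations of the integral closure dominate the DVR. -/
theorem dominates (v : HeightOneSpectrum C)
    [IsDedekindDomain C] [IsFractionRing C L] :
    EtRam.Dominates R (algebraMap R L) (HeightOneSpectrum.valuationSubringAtPrime L v) := by
  have hint : Algebra.IsIntegral R C := IsIntegralClosure.isIntegral_algebra R L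
  have hfaith := faithfulSMul R K L C
  have hpr : v.asIdeal.IsPrime := v.isPrime
  have h1 : v.asIdeal.under R = maximalIdeal R := by
    refine IsLocalRing.eq_maximalIdeal ?_
    have hne : v.asIdeal.under R ≠ ⊥ := Ideal.under_ne_bot R v.ne_bot
    exact (Ideal.IsPrime.under R v.asIdeal).isMaximal hne
  constructor
  · intro a
    rw [IsScalarTower.algebraMap_apply R C L]
    exact (algebraMap C (HeightOneSpectrum.valuationSubringAtPrime L v) (algebraMap R C a)).2
  · intro a ha
    rw [← h1] at ha
    rw [IsScalarTower.algebraMap_apply R C L]
    have h2 : algebraMap C (HeightOneSpectrum.valuationSubringAtPrime L v) (algebraMap R C a) ∈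
        maximalIdeal (HeightOneSpectrum.valuationSubringAtPrime L v) :=
      (IsLocalization.AtPrime.to_map_mem_maximal_iff
        (HeightOneSpectrum.valuationSubringAtPrime L v) v.asIdeal _).mpr ha
    exact (ValuationSubring.valuation_lt_one_iff _ _).mp h2

include K in
omit [FiniteDimensional K L] [Algebra.IsSeparable K L] in
/-- valuation subrings dominating the DVR are localizations of the integral closure -/
theorem exists_of_dominates [IsDedekindDomain C] [IsFractionRing C L] (V : ValuationSubring L)
    (h : EtRam.Dominates R (algebraMap R L) V) :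
    ∃ v : HeightOneSpectrum C, V = HeightOneSpectrum.valuationSubringAtPrime L v ∧
      ∀ c : C, c ∈ v.asIdeal ↔ V.valuation (algebraMap C L c) < 1 := by
  have hfaith := faithfulSMul R K L C
  obtain ⟨ϖ, hϖ⟩ := IsDiscreteValuationRing.exists_irreducible R
  have hC : ∀ c : C, algebraMap C L c ∈ V := by
    intro c
    have hint : IsIntegral R (algebraMap C L c) := (IsIntegralClosure.isIntegral R L c).map
      (IsScalarTower.toAlgHom R C L)
    let g : R →+* V := (algebraMap R L).codRestrict V.toSubring h.1
    algebraize [g]
    have : IsScalarTower R V L := IsScalarTower.of_algebraMap_eq' rfl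
    obtain ⟨y, hy⟩ := IsIntegrallyClosed.isIntegral_iff.mp (hint.tower_top (A := V))
    rw [← hy]
    exact y.2
  refine exists_eq_valuationSubringAtPrime C V hC (algebraMap R C ϖ) ?_ ?_
  · exact (map_ne_zero_iff _ (FaithfulSMul.algebraMap_injective R C)).mpr hϖ.ne_zero
  · rw [← IsScalarTower.algebraMap_apply]
    exact h.2 ϖ (by rw [hϖ.maximalIdeal_eq]; exact Ideal.mem_span_singleton_self _)

include K in
omit [FiniteDimensional K L] [Algebra.IsSeparable K L] in
theorem isUnramifiedAt [IsDedekindDomain C] [IsFractionRing C L] [Module.Finite R C]
    (v : HeightOneSpectrum C) (hv : v.asIdeal.IsPrime)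
    (hunr : EtRam.IsUnramifiedExt R (algebraMap R L)) :
    Algebra.IsUnramifiedAt R v.asIdeal := by
  have hdom := dominates R K L C v
  have hloc : IsLocalization v.asIdeal.primeCompl
      (HeightOneSpectrum.valuationSubringAtPrime L v) := inferInstance
  have htower' : IsScalarTower C (HeightOneSpectrum.valuationSubringAtPrime L v) L := inferInstance
  generalize hV : HeightOneSpectrum.valuationSubringAtPrime L v = V at hdom
  subst hV
  let V := HeightOneSpectrum.valuationSubringAtPrime L v
  let g : R →+* V := (algebraMap R L).codRestrict V.toSubring hdom.1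
  let : Algebra R V := g.toAlgebra
  have hlocal : IsLocalHom (algebraMap R V) := by
    refine ⟨fun a ha => ?_⟩
    by_contra hna
    have h5 := hdom.2 a ((mem_maximalIdeal _).mpr hna)
    have h6 : g a ∈ maximalIdeal V := (ValuationSubring.valuation_lt_one_iff V (g a)).mpr h5
    exact (mem_maximalIdeal _).mp h6 ha
  obtain ⟨hw, hsep⟩ := @hunr V hdom hlocal
  have htower : IsScalarTower R C V := by
    refine IsScalarTower.of_algebraMap_eq fun x => Subtype.ext ?_
    exact IsScalarTower.algebraMap_apply R C L x
  have hess : Algebra.EssFiniteType C V :=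
    Algebra.EssFiniteType.of_isLocalization V v.asIdeal.primeCompl
  have hess' : Algebra.EssFiniteType R V :=
    Algebra.EssFiniteType.comp R C V
  have : Algebra.FormallyUnramified R V := Algebra.FormallyUnramified.of_map_maximalIdeal hw
  exact Algebra.FormallyUnramified.of_equiv
    ((IsLocalization.algEquiv v.asIdeal.primeCompl V
      (Localization.AtPrime v.asIdeal)).restrictScalars R)

include K in
/-- **Integral closures in unramified extensions are etale.** -/
theorem etale_of_isUnramifiedExt (hunr : EtRam.IsUnramifiedExt R (algebraMap R L)) :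
    Module.Finite R C ∧ Algebra.Etale R C := by
  have h0 : IsDomain C := (IsIntegralClosure.algebraMap_injective C R L).isDomain (algebraMap C L)
  have h1 : IsDedekindDomain C := IsIntegralClosure.isDedekindDomain R K L C
  have h2 : IsFractionRing C L := IsIntegralClosure.isFractionRing_of_finite_extension R K L C
  have h3 : Module.Finite R C := IsIntegralClosure.finite R K L C
  have hfaith := faithfulSMul R K L C
  refine ⟨h3, ?_⟩
  have htf : Module.IsTorsionFree R C := inferInstance
  have hflat : Module.Flat R C := inferInstance
  have hunr' : Algebra.FormallyUnramified R C := by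
    rw [Algebra.formallyUnramified_iff_forall]
    intro q
    have hq := q.isPrime
    by_cases hq0 : q.asIdeal = ⊥
    · have hL : Algebra.FormallyUnramified R L := by
        have : Algebra.FormallyUnramified R K :=
          Algebra.FormallyUnramified.of_isLocalization (nonZeroDivisors R)
        have : Algebra.FormallyUnramified K L := Algebra.FormallyUnramified.of_isSeparable K L
        exact Algebra.FormallyUnramified.comp R K L
      have hloc : IsLocalization q.asIdeal.primeCompl L := by
        have : q.asIdeal.primeCompl = nonZeroDivisors C := by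
          ext x
          simp [hq0, Ideal.primeCompl]
        rw [this]
        exact h2
      exact Algebra.FormallyUnramified.of_equiv
        ((IsLocalization.algEquiv q.asIdeal.primeCompl L
          (Localization.AtPrime q.asIdeal)).restrictScalars R)
    · exact isUnramifiedAt R K L C ⟨q.asIdeal, hq, hq0⟩ hq hunr
  have hfp : Algebra.FinitePresentation R C := Algebra.FinitePresentation.of_finiteType.mp inferInstance
  exact Algebra.Etale.of_formallyUnramified_of_flat

end DVR

end Groth.Agent.Sga1.AbhVal
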