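import Mathlib.AlgebraicGeometry.Birational.RationalMap
import Mathlib.AlgebraicGeometry.Morphisms.Proper
import Mathlib.AlgebraicGeometry.Noetherian
import Mathlib.AlgebraicGeometry.ValuativeCriterion

set_option autoImplicit false
universe u v

open CategoryTheory CategoryTheory.Limits AlgebraicGeometry TopologicalSpace

namespace Groth.Agent.Sga1.BiratExt

/-- Glueing of morphisms defined on a family of opens. -/
theorem exists_glue {X Y : Scheme.{u}} {ι : Type v} (U : ι → X.Opens)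
    (f : ∀ i, (U i : Scheme.{u}) ⟶ Y)
    (h : ∀ i j, X.homOfLE (inf_le_left : U i ⊓ U j ≤ U i) ≫ f i =
      X.homOfLE (inf_le_right : U i ⊓ U j ≤ U j) ≫ f j) :
    ∃ F : ((⨆ i, U i : X.Opens) : Scheme.{u}) ⟶ Y, ∀ i, X.homOfLE (le_iSup U i) ≫ F = f i := by
  let 𝒰 : ((⨆ i, U i : X.Opens) : Scheme.{u}).OpenCover :=
    { I₀ := ι
      X i := U i
      f i := X.homOfLE (le_iSup U i)
      mem₀ := by
        rw [Scheme.presieve₀_mem_precoverage_iff]
        refine ⟨fun x ↦ ?_, inferInstance⟩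
        obtain ⟨i, hi⟩ := Opens.mem_iSup.mp x.2
        exact ⟨i, ⟨x.1, hi⟩, Subtype.ext (by simp)⟩ }
  refine ⟨𝒰.glueMorphisms f ?_, fun i => 𝒰.ι_glueMorphisms f _ i⟩
  intro i j
  refine (cancel_epi (isPullback_opens_inf_le (le_iSup U i) (le_iSup U j)).isoPullback.hom).mp ?_
  simp only [𝒰, IsPullback.isoPullback_hom_fst_assoc, IsPullback.isoPullback_hom_snd_assoc]
  exact h i j


/-- Morphisms from a union of opens are determined by their restrictions. -/
theorem iSup_hom_ext {X Y : Scheme.{u}} {ι : Type v} (U : ι → X.Opens)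
    (F G : ((⨆ i, U i : X.Opens) : Scheme.{u}) ⟶ Y)
    (h : ∀ i, X.homOfLE (le_iSup U i) ≫ F = X.homOfLE (le_iSup U i) ≫ G) : F = G := by
  let 𝒰 : ((⨆ i, U i : X.Opens) : Scheme.{u}).OpenCover :=
    { I₀ := ι
      X i := U i
      f i := X.homOfLE (le_iSup U i)
      mem₀ := by
        rw [Scheme.presieve₀_mem_precoverage_iff]
        refine ⟨fun x ↦ ?_, inferInstance⟩
        obtain ⟨i, hi⟩ := Opens.mem_iSup.mp x.2
        exact ⟨i, ⟨x.1, hi⟩, Subtype.ext (by simp)⟩ }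
  exact Scheme.Cover.hom_ext 𝒰 F G h

/-- If `X₀ ∋ x` is an affine open whose sections inject into the stalk at `x`, a domain with fraction field `K`,
then the point of `X` defined by `Spec K → Spec 𝒪_{X,x} → X` lies in all nonempty opens of `X₀`. -/
theorem generic_mem {X : Scheme.{u}} {x : X} {K : Type u} [Field K]
    [Algebra (X.presheaf.stalk x) K] [FaithfulSMul (X.presheaf.stalk x) K] {X₀ : X.Opens} (hX₀ : IsAffineOpen X₀)
    (hx : x ∈ X₀) (hinj : Function.Injective (X.presheaf.germ X₀ x hx)) (V : X.Opens) (hV : V ≤ X₀)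
    (hne : (V : Set X).Nonempty) (z : Spec (CommRingCat.of K)) :
    (Spec.map (CommRingCat.ofHom (algebraMap (X.presheaf.stalk x) K)) ≫ X.fromSpecStalk x) z ∈ V := by
  have hcomp : Spec.map (CommRingCat.ofHom (algebraMap (X.presheaf.stalk x) K)) ≫ X.fromSpecStalk x =
      Spec.map (X.presheaf.germ X₀ x hx ≫ CommRingCat.ofHom (algebraMap (X.presheaf.stalk x) K)) ≫
        hX₀.fromSpec := by
    rw [← hX₀.fromSpecStalk_eq_fromSpecStalk hx, IsAffineOpen.fromSpecStalk, Spec.map_comp,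
      Category.assoc]
    rfl
  rw [hcomp]
  set φ := (X.presheaf.germ X₀ x hx ≫ CommRingCat.ofHom (algebraMap (X.presheaf.stalk x) K)) with hφ
  have hφinj : Function.Injective φ.hom := by
    rw [hφ, CommRingCat.hom_comp]
    exact (FaithfulSMul.algebraMap_injective (X.presheaf.stalk x) K).comp hinj
  have hd : DenseRange (PrimeSpectrum.comap φ.hom) := by
    rw [PrimeSpectrum.denseRange_comap_iff_ker_le_nilRadical, (RingHom.injective_iff_ker_eq_bot _).mp hφinj]
    exact bot_le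
  have hopen : IsOpen (hX₀.fromSpec ⁻¹' (V : Set X)) := V.2.preimage hX₀.fromSpec.continuous
  have hne' : (hX₀.fromSpec ⁻¹' (V : Set X)).Nonempty := by
    obtain ⟨v, hv⟩ := hne
    have : v ∈ Set.range hX₀.fromSpec := by
      rw [hX₀.range_fromSpec]; exact hV hv
    obtain ⟨w, rfl⟩ := this
    exact ⟨w, hv⟩
  obtain ⟨z', hz'⟩ := hd.exists_mem_open hopen hne'
  have hz : z = z' := Subsingleton.elim (α := PrimeSpectrum K) _ _
  subst hz
  exact hz'

/-- Extension of a morphism to a proper scheme over a point whose local ring is a valuation ring. -/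
theorem exists_local_extension {S X Y : Scheme.{u}} (f : X ⟶ S) (g : Y ⟶ S) [IsProper g]
    (U : X.Opens) (hU : Dense (U : Set X)) (h : (U : Scheme.{u}) ⟶ Y) (hh : h ≫ g = U.ι ≫ f)
    (x : X) [X.IsGermInjectiveAt x] [IsDomain (X.presheaf.stalk x)]
    [ValuationRing (X.presheaf.stalk x)] :
    ∃ (W : X.Opens) (_ : x ∈ W) (h' : (W : Scheme.{u}) ⟶ Y), h' ≫ g = W.ι ≫ f ∧
      X.homOfLE (inf_le_left : W ⊓ U ≤ W) ≫ h' = X.homOfLE (inf_le_right : W ⊓ U ≤ U) ≫ h := by
  obtain ⟨X₀, hx, hX₀, hinj⟩ := X.exists_germ_injective x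
  let K : Type u := FractionRing (X.presheaf.stalk x)
  let t : Spec (CommRingCat.of K) ⟶ X :=
    Spec.map (CommRingCat.ofHom (algebraMap (X.presheaf.stalk x) K)) ≫ X.fromSpecStalk x
  have ht : ∀ (V : X.Opens), V ≤ X₀ → (V : Set X).Nonempty → ∀ z, t z ∈ V := fun V hV hne z =>
    generic_mem hX₀ hx hinj V hV hne z
  have htU : Set.range t ⊆ Set.range U.ι := by
    rintro _ ⟨z, rfl⟩
    have hne : ((X₀ ⊓ U : X.Opens) : Set X).Nonempty := by
      obtain ⟨y, hy⟩ := hU.inter_open_nonempty X₀ X₀.2 ⟨x, hx⟩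
      exact ⟨y, hy⟩
    have := (ht (X₀ ⊓ U) inf_le_left hne z).2
    simpa using this
  let a : Spec (CommRingCat.of K) ⟶ (U : Scheme.{u}) := IsOpenImmersion.lift U.ι t htU
  have ha : a ≫ U.ι = t := IsOpenImmersion.lift_fac _ _ _
  let sq : ValuativeCommSq g :=
    { R := X.presheaf.stalk x
      commRing := inferInstance
      domain := inferInstance
      valuationRing := inferInstance
      K := K
      field := inferInstance
      algebra := inferInstance
      isFractionRing := inferInstance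
      i₁ := a ≫ h
      i₂ := X.fromSpecStalk x ≫ f
      commSq := ⟨by
        rw [Category.assoc, hh, reassoc_of% ha]
        simp only [t, Category.assoc]⟩ }
  have hex : ValuativeCriterion.Existence g :=
    ((UniversallyClosed.eq_valuativeCriterion ▸ (inferInstance : UniversallyClosed g) :
      (ValuativeCriterion.Existence ⊓ @QuasiCompact) g)).1
  obtain ⟨⟨l, hl₁, hl₂⟩⟩ := (hex sq).exists_lift
  obtain ⟨W', hxW', h', hl₃, hl₄⟩ := spread_out_of_isGermInjective' f g (x := x) l hl₂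
  have htl : Spec.map (CommRingCat.ofHom (algebraMap (X.presheaf.stalk x) K)) ≫ l = a ≫ h := hl₁
  let W : X.Opens := W' ⊓ X₀
  refine ⟨W, ⟨hxW', hx⟩, X.homOfLE inf_le_left ≫ h', by rw [Category.assoc, hl₄]; simp [W], ?_⟩
  have hdom : IsDomain Γ(X, X₀) := hinj.isDomain (X.presheaf.germ X₀ x hx).hom
  have hredX₀ : IsReduced (X₀ : Scheme.{u}) := by
    have : IsAffine X₀ := hX₀
    have : IsReduced Γ(X₀, ⊤) := by
      have e : Γ(X₀, ⊤) ≃+* Γ(X, X₀) := X₀.topIso.commRingCatIsoToRingEquiv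
      exact isReduced_of_injective e.toRingHom e.injective
    exact isReduced_of_isAffine_isReduced _
  have hWU : W ⊓ U ≤ X₀ := inf_le_left.trans inf_le_right
  have hred : IsReduced ((W ⊓ U : X.Opens) : Scheme.{u}) :=
    isReduced_of_isOpenImmersion (X.homOfLE hWU)
  have htWU : Set.range t ⊆ Set.range (W ⊓ U).ι := by
    rintro _ ⟨z, rfl⟩
    have hne : ((W ⊓ U : X.Opens) : Set X).Nonempty := by
      obtain ⟨y, hy⟩ := hU.inter_open_nonempty W W.2 ⟨x, ⟨hxW', hx⟩⟩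
      exact ⟨y, hy⟩
    have := (ht (W ⊓ U) hWU hne z)
    simpa using this
  let t' : Spec (CommRingCat.of K) ⟶ ((W ⊓ U : X.Opens) : Scheme.{u}) :=
    IsOpenImmersion.lift (W ⊓ U).ι t htWU
  have ht' : t' ≫ (W ⊓ U).ι = t := IsOpenImmersion.lift_fac _ _ _
  have hdom' : IsDominant t' := by
    refine ⟨?_⟩
    rw [DenseRange, dense_iff_inter_open]
    intro V hV hne
    let V' : ((W ⊓ U : X.Opens) : Scheme.{u}).Opens := ⟨V, hV⟩
    let z : Spec (CommRingCat.of K) := (default : PrimeSpectrum K)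
    have hz := ht ((W ⊓ U).ι ''ᵁ V') ((Scheme.Opens.ι_image_le _ _).trans hWU) (by
      obtain ⟨v, hv⟩ := hne
      exact ⟨_, ⟨v, hv, rfl⟩⟩) z
    obtain ⟨v, hv, hvz⟩ := hz
    refine ⟨v, hv, z, ?_⟩
    apply (W ⊓ U).ι.isOpenEmbedding.injective
    calc (W ⊓ U).ι (t' z) = (t' ≫ (W ⊓ U).ι) z := rfl
      _ = t z := by rw [ht']
      _ = (W ⊓ U).ι v := hvz.symm
  refine ext_of_isDominant_of_isSeparated g ?_ t' ?_
  · simp [hl₄, hh, W]
  · have e1 : t' ≫ X.homOfLE (inf_le_right : W ⊓ U ≤ U) = a := by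
      rw [← cancel_mono U.ι, Category.assoc, Scheme.homOfLE_ι, ht', ha]
    have e2 : t' ≫ X.homOfLE (inf_le_left : W ⊓ U ≤ W) ≫ X.homOfLE (inf_le_left : W ≤ W') =
        Spec.map (CommRingCat.ofHom (algebraMap (X.presheaf.stalk x) K)) ≫
          W'.fromSpecStalkOfMem x hxW' := by
      rw [← cancel_mono W'.ι]
      simp only [Category.assoc, Scheme.homOfLE_ι, Scheme.Opens.fromSpecStalkOfMem_ι]
      exact ht'
    rw [reassoc_of% e1, reassoc_of% e2, ← hl₃, htl]

/-- Extension of a rational map into a proper scheme over all points whose local rings are valuation rings. -/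
theorem exists_extension {S X Y : Scheme.{u}} (f : X ⟶ S) (g : Y ⟶ S) [IsProper g] [IsReduced X]
    [∀ x : X, X.IsGermInjectiveAt x] (U : X.Opens) (hU : Dense (U : Set X))
    (h : (U : Scheme.{u}) ⟶ Y) (hh : h ≫ g = U.ι ≫ f) :
    ∃ (W : X.Opens) (hUW : U ≤ W) (h' : (W : Scheme.{u}) ⟶ Y), h' ≫ g = W.ι ≫ f ∧
      X.homOfLE hUW ≫ h' = h ∧
      ∀ (x : X) [IsDomain (X.presheaf.stalk x)] [ValuationRing (X.presheaf.stalk x)], x ∈ W := by
  let ι : Type u := {p : Σ V : X.Opens, ((V : Scheme.{u}) ⟶ Y) // p.2 ≫ g = p.1.ι ≫ f ∧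
    X.homOfLE (inf_le_left : p.1 ⊓ U ≤ p.1) ≫ p.2 = X.homOfLE (inf_le_right : p.1 ⊓ U ≤ U) ≫ h}
  let i₀ : ι := ⟨⟨U, h⟩, hh, rfl⟩
  obtain ⟨F, hF⟩ := exists_glue (ι := ι) (fun i => i.1.1) (fun i => i.1.2) (by
    intro i j
    have hle : i.1.1 ⊓ j.1.1 ⊓ U ≤ i.1.1 ⊓ j.1.1 := inf_le_left
    have hdom : IsDominant (X.homOfLE hle) := by
      refine ⟨?_⟩
      rw [DenseRange, dense_iff_inter_open]
      intro V hV hne
      obtain ⟨v, hv⟩ := hne
      let V' : ((i.1.1 ⊓ j.1.1 : X.Opens) : Scheme.{u}).Opens := ⟨V, hV⟩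
      obtain ⟨y, hy, hyU⟩ := hU.inter_open_nonempty _ ((i.1.1 ⊓ j.1.1).ι ''ᵁ V').2 ⟨_, ⟨v, hv, rfl⟩⟩
      obtain ⟨w, hw, rfl⟩ := hy
      have hw' : (i.1.1 ⊓ j.1.1).ι w ∈ i.1.1 ⊓ j.1.1 ⊓ U := ⟨w.2, hyU⟩
      refine ⟨w, hw, ⟨_, hw'⟩, ?_⟩
      apply Subtype.ext
      simp
    refine ext_of_isDominant_of_isSeparated g ?_ (X.homOfLE hle) ?_
    · rw [Category.assoc, Category.assoc, i.2.1, j.2.1]
      simp
    · have e1 : X.homOfLE (show i.1.1 ⊓ j.1.1 ⊓ U ≤ i.1.1 ⊓ U from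
        le_inf (inf_le_left.trans inf_le_left) inf_le_right) ≫ X.homOfLE inf_le_left ≫ i.1.2 =
        X.homOfLE (show i.1.1 ⊓ j.1.1 ⊓ U ≤ j.1.1 ⊓ U from
        le_inf (inf_le_left.trans inf_le_right) inf_le_right) ≫ X.homOfLE inf_le_left ≫ j.1.2 := by
        rw [i.2.2, j.2.2]
        simp
      simpa using e1)
  refine ⟨⨆ i : ι, i.1.1, le_iSup (fun i : ι => i.1.1) i₀, F, ?_, hF i₀, ?_⟩
  · refine iSup_hom_ext _ _ _ fun i => ?_
    rw [reassoc_of% (hF i), i.2.1]
    simp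
  · intro x _ _
    obtain ⟨W, hxW, h', h1, h2⟩ := exists_local_extension f g U hU h hh x
    exact (le_iSup (fun i : ι => i.1.1) ⟨⟨W, h'⟩, h1, h2⟩) hxW

end Groth.Agent.Sga1.BiratExt
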