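import Groth.Agent.Sga1.LocTriv
import Groth.Agent.Pi1A.FEtAffine
import Groth.Agent.Desc.LocalRep
import Mathlib.RingTheory.Etale.Field
import Mathlib.RingTheory.Etale.Pi

/-!
# The presheaf of sections over a separably closed field
-/

set_option autoImplicit false
set_option backward.isDefEq.respectTransparency false
set_option backward.isDefEq.respectTransparency.types false

open CategoryTheory CategoryTheory.Limits AlgebraicGeometry Opposite TensorProduct
open _root_.Desc Groth.Agent.Desc.SecFunctor Groth.Agent.Desc.SecPresheaf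
  Groth.Agent.Desc.SecDescent Groth.Agent.Desc.ZarGlue Groth.Agent.Desc.LocalRep
open Groth.Agent.Sga1.SectionSpread Groth.Agent.Pi1A.FEtAffine

namespace Groth.Agent.Sga1.ClosedFibre

universe u

instance isFinite_str_pi (A ι : Type u) [CommRing A] [Finite ι] : IsFinite (str A (ι → A)) :=
  (ofAlgebra A (ι → A)).prop.1

instance etale_str_pi (A ι : Type u) [CommRing A] [Finite ι] : Etale (str A (ι → A)) :=
  (ofAlgebra A (ι → A)).prop.2

/-- Finite étale schemes over separably closed fields are split. -/
theorem exists_split (A k : Type u) [CommRing A] [Field k] [IsSepClosed k] [Algebra A k]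
    (U : Over (Spec (CommRingCat.of k))) (h₁ : IsFinite U.hom) (h₂ : Etale U.hom) :
    ∃ (ι : Type u) (_ : Finite ι),
      Nonempty (U ≅ Over.mk (pullback.snd (str A (ι → A)) (str A k))) := by
  let Y : FEt.Cat (Spec (CommRingCat.of k)) := MorphismProperty.Over.mk ⊤ U.hom ⟨h₁, h₂⟩
  obtain ⟨E, _, _, _, _, ⟨e⟩⟩ := exists_iso_ofAlgebra Y
  let ι := PrimeSpectrum E
  have : IsArtinianRing E := isArtinian_of_tower k inferInstance
  have hι : Finite ι := inferInstance
  let e₁ : E ≃ₐ[k] (ι → k) := Algebra.FormallyEtale.equivPiOfIsSepClosed k E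
  let e₂ : (k ⊗[A] (ι → A)) ≃ₐ[k] (ι → k) := by
    classical
    letI := Fintype.ofFinite ι
    exact Algebra.TensorProduct.piScalarRight A k k ι
  let i : Y ≅ (FEt.restrict (specMap A k)).obj (ofAlgebra A (ι → A)) :=
    e ≪≫ isoOfAlgEquiv (e₁.trans e₂.symm).symm ≪≫ (restrictOfAlgebraIso A k (ι → A)).symm
  exact ⟨ι, hι, ⟨(MorphismProperty.Over.forget _ _ _).mapIso i⟩⟩

/-- Over a separably closed field, the presheaf of sections of a finite étale descent datum is represented
by a trivial cover. -/
theorem exists_rep {A k : Type u} [CommRing A] [Field k] [IsSepClosed k] [Algebra A k]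
    {X : Scheme.{u}} {p : X ⟶ Spec (CommRingCat.of A)} [Surjective p] [QuasiCompact p]
    (D : SchDD p) [IsFinite D.obj.hom] [Etale D.obj.hom] :
    ∃ (ι : Type u) (_ : Finite ι), Nonempty ((restr (str A k) (secFunctor D)).RepresentableBy
      (Over.mk (pullback.snd (str A (ι → A)) (str A k)))) := by
  let q : Spec (CommRingCat.of k) ⟶ Spec (CommRingCat.of A) := str A k
  let p' : pullback p q ⟶ Spec (CommRingCat.of k) := pullback.snd p q
  have hsub : Subsingleton (Spec (CommRingCat.of k)) :=
    inferInstanceAs (Subsingleton (PrimeSpectrum k))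
  have hflat : Flat p' := inferInstance
  let E : Over (pullback p q) := (Over.pullback (pullback.fst p q)).obj D.obj
  have hE1 : IsFinite E.hom := inferInstanceAs (IsFinite (pullback.snd D.obj.hom (pullback.fst p q)))
  have hE2 : Etale E.hom := inferInstanceAs (Etale (pullback.snd D.obj.hom (pullback.fst p q)))
  let F := restr q (secFunctor D)
  have hF : IsPSheaf p' F := isPSheaf_restr q (isPSheaf_secFunctor D)
  let e : (restr p' F).RepresentableBy E :=
    pullRepSq (p' := p') (q := q) (a := pullback.fst p q) pullback.condition.symm (restrRep D)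
  obtain ⟨U, ⟨r⟩, ⟨i⟩⟩ := exists_rep_of_fpqc p' hF E (by
    exact Groth.Agent.Desc.LqfQAff.isQuasiAffine_of_etale E.hom) e
  have hfpqc : (@Surjective ⊓ @Flat ⊓ @QuasiCompact : MorphismProperty Scheme.{u}) p' :=
    ⟨⟨inferInstance, inferInstance⟩, inferInstance⟩
  have hP : (@IsFinite ⊓ @Etale : MorphismProperty Scheme.{u}) (pullback.snd U.hom p') := by
    have h3 : (@IsFinite ⊓ @Etale : MorphismProperty Scheme.{u}) ((Over.pullback p').obj U).hom := by
      rw [← Over.w i.hom]
      exact ((@IsFinite ⊓ @Etale : MorphismProperty Scheme.{u}).cancel_left_of_respectsIso _ _).mpr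
        ⟨hE1, hE2⟩
    exact h3
  have := Groth.Agent.Desc.MorDescent.descendsAlong_isFinite.{u}
  have hU1 : IsFinite U.hom := MorphismProperty.of_pullback_snd_of_descendsAlong
    (P := @IsFinite) (Q := (@Surjective ⊓ @Flat ⊓ @QuasiCompact : MorphismProperty Scheme.{u}))
    hfpqc hP.1
  have hU2 : Etale U.hom := MorphismProperty.of_pullback_snd_of_descendsAlong
    (P := @Etale) (Q := (@Surjective ⊓ @Flat ⊓ @QuasiCompact : MorphismProperty Scheme.{u}))
    hfpqc hP.2
  obtain ⟨ι, hι, ⟨j⟩⟩ := exists_split A k U hU1 hU2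
  exact ⟨ι, hι, ⟨r.ofIsoObj j.symm⟩⟩

end Groth.Agent.Sga1.ClosedFibre
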