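import Groth.Agent.Sga1.FreeQuot
import Mathlib.RingTheory.LocalProperties.Basic
import Mathlib.RingTheory.Etale.Kaehler
import Groth.Agent.Desc.FlatFactor

/-!
Quotients of etale algebras by finite groups: if `B` is an unramified `A`-algebra of finite type and `G` is a finite
group acting on `B` by `A`-algebra automorphisms, then `B` is finite projective and etale over `B^G`.
-/

set_option autoImplicit false

namespace Groth.Agent.Sga1.EtaleQuot

open TensorProduct Groth.Agent.Sga1.FreeQuot

section Local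

/-- Sums over classes. -/
theorem sum_eq_of_local {G R : Type*} [Fintype G] [DecidableEq G] [CommRing R] (E : G → G → R) (F : G → R)
    (hE : ∀ g h, E g h = 0 ∨ E g h = 1) (hF : ∀ g h, E g h = 1 → F g = F h)
    (r : G → ℕ) (hr : Function.Injective r) (s : Setoid G) (hs : ∀ g h, s g h ↔ E g h = 1)
    [DecidableEq (Quotient s)] [Fintype (Quotient s)] :
    ∑ g, (∏ h ∈ Finset.univ.filter (fun h => r h < r g), (1 - E g h)) * F g =
      ∑ c : Quotient s, F c.out := by
  classical
  rw [← Finset.sum_fiberwise Finset.univ (fun g => (Quotient.mk s g))]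
  refine Finset.sum_congr rfl fun c _ => ?_
  obtain ⟨m, hm, hmin⟩ := Finset.exists_min_image (Finset.univ.filter fun g => Quotient.mk s g = c) r
    ⟨c.out, by simp⟩
  have hmc : Quotient.mk s m = c := (Finset.mem_filter.mp hm).2
  rw [Finset.sum_eq_single_of_mem m hm]
  · rw [Finset.prod_eq_one, one_mul]
    · apply hF
      rw [← hs]
      apply Quotient.exact
      rw [hmc, Quotient.out_eq]
    · intro h hh
      have hlt : r h < r m := (Finset.mem_filter.mp hh).2
      rcases hE m h with h0 | h1
      · rw [h0, sub_zero]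
      · exfalso
        have : Quotient.mk s h = c := by
          rw [← hmc]
          exact (Quotient.sound ((hs m h).mpr h1)).symm
        exact absurd (hmin h (by simp [this])) (not_le.mpr hlt)
  · intro g hg hgm
    have hgc : Quotient.mk s g = c := (Finset.mem_filter.mp hg).2
    have hlt : r m < r g := lt_of_le_of_ne (hmin g hg) (fun h => hgm (hr h).symm)
    have h1 : E g m = 1 := by
      rw [← hs]
      apply Quotient.exact
      rw [hmc, hgc]
    rw [Finset.prod_eq_zero (i := m) (by simp [hlt]) (by rw [h1, sub_self]), zero_mul]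

/-- Independence of the ordering in the local case. -/
theorem sum_eq_sum_of_local {G R : Type*} [Fintype G] [CommRing R] (E : G → G → R) (F : G → R)
    (hE : ∀ g h, E g h = 0 ∨ E g h = 1) (hrefl : ∀ g, E g g = 1) (hsymm : ∀ g h, E g h = 1 → E h g = 1)
    (htrans : ∀ g h k, E g h = 1 → E h k = 1 → E g k = 1) (hF : ∀ g h, E g h = 1 → F g = F h)
    (r r' : G → ℕ) (hr : Function.Injective r) (hr' : Function.Injective r') :
    ∑ g, (∏ h ∈ Finset.univ.filter (fun h => r h < r g), (1 - E g h)) * F g =
      ∑ g, (∏ h ∈ Finset.univ.filter (fun h => r' h < r' g), (1 - E g h)) * F g := by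
  classical
  let s : Setoid G := ⟨fun g h => E g h = 1, hrefl, fun {g h} => hsymm g h, fun {g h k} => htrans g h k⟩
  rw [sum_eq_of_local E F hE hF r hr s (fun _ _ => Iff.rfl),
    sum_eq_of_local E F hE hF r' hr' s (fun _ _ => Iff.rfl)]

/-- Independence of the ordering in general. -/
theorem sum_eq_sum {G R : Type*} [Fintype G] [CommRing R] (E : G → G → R) (F : G → R)
    (hE : ∀ g h, E g h * E g h = E g h) (hrefl : ∀ g, E g g = 1) (hsymm : ∀ g h, E g h = E h g)
    (htrans : ∀ g h k, E g h * E h k * (1 - E g k) = 0) (hF : ∀ g h, E g h * (F g - F h) = 0)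
    (r r' : G → ℕ) (hr : Function.Injective r) (hr' : Function.Injective r') :
    ∑ g, (∏ h ∈ Finset.univ.filter (fun h => r h < r g), (1 - E g h)) * F g =
      ∑ g, (∏ h ∈ Finset.univ.filter (fun h => r' h < r' g), (1 - E g h)) * F g := by
  rw [← sub_eq_zero]
  refine eq_zero_of_localization _ fun P hP => ?_
  set φ := algebraMap R (Localization.AtPrime P)
  rw [map_sub, sub_eq_zero]
  simp only [map_sum, map_mul, map_prod, map_sub, map_one]
  have hone : ∀ g h, φ (E g h) = 0 ∨ φ (E g h) = 1 := by
    intro g h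
    have h1 : φ (E g h) * (1 - φ (E g h)) = 0 := by
      rw [mul_sub, mul_one, ← map_mul, hE, sub_self]
    rcases IsLocalRing.isUnit_or_isUnit_one_sub_self (φ (E g h)) with hu | hu
    · right
      have := (hu.mul_right_eq_zero).mp h1
      exact (sub_eq_zero.mp this).symm
    · left
      exact (hu.mul_left_eq_zero).mp h1
  refine sum_eq_sum_of_local (fun g h => φ (E g h)) (fun g => φ (F g)) hone ?_ ?_ ?_ ?_ r r' hr hr'
  · intro g; simp [hrefl]
  · intro g h hgh; rw [hsymm h g]; exact hgh
  · intro g h k h1 h2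
    have := congrArg φ (htrans g h k)
    simp only [map_mul, map_sub, map_one, map_zero] at this
    rw [h1, h2, one_mul, one_mul, sub_eq_zero] at this
    exact this.symm
  · intro g h h1
    have := congrArg φ (hF g h)
    simp only [map_mul, map_sub, map_zero] at this
    rw [h1, one_mul, sub_eq_zero] at this
    exact this

end Local

section

variable (A : Type*) {B G : Type*} [CommRing A] [CommRing B] [Algebra A B] [Group G]
  [MulSemiringAction G B] [SMulCommClass G A B]

/-- Data of a separability idempotent. -/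
def IsSepIdem (t : B ⊗[A] B) : Prop :=
  (∀ s : B, ((1 : B) ⊗ₜ[A] s - s ⊗ₜ[A] (1 : B)) * t = 0) ∧ ev A (1 : G) t = 1

variable {A}

theorem smul_sub_mul_ev {t : B ⊗[A] B} (ht : IsSepIdem A (G := G) t) (g : G) (b : B) :
    (g • b - b) * ev A g t = 0 := by
  have := congrArg (ev A g) (ht.1 b)
  simpa [map_mul, map_sub] using this

theorem ev_one {t : B ⊗[A] B} (ht : IsSepIdem A (G := G) t) : ev A (1 : G) t = 1 := ht.2

/-- The ideal of the fixed locus. -/
def fixIdeal (B : Type*) {G : Type*} [CommRing B] [Group G] [MulSemiringAction G B] (g : G) : Ideal B :=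
  Ideal.span (Set.range fun b : B => g • b - b)

theorem mul_ev_eq_zero {t : B ⊗[A] B} (ht : IsSepIdem A (G := G) t) (g : G) {x : B} (hx : x ∈ fixIdeal B g) :
    x * ev A g t = 0 := by
  refine Submodule.span_induction (p := fun x _ => x * ev A g t = 0) ?_ ?_ ?_ ?_ hx
  · rintro _ ⟨b, rfl⟩
    exact smul_sub_mul_ev ht g b
  · exact zero_mul _
  · intro x y _ _ hx hy
    rw [add_mul, hx, hy, add_zero]
  · intro a x _ hx
    rw [smul_eq_mul, mul_assoc, hx, mul_zero]

theorem ev_one_sub_ev_mem (t : B ⊗[A] B) (g : G) : ev A (1 : G) t - ev A g t ∈ fixIdeal B g := by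
  induction t with
  | zero => simp
  | tmul x y =>
    simp only [ev_tmul, one_smul]
    have : x * y - x * g • y = (-x) * (g • y - y) := by ring
    rw [this]
    exact Ideal.mul_mem_left _ _ (Ideal.subset_span ⟨y, rfl⟩)
  | add s t hs ht =>
    have : ev A (1 : G) (s + t) - ev A g (s + t) =
      (ev A (1 : G) s - ev A g s) + (ev A (1 : G) t - ev A g t) := by
      simp only [map_add]; ring
    rw [this]
    exact Ideal.add_mem _ hs ht

theorem one_sub_ev_mem {t : B ⊗[A] B} (ht : IsSepIdem A (G := G) t) (g : G) :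
    1 - ev A g t ∈ fixIdeal B g := by
  have := ev_one_sub_ev_mem t g
  rwa [ev_one ht] at this

theorem ev_mul_self {t : B ⊗[A] B} (ht : IsSepIdem A (G := G) t) (g : G) :
    ev A g t * ev A g t = ev A g t := by
  have := mul_ev_eq_zero ht g (one_sub_ev_mem ht g)
  rw [sub_mul, one_mul, sub_eq_zero] at this
  exact this.symm

theorem smul_mem_fixIdeal (h g : G) {x : B} (hx : x ∈ fixIdeal B g) : h • x ∈ fixIdeal B (h * g * h⁻¹) := by
  refine Submodule.span_induction (p := fun x _ => h • x ∈ fixIdeal B (h * g * h⁻¹)) ?_ ?_ ?_ ?_ hx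
  · rintro _ ⟨b, rfl⟩
    refine Ideal.subset_span ⟨h • b, ?_⟩
    simp only [smul_sub, ← mul_smul]
    congr 2
    group
  · simp
  · intro x y _ _ hx hy
    rw [smul_add]; exact Ideal.add_mem _ hx hy
  · intro a x _ hx
    rw [smul_eq_mul, smul_mul']
    exact Ideal.mul_mem_left _ _ hx

/-- Uniqueness of the idempotent generator. -/
theorem eq_of_idem {I : Ideal B} {e e' : B} (h1 : 1 - e ∈ I) (h2 : ∀ x ∈ I, x * e = 0)
    (h1' : 1 - e' ∈ I) (h2' : ∀ x ∈ I, x * e' = 0) : e = e' := by
  have a1 := h2' _ h1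
  have a2 := h2 _ h1'
  have : e' = e * e' := by linear_combination a1
  rw [this]
  linear_combination a2

theorem smul_ev {t : B ⊗[A] B} (ht : IsSepIdem A (G := G) t) (h g : G) :
    h • ev A g t = ev A (h * g * h⁻¹) t := by
  refine eq_of_idem (I := fixIdeal B (h * g * h⁻¹)) ?_ ?_ (one_sub_ev_mem ht _)
    (fun x hx => mul_ev_eq_zero ht _ hx)
  · have := smul_mem_fixIdeal h g (one_sub_ev_mem ht g)
    rwa [smul_sub, smul_one] at this
  · intro x hx
    have h1 : h⁻¹ • x ∈ fixIdeal B (h⁻¹ * (h * g * h⁻¹) * h⁻¹⁻¹) := smul_mem_fixIdeal h⁻¹ _ hx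
    have h2 : h⁻¹ * (h * g * h⁻¹) * h⁻¹⁻¹ = g := by group
    rw [h2] at h1
    have h3 := mul_ev_eq_zero ht g h1
    have h4 := congrArg (fun y => h • y) h3
    simpa [smul_mul'] using h4

theorem fixIdeal_mul_le (g h : G) : fixIdeal B (g * h) ≤ fixIdeal B g ⊔ fixIdeal B h := by
  rw [fixIdeal, Ideal.span_le]
  rintro _ ⟨b, rfl⟩
  have : (g * h) • b - b = (g • (h • b) - h • b) + (h • b - b) := by
    rw [mul_smul]; ring
  simp only [this]
  exact Ideal.add_mem _ (Ideal.mem_sup_left (Ideal.subset_span ⟨h • b, rfl⟩))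
    (Ideal.mem_sup_right (Ideal.subset_span ⟨b, rfl⟩))

theorem ev_mul_ev_mul {t : B ⊗[A] B} (ht : IsSepIdem A (G := G) t) (g h : G) :
    ev A g t * ev A h t * (1 - ev A (g * h) t) = 0 := by
  obtain ⟨x, hx, y, hy, hxy⟩ := Submodule.mem_sup.mp (fixIdeal_mul_le g h (one_sub_ev_mem ht (g * h)))
  rw [← hxy]
  have h1 := mul_ev_eq_zero ht g hx
  have h2 := mul_ev_eq_zero ht h hy
  linear_combination (ev A h t) * h1 + (ev A g t) * h2

theorem fixIdeal_inv_le (g : G) : fixIdeal B g⁻¹ ≤ fixIdeal B g := by
  rw [fixIdeal, Ideal.span_le]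
  rintro _ ⟨b, rfl⟩
  have : g⁻¹ • b - b = - (g • (g⁻¹ • b) - g⁻¹ • b) := by
    rw [smul_inv_smul]; ring
  simp only [this]
  exact neg_mem (Ideal.subset_span ⟨g⁻¹ • b, rfl⟩)

theorem fixIdeal_inv (g : G) : fixIdeal B g⁻¹ = fixIdeal B g :=
  le_antisymm (fixIdeal_inv_le g) (by simpa using fixIdeal_inv_le (B := B) g⁻¹)

theorem ev_inv {t : B ⊗[A] B} (ht : IsSepIdem A (G := G) t) (g : G) : ev A g⁻¹ t = ev A g t := by
  refine eq_of_idem (I := fixIdeal B g) ?_ ?_ (one_sub_ev_mem ht _) (fun x hx => mul_ev_eq_zero ht _ hx)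
  · rw [← fixIdeal_inv]; exact one_sub_ev_mem ht _
  · intro x hx
    rw [← fixIdeal_inv] at hx
    exact mul_ev_eq_zero ht _ hx

variable [Fintype G]

/-- The reduced trace attached to an ordering `r`. -/
noncomputable def rtr (t : B ⊗[A] B) (r : G → ℕ) (b : B) : B :=
  ∑ g, (∏ h ∈ Finset.univ.filter (fun h => r h < r g), (1 - ev A (g * h⁻¹) t)) * (g • b)

theorem rtr_indep {t : B ⊗[A] B} (ht : IsSepIdem A (G := G) t) (r r' : G → ℕ)
    (hr : Function.Injective r) (hr' : Function.Injective r') (b : B) : rtr t r b = rtr t r' b := by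
  refine sum_eq_sum (fun g h => ev A (g * h⁻¹) t) (fun g => g • b) ?_ ?_ ?_ ?_ ?_ r r' hr hr'
  · intro g h; exact ev_mul_self ht _
  · intro g; rw [mul_inv_cancel]; exact ev_one ht
  · intro g h
    rw [← ev_inv ht (g * h⁻¹), mul_inv_rev, inv_inv]
  · intro g h k
    have := ev_mul_ev_mul ht (g * h⁻¹) (h * k⁻¹)
    have h2 : g * h⁻¹ * (h * k⁻¹) = g * k⁻¹ := by group
    rwa [h2] at this
  · intro g h
    have := smul_sub_mul_ev ht (g * h⁻¹) (h • b)
    rw [← mul_smul, inv_mul_cancel_right] at this
    rw [mul_comm]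
    exact this

theorem smul_rtr {t : B ⊗[A] B} (ht : IsSepIdem A (G := G) t) (r : G → ℕ) (hr : Function.Injective r)
    (b : B) (k : G) : k • rtr t r b = rtr t r b := by
  have h1 : k • rtr t r b = rtr t (fun g => r (k⁻¹ * g)) b := by
    unfold rtr
    rw [Finset.smul_sum]
    refine Fintype.sum_equiv (Equiv.mulLeft k) _ _ fun g => ?_
    rw [smul_mul', Equiv.coe_mulLeft, ← mul_smul]
    congr 1
    rw [Finset.smul_prod']
    refine Finset.prod_equiv (Equiv.mulLeft k) ?_ ?_
    · intro h; simp
    · intro h _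
      rw [smul_sub, smul_one, smul_ev ht, Equiv.coe_mulLeft]
      congr 3
      group
  rw [h1]
  exact rtr_indep ht _ _ (fun x y hxy => mul_left_cancel (hr hxy)) hr b

theorem rtr_add (t : B ⊗[A] B) (r : G → ℕ) (b c : B) : rtr t r (b + c) = rtr t r b + rtr t r c := by
  simp only [rtr, smul_add, mul_add, Finset.sum_add_distrib]

theorem rtr_mul (t : B ⊗[A] B) (r : G → ℕ) (b c : B) (hc : ∀ g : G, g • c = c) :
    rtr t r (c * b) = c * rtr t r b := by
  simp only [rtr, Finset.mul_sum, smul_mul', hc]
  exact Finset.sum_congr rfl fun g _ => by ring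

/-- The dual basis property. -/
theorem sum_mul_rtr (S : Finset (B × B)) (ht : IsSepIdem A (G := G) (∑ i ∈ S, i.1 ⊗ₜ[A] i.2))
    (r : G → ℕ) (hr : Function.Injective r) (b : B) :
    ∑ i ∈ S, i.1 * rtr (∑ i ∈ S, i.1 ⊗ₜ[A] i.2) r (i.2 * b) = b := by
  classical
  set t := ∑ i ∈ S, i.1 ⊗ₜ[A] i.2 with htdef
  have hev : ∀ g : G, ev A g t = ∑ i ∈ S, i.1 * (g • i.2) := by
    intro g
    rw [htdef, map_sum]; exact Finset.sum_congr rfl fun i _ => ev_tmul A g _ _
  -- a special ordering
  let r' : G → ℕ := fun g => if g = 1 then 0 else r g + 1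
  have hr' : Function.Injective r' := by
    intro x y hxy
    simp only [r'] at hxy
    split_ifs at hxy with h1 h2 h2
    · rw [h1, h2]
    · exact hr (by omega)
  have h1 : ∀ i ∈ S, i.1 * rtr t r (i.2 * b) = i.1 * rtr t r' (i.2 * b) := fun i _ => by
    rw [rtr_indep ht r r' hr hr']
  rw [Finset.sum_congr rfl h1]
  simp only [rtr, Finset.mul_sum]
  rw [Finset.sum_comm]
  have h2 : ∀ g : G, ∑ i ∈ S, i.1 * ((∏ h ∈ Finset.univ.filter (fun h => r' h < r' g),
      (1 - ev A (g * h⁻¹) t)) * (g • (i.2 * b))) =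
      (∏ h ∈ Finset.univ.filter (fun h => r' h < r' g), (1 - ev A (g * h⁻¹) t)) * (ev A g t * b) := by
    intro g
    have h3 : ev A g t * b = ev A g t * (g • b) := by
      have := smul_sub_mul_ev ht g b
      linear_combination -this
    rw [h3, hev, Finset.sum_mul, Finset.mul_sum]
    refine Finset.sum_congr rfl fun i _ => ?_
    rw [smul_mul']
    ring
  rw [Finset.sum_congr rfl fun g _ => h2 g, Finset.sum_eq_single_of_mem 1 (Finset.mem_univ _)]
  · rw [Finset.prod_eq_one, ev_one ht, one_mul, one_mul]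
    intro h hh
    have := (Finset.mem_filter.mp hh).2
    simp [r'] at this
  · intro g _ hg
    have hlt : r' 1 < r' g := by simp [r', hg]
    rw [← mul_assoc, ← Finset.mul_prod_erase _ _ (Finset.mem_filter.mpr ⟨Finset.mem_univ 1, hlt⟩)]
    rw [inv_one, mul_one]
    have := ev_mul_self ht g
    have h5 : (1 - ev A g t) * ev A g t = 0 := by linear_combination -this
    linear_combination (∏ x ∈ (Finset.univ.filter (fun h => r' h < r' g)).erase 1,
      (1 - ev A (g * x⁻¹) t)) * b * h5

end

section Quot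

variable (A : Type*) {B C : Type*} (G : Type*) [CommRing A] [CommRing B] [CommRing C] [Algebra A B] [Algebra C B]
  [Group G] [MulSemiringAction G B] [SMulCommClass G A B] [Finite G] [Algebra.IsInvariant C B G]
  [SMulCommClass G C B]

include A G

/-- If `B` is unramified and of finite type over `A`, the finite group `G` acts by `A`-automorphisms and `C = B^G`,
then `B` is finite projective over `C`. -/
theorem projective_finite [Algebra.FormallyUnramified A B] [Algebra.EssFiniteType A B]
    (hinj : Function.Injective (algebraMap C B)) : Module.Projective C B ∧ Module.Finite C B := by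
  classical
  cases nonempty_fintype G
  obtain ⟨t, ht1, ht2⟩ := (Algebra.FormallyUnramified.iff_exists_tensorProduct (R := A) (S := B)).mp inferInstance
  have hev : ev A (1 : G) = (Algebra.TensorProduct.lmul' A (S := B)) := by
    ext <;> simp
  have ht : IsSepIdem A (G := G) t := ⟨ht1, by rw [hev]; exact ht2⟩
  obtain ⟨S, hS⟩ := TensorProduct.exists_finset t
  rw [hS] at ht
  set t' := ∑ i ∈ S, i.1 ⊗ₜ[A] i.2 with ht'
  let r : G → ℕ := fun g => (Fintype.equivFin G g : ℕ)
  have hr : Function.Injective r := fun x y h => (Fintype.equivFin G).injective (Fin.ext h)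
  have hinv : ∀ b : B, ∃ c : C, algebraMap C B c = rtr t' r b := fun b =>
    Algebra.IsInvariant.isInvariant (A := C) (G := G) _ fun g => smul_rtr ht r hr b g
  choose ψ hψ using hinv
  have hC : ∀ (c : C) (g : G), g • algebraMap C B c = algebraMap C B c := fun c g => by
    rw [Algebra.algebraMap_eq_smul_one, smul_comm, smul_one]
  let Ψ : B →ₗ[C] C :=
    { toFun := ψ
      map_add' := fun x y => hinj (by rw [map_add, hψ, hψ, hψ, rtr_add])
      map_smul' := fun c x => hinj (by
        rw [RingHom.id_apply, smul_eq_mul, map_mul, hψ, hψ, Algebra.smul_def, rtr_mul _ _ _ _ (hC c)]) }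
  let i : B →ₗ[C] (S → C) := LinearMap.pi fun j => Ψ.comp (LinearMap.mulLeft C (j : B × B).2)
  let s : (S → C) →ₗ[C] B := Fintype.linearCombination C (fun j : S => (j : B × B).1)
  have hsi : ∀ b, s (i b) = b := by
    intro b
    simp only [s, i, Fintype.linearCombination_apply, LinearMap.pi_apply, LinearMap.comp_apply,
      LinearMap.mulLeft_apply]
    rw [Finset.sum_coe_sort S (fun j : B × B => Ψ (j.2 * b) • j.1)]
    have := sum_mul_rtr S ht r hr b
    conv_rhs => rw [← this]
    refine Finset.sum_congr rfl fun j _ => ?_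
    rw [Algebra.smul_def]
    change algebraMap C B (ψ _) * _ = _
    rw [hψ, mul_comm]
  exact ⟨Module.Projective.of_split i s (LinearMap.ext hsi),
    Module.Finite.of_surjective s fun b => ⟨i b, hsi b⟩⟩

/-- `B` is etale over `B^G`. -/
theorem etale [Algebra A C] [IsScalarTower A C B] [Algebra.FormallyUnramified A B] [Algebra.EssFiniteType A B]
    (hinj : Function.Injective (algebraMap C B)) : Algebra.Etale C B := by
  obtain ⟨h1, h2⟩ := projective_finite A G hinj
  have h3 : Module.FinitePresentation C B := Module.finitePresentation_of_projective C B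
  have h4 : Algebra.FormallyUnramified C B := Algebra.FormallyUnramified.of_restrictScalars A C B
  exact Algebra.Etale.of_formallyUnramified_of_flat

end Quot

section Descent

/-- Descent of etaleness along an etale faithfully flat extension on the source (finite type, Noetherian base). -/
theorem etale_of_etale_comp {A C B : Type*} [CommRing A] [CommRing B] [CommRing C] [Algebra A B] [Algebra A C]
    [Algebra C B] [IsScalarTower A C B] [Algebra.Etale A B] [Algebra.Etale C B] [Module.FaithfullyFlat C B]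
    [Algebra.FinitePresentation A C] : Algebra.Etale A C := by
  have h1 : Module.Flat A C :=
    Groth.Agent.Desc.FlatFactor.moduleFlat_of_flat_of_faithfullyFlat A C B
  have h2 : Algebra.FormallyUnramified A C := by
    rw [Algebra.formallyUnramified_iff]
    have h3 : Subsingleton (B ⊗[C] Ω[C⁄A]) :=
      (KaehlerDifferential.tensorKaehlerEquivOfFormallyEtale A C B).injective.subsingleton
    exact (Module.FaithfullyFlat.subsingleton_tensorProduct_iff_right C B).mp h3
  exact Algebra.Etale.of_formallyUnramified_of_flat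

end Descent

end Groth.Agent.Sga1.EtaleQuot
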