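import Mathlib.Algebra.Category.Ring.FilteredColimits
import Mathlib.Algebra.Category.Ring.Colimits
import Mathlib.Algebra.Category.Ring.Basic
import Mathlib.CategoryTheory.Limits.Types.Filtered
import Mathlib.CategoryTheory.Filtered.Basic
import Mathlib.RingTheory.FinitePresentation
import Mathlib.Algebra.MvPolynomial.Rename

/-!
# Every algebra is a filtered colimit of finitely presented algebras

For a commutative `A`-algebra `C` (same universe) we give an explicit directed system, indexed by a
directed preorder `Idx A C : Type u`, of finitely presented `A`-algebras `Stage j` with colimit `C`.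
-/

set_option autoImplicit false

open CategoryTheory CategoryTheory.Limits

namespace Groth.Agent.Sga1.FPColim

universe u

variable (A C : Type u) [CommRing A] [CommRing C] [Algebra A C]

/-- The index set: a finite set of elements of `C` and finitely many relations among them. -/
structure Idx : Type u where
  /-- generators -/
  s : Finset C
  /-- relations -/
  r : Finset (MvPolynomial s A)
  ker : ∀ q ∈ r, MvPolynomial.aeval (fun x : s ↦ (x : C)) q = 0

variable {A C}

/-- inclusion of variables. -/
noncomputable def ren {s t : Finset C} (h : s ⊆ t) : MvPolynomial s A →ₐ[A] MvPolynomial t A :=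
  MvPolynomial.rename (fun x : s ↦ (⟨x.1, h x.2⟩ : t))

omit [CommRing C] [Algebra A C] in
theorem ren_refl (s : Finset C) (h : s ⊆ s) (q : MvPolynomial s A) : ren h q = q := by
  have : ren (A := A) h = AlgHom.id A _ := by
    ext x
    simp [ren]
  rw [this]; rfl

omit [CommRing C] [Algebra A C] in
theorem ren_ren {s t v : Finset C} (h : s ⊆ t) (h' : t ⊆ v) (h'' : s ⊆ v) (q : MvPolynomial s A) :
    ren h' (ren h q) = ren h'' q := by
  have : (ren (A := A) h').comp (ren h) = ren h'' := by
    ext x
    simp [ren]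
  rw [← this]; rfl

theorem aeval_ren {s t : Finset C} (h : s ⊆ t) (q : MvPolynomial s A) :
    MvPolynomial.aeval (fun x : t ↦ (x : C)) (ren h q) =
      MvPolynomial.aeval (fun x : s ↦ (x : C)) q := by
  have : (MvPolynomial.aeval (R := A) (fun x : t ↦ (x : C))).comp (ren h) =
      MvPolynomial.aeval (fun x : s ↦ (x : C)) := by
    ext x
    simp [ren]
  rw [← this]; rfl

instance : Preorder (Idx A C) where
  le i j := ∃ h : i.s ⊆ j.s, ∀ q ∈ i.r, ren h q ∈ j.r
  le_refl i := ⟨Finset.Subset.refl _, fun q hq ↦ by rwa [ren_refl]⟩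
  le_trans i j k := by
    rintro ⟨h1, h2⟩ ⟨h3, h4⟩
    refine ⟨h1.trans h3, fun q hq ↦ ?_⟩
    rw [← ren_ren h1 h3]
    exact h4 _ (h2 _ hq)

instance : Nonempty (Idx A C) := ⟨⟨∅, ∅, by simp⟩⟩

instance : IsDirectedOrder (Idx A C) where
  directed i j := by
    classical
    have hi : i.s ⊆ i.s ∪ j.s := Finset.subset_union_left
    have hj : j.s ⊆ i.s ∪ j.s := Finset.subset_union_right
    refine ⟨⟨i.s ∪ j.s, i.r.image (ren hi) ∪ j.r.image (ren hj), ?_⟩, ⟨hi, ?_⟩, ⟨hj, ?_⟩⟩
    · intro q hq
      rw [Finset.mem_union, Finset.mem_image, Finset.mem_image] at hq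
      rcases hq with ⟨q, hq, rfl⟩ | ⟨q, hq, rfl⟩
      · rw [aeval_ren]; exact i.ker q hq
      · rw [aeval_ren]; exact j.ker q hq
    · intro q hq
      exact Finset.mem_union_left _ (Finset.mem_image_of_mem _ hq)
    · intro q hq
      exact Finset.mem_union_right _ (Finset.mem_image_of_mem _ hq)

/-- The ideal of relations. -/
noncomputable def rel (j : Idx A C) : Ideal (MvPolynomial j.s A) := Ideal.span (j.r : Set (MvPolynomial j.s A))

/-- The finitely presented algebra at stage `j`. -/
noncomputable abbrev Stage (j : Idx A C) : Type u := MvPolynomial j.s A ⧸ rel j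

instance (j : Idx A C) : Algebra.FinitePresentation A (Stage j) := by
  have : (rel j).FG := ⟨j.r, rfl⟩
  exact Algebra.FinitePresentation.quotient this

/-- Transition maps. -/
noncomputable def trans {i j : Idx A C} (h : i ≤ j) : Stage i →ₐ[A] Stage j :=
  Ideal.Quotient.liftₐ (rel i) ((Ideal.Quotient.mkₐ A (rel j)).comp (ren h.1)) (by
    intro q hq
    have : rel i ≤ RingHom.ker (((Ideal.Quotient.mkₐ A (rel j)).comp (ren h.1)) :
        MvPolynomial i.s A →ₐ[A] Stage j) := by
      rw [rel, Ideal.span_le]
      intro q hq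
      simp only [SetLike.mem_coe, RingHom.mem_ker]
      have := h.2 q hq
      simp only [AlgHom.comp_apply, Ideal.Quotient.mkₐ_eq_mk]
      rw [Ideal.Quotient.eq_zero_iff_mem]
      exact Ideal.subset_span this
    exact this hq)

@[simp]
theorem trans_mk {i j : Idx A C} (h : i ≤ j) (q : MvPolynomial i.s A) :
    trans h (Ideal.Quotient.mk (rel i) q) = Ideal.Quotient.mk (rel j) (ren h.1 q) := rfl

/-- The map of the stage `j` to `C`. -/
noncomputable def toC (j : Idx A C) : Stage j →ₐ[A] C :=
  Ideal.Quotient.liftₐ (rel j) (MvPolynomial.aeval (fun x : j.s ↦ (x : C))) (by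
    intro q hq
    have : rel j ≤ RingHom.ker (MvPolynomial.aeval (fun x : j.s ↦ (x : C)) :
        MvPolynomial j.s A →ₐ[A] C) := by
      rw [rel, Ideal.span_le]
      intro q hq
      exact j.ker q hq
    exact this hq)

@[simp]
theorem toC_mk (j : Idx A C) (q : MvPolynomial j.s A) :
    toC j (Ideal.Quotient.mk (rel j) q) = MvPolynomial.aeval (fun x : j.s ↦ (x : C)) q := rfl

theorem toC_trans {i j : Idx A C} (h : i ≤ j) (x : Stage i) : toC j (trans h x) = toC i x := by
  obtain ⟨q, rfl⟩ := Ideal.Quotient.mk_surjective x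
  rw [trans_mk, toC_mk, toC_mk, aeval_ren]

theorem toC_comp_trans {i j : Idx A C} (h : i ≤ j) : (toC j).comp (trans h) = toC i := by
  ext x
  exact toC_trans h _

theorem trans_refl (i : Idx A C) (h : i ≤ i) (x : Stage i) : trans h x = x := by
  obtain ⟨q, rfl⟩ := Ideal.Quotient.mk_surjective x
  rw [trans_mk, ren_refl]

theorem trans_trans {i j k : Idx A C} (h : i ≤ j) (h' : j ≤ k) (h'' : i ≤ k) (x : Stage i) :
    trans h' (trans h x) = trans h'' x := by
  obtain ⟨q, rfl⟩ := Ideal.Quotient.mk_surjective x
  rw [trans_mk, trans_mk, trans_mk, ren_ren h.1 h'.1 h''.1]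

variable (A C) in
/-- The diagram of the `Stage j`. -/
noncomputable def ringDiagram : Idx A C ⥤ CommRingCat.{u} where
  obj j := .of (Stage j)
  map h := CommRingCat.ofHom (trans h.le).toRingHom
  map_id j := CommRingCat.hom_ext (RingHom.ext fun x ↦ trans_refl j (𝟙 j : j ⟶ j).le x)
  map_comp {i j k} f g := CommRingCat.hom_ext
    (RingHom.ext fun x ↦ (trans_trans f.le g.le (f ≫ g).le x).symm)

variable (A C) in
/-- The cocone with point `C`. -/
noncomputable def ringCocone : Cocone (ringDiagram A C) where
  pt := .of C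
  ι :=
    { app j := CommRingCat.ofHom (toC j).toRingHom
      naturality {j k} f := CommRingCat.hom_ext (RingHom.ext fun x ↦ toC_trans f.le x) }

theorem exists_toC_eq (x : C) : ∃ (j : Idx A C) (y : Stage j), toC j y = x := by
  refine ⟨⟨{x}, ∅, by simp⟩, Ideal.Quotient.mk _ (MvPolynomial.X ⟨x, by simp⟩), ?_⟩
  rw [toC_mk]
  simp

theorem exists_trans_eq (j : Idx A C) (x y : Stage j) (h : toC j x = toC j y) :
    ∃ (k : Idx A C) (hjk : j ≤ k), trans hjk x = trans hjk y := by
  classical
  obtain ⟨a, rfl⟩ := Ideal.Quotient.mk_surjective x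
  obtain ⟨b, rfl⟩ := Ideal.Quotient.mk_surjective y
  rw [toC_mk, toC_mk] at h
  refine ⟨⟨j.s, insert (a - b) j.r, ?_⟩, ⟨Finset.Subset.refl _, ?_⟩, ?_⟩
  · intro q hq
    rcases Finset.mem_insert.mp hq with rfl | hq
    · rw [map_sub, h, sub_self]
    · exact j.ker q hq
  · intro q hq
    rw [ren_refl]
    exact Finset.mem_insert_of_mem hq
  · rw [trans_mk, trans_mk, ren_refl, ren_refl, Ideal.Quotient.eq]
    exact Ideal.subset_span (by simp)

variable (A C) in
/-- `C` is the filtered colimit of the finitely presented `A`-algebras `Stage j`. -/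
noncomputable def isColimit : IsColimit (ringCocone A C) := by
  haveI : ReflectsColimit (ringDiagram A C) (forget CommRingCat) :=
    reflectsColimit_of_reflectsIsomorphisms _ _
  refine isColimitOfReflects (forget CommRingCat) ?_
  refine Types.FilteredColimit.isColimitOf' _ _ ?_ ?_
  · intro x
    obtain ⟨j, y, hy⟩ := exists_toC_eq (A := A) (C := C) x
    exact ⟨j, y, hy.symm⟩
  · intro i x y h
    obtain ⟨k, hk, h'⟩ := exists_trans_eq (A := A) (C := C) i x y h
    exact ⟨k, homOfLE hk, h'⟩

end Groth.Agent.Sga1.FPColim
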