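import Groth.Prelude.Def_SGA1
import Mathlib.RingTheory.Etale.StandardEtale
import Mathlib.RingTheory.RegularLocalRing.Defs
import Mathlib.RingTheory.Ideal.HasGoingUp
import Mathlib.FieldTheory.IsAlgClosed.AlgebraicClosure

/-!
# Kummer algebras `A[T_1, …, T_r]/(T_i^{n_i} - f_i)`: basic facts

Universal property, finiteness, surjectivity on spectra, dimension, locality and regularity over a
regular local ring, etaleness after inverting the `f_i`.
-/

set_option autoImplicit false
universe u v

namespace Groth.Agent.Sga1.Kummer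

open MvPolynomial IsLocalRing

section Basic

variable {A : Type u} [CommRing A] {r : ℕ} (f : Fin r → A) (n : Fin r → ℕ)

/-- The class of `T_i` in the Kummer algebra. -/
noncomputable def T (i : Fin r) : SGA1.kummerAlg A f n := Ideal.Quotient.mk _ (X i)

lemma T_pow (i : Fin r) : T f n i ^ n i = algebraMap A (SGA1.kummerAlg A f n) (f i) := by
  rw [T, ← map_pow, IsScalarTower.algebraMap_apply A (MvPolynomial (Fin r) A)
    (SGA1.kummerAlg A f n), Ideal.Quotient.algebraMap_eq, Ideal.Quotient.mk_eq_mk_iff_sub_mem]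
  exact Ideal.subset_span ⟨i, rfl⟩

/-- Universal property of the Kummer algebra. -/
noncomputable def lift {S : Type v} [CommRing S] [Algebra A S] (t : Fin r → S)
    (ht : ∀ i, t i ^ n i = algebraMap A S (f i)) : SGA1.kummerAlg A f n →ₐ[A] S :=
  Ideal.Quotient.liftₐ _ (MvPolynomial.aeval t) (by
    intro a ha
    rw [← RingHom.mem_ker]
    refine (Ideal.span_le.mpr ?_ : Ideal.span _ ≤ RingHom.ker (MvPolynomial.aeval t)) ha
    rintro _ ⟨i, rfl⟩
    simp [RingHom.mem_ker, ht i])

@[simp]
lemma lift_T {S : Type v} [CommRing S] [Algebra A S] (t : Fin r → S)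
    (ht : ∀ i, t i ^ n i = algebraMap A S (f i)) (i : Fin r) : lift f n t ht (T f n i) = t i := by
  refine (Ideal.Quotient.liftₐ_apply _ _ _ _).trans ?_
  refine (Ideal.Quotient.lift_mk _ _ _).trans ?_
  exact aeval_X _ _

lemma hom_ext {S : Type v} [CommRing S] [Algebra A S] {φ ψ : SGA1.kummerAlg A f n →ₐ[A] S}
    (h : ∀ i, φ (T f n i) = ψ (T f n i)) : φ = ψ := by
  refine Ideal.Quotient.algHom_ext _ ?_
  refine MvPolynomial.algHom_ext fun i => ?_
  exact h i

lemma adjoin_T : Algebra.adjoin A (Set.range (T f n)) = ⊤ := by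
  rw [eq_top_iff]
  rintro x -
  obtain ⟨p, rfl⟩ := Ideal.Quotient.mk_surjective x
  have h : (Ideal.Quotient.mkₐ A (Ideal.span (Set.range fun i =>
      (MvPolynomial.X i : MvPolynomial (Fin r) A) ^ n i - MvPolynomial.C (f i)))) p ∈
      Algebra.adjoin A (Set.range (T f n)) := by
    have hp : p ∈ Algebra.adjoin A (Set.range (X : Fin r → MvPolynomial (Fin r) A)) := by
      rw [MvPolynomial.adjoin_range_X]; trivial
    have := (Subalgebra.mem_map (f := Ideal.Quotient.mkₐ A (Ideal.span (Set.range fun i =>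
      (MvPolynomial.X i : MvPolynomial (Fin r) A) ^ n i - MvPolynomial.C (f i))))).mpr ⟨p, hp, rfl⟩
    rw [AlgHom.map_adjoin, ← Set.range_comp] at this
    exact this
  exact h

lemma isIntegral_T (hn : ∀ i, 1 ≤ n i) (i : Fin r) : IsIntegral A (T f n i) := by
  refine IsIntegral.of_pow (hn i) ?_
  rw [T_pow]
  exact isIntegral_algebraMap

lemma finite (hn : ∀ i, 1 ≤ n i) : Module.Finite A (SGA1.kummerAlg A f n) := by
  have h : (Algebra.adjoin A (Set.range (T f n))).toSubmodule.FG :=
    fg_adjoin_of_finite (Set.finite_range _) (by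
      rintro _ ⟨i, rfl⟩
      exact isIntegral_T f n hn i)
  rw [adjoin_T] at h
  exact ⟨by simpa using h⟩

/-- Every prime of `A` has a prime of the Kummer algebra above it. -/
lemma comap_surjective (hn : ∀ i, 1 ≤ n i) (p : Ideal A) [p.IsPrime] :
    ∃ P : Ideal (SGA1.kummerAlg A f n), P.IsPrime ∧ P.LiesOver p := by
  let K := AlgebraicClosure p.ResidueField
  have ht : ∀ i, ∃ t : K, t ^ n i = algebraMap A K (f i) := fun i =>
    IsAlgClosed.exists_pow_nat_eq _ (hn i)
  choose t ht using ht
  let φ := lift f n t ht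
  refine ⟨RingHom.ker φ, RingHom.ker_isPrime _, ⟨?_⟩⟩
  ext a
  rw [Ideal.under_def, Ideal.mem_comap, RingHom.mem_ker, AlgHom.commutes,
    IsScalarTower.algebraMap_apply A p.ResidueField K, map_eq_zero_iff _ (algebraMap p.ResidueField K).injective,
    ← RingHom.mem_ker, Ideal.ker_algebraMap_residueField]

lemma ringKrullDim_le (hn : ∀ i, 1 ≤ n i) :
    ringKrullDim A ≤ ringKrullDim (SGA1.kummerAlg A f n) := by
  have := finite f n hn
  unfold ringKrullDim Order.krullDim
  refine iSup_le fun l => ?_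
  obtain ⟨P, hP, hPo⟩ := comap_surjective f n hn (RelSeries.head l).asIdeal
  obtain ⟨L, hL, -, -⟩ := Ideal.exists_ltSeries_of_hasGoingUp l P
  rw [← hL]
  exact le_iSup (fun l : LTSeries _ => (l.length : WithBot ℕ∞)) L

end Basic

end Groth.Agent.Sga1.Kummer
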