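import Groth.Agent.Sga1.SecCompat

/-!
# Étale local representability of the presheaf of sections
-/

set_option autoImplicit false
set_option backward.isDefEq.respectTransparency false
set_option backward.isDefEq.respectTransparency.types false

open CategoryTheory CategoryTheory.Limits AlgebraicGeometry Opposite
open Groth.Agent.Sga1.SectionSpread Groth.Agent.Sga1.RankOne Groth.Agent.Sga1.ProperLift
open Groth.Agent.Sga1.SecCompat

namespace Groth.Agent.Sga1.LocTriv

universe u

section jmap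

variable {Z M S T T' : Scheme.{u}} (f : Z ⟶ S) (g : M ⟶ S) {t : T ⟶ S} {t' : T' ⟶ S} (j : T' ⟶ T)
  (h : j ≫ t = t')

/-- Base change along `T' ⟶ T`. -/
noncomputable def jmap : pullback f t' ⟶ pullback f t :=
  pullback.lift (pullback.fst f t') (pullback.snd f t' ≫ j)
    (by rw [Category.assoc, h, pullback.condition])

@[reassoc (attr := simp)]
theorem jmap_fst : jmap f j h ≫ pullback.fst f t = pullback.fst f t' := pullback.lift_fst _ _ _

@[reassoc (attr := simp)]
theorem jmap_snd : jmap f j h ≫ pullback.snd f t = pullback.snd f t' ≫ j := pullback.lift_snd _ _ _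

theorem isPullback_jmap : IsPullback (jmap f j h) (pullback.snd f t') (pullback.snd f t) j := by
  refine IsPullback.of_right (h₁₂ := pullback.fst f t) (v₁₃ := f) (h₂₂ := t) ?_
    (jmap_snd f j h) (IsPullback.of_hasPullback f t)
  rw [jmap_fst, h]
  exact IsPullback.of_hasPullback f t'

theorem isPullback_jmap_of_comm (θ : pullback f t ⟶ pullback g t) (θ' : pullback f t' ⟶ pullback g t')
    (hθ : θ ≫ pullback.snd g t = pullback.snd f t) (hθ' : θ' ≫ pullback.snd g t' = pullback.snd f t')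
    (hc : jmap f j h ≫ θ = θ' ≫ jmap g j h) : IsPullback (jmap f j h) θ' θ (jmap g j h) := by
  refine IsPullback.of_bot (h₃₁ := j) (v₂₁ := pullback.snd g t') (v₂₂ := pullback.snd g t) ?_ hc
    (isPullback_jmap g j h)
  rw [hθ, hθ']
  exact isPullback_jmap f j h

end jmap

section theta

variable {X S E Z T : Scheme.{u}} (p : X ⟶ S) (π : E ⟶ X) (ζ : Z ⟶ X) (t : T ⟶ S)

/-- Base change of `ζ : Z ⟶ X` along `t`. -/
theorem isPullback_base : IsPullback (pullback.fst (ζ ≫ p) t)
    (pullback.lift (pullback.fst (ζ ≫ p) t ≫ ζ) (pullback.snd (ζ ≫ p) t)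
      (by rw [Category.assoc, pullback.condition])) ζ (pullback.fst p t) := by
  refine IsPullback.of_bot (h₃₁ := t) (v₂₁ := pullback.snd p t) (v₂₂ := p) ?_
    (pullback.lift_fst _ _ _).symm (IsPullback.of_hasPullback p t)
  rw [pullback.lift_snd]
  exact IsPullback.of_hasPullback (ζ ≫ p) t

variable {p π ζ t} in
/-- A morphism between base changes of finite étale `X`-schemes is finite étale. -/
theorem finite_etale_theta [IsFinite π] [Etale π] [IsFinite ζ] [Etale ζ]
    (θ : pullback (ζ ≫ p) t ⟶ pullback (π ≫ p) t)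
    (h₁ : θ ≫ pullback.fst (π ≫ p) t ≫ π = pullback.fst (ζ ≫ p) t ≫ ζ)
    (h₂ : θ ≫ pullback.snd (π ≫ p) t = pullback.snd (ζ ≫ p) t) : IsFinite θ ∧ Etale θ := by
  let b := pullback.lift (pullback.fst (π ≫ p) t ≫ π) (pullback.snd (π ≫ p) t)
      (by rw [Category.assoc, pullback.condition])
  let a := pullback.lift (pullback.fst (ζ ≫ p) t ≫ ζ) (pullback.snd (ζ ≫ p) t)
      (by rw [Category.assoc, pullback.condition])
  have hb := isPullback_base p π t
  have ha := isPullback_base p ζ t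
  have e : θ ≫ b = a := by
    apply pullback.hom_ext
    · simp [a, b, h₁]
    · simp [a, b, h₂]
  have hb1 : IsFinite b := MorphismProperty.of_isPullback hb inferInstance
  have hb2 : Etale b := MorphismProperty.of_isPullback hb inferInstance
  have ha1 : IsFinite a := MorphismProperty.of_isPullback ha inferInstance
  have ha2 : Etale a := MorphismProperty.of_isPullback ha inferInstance
  constructor
  · have : IsFinite (θ ≫ b) := by rw [e]; exact ha1
    exact IsFinite.of_comp θ b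
  · have : Etale (θ ≫ b) := by rw [e]; exact ha2
    exact Etale.of_comp θ b

end theta

section open_locus

variable {A : Type u} [CommRing A] (C : Type u) [CommRing C] [IsLocalRing C] [Algebra A C]
variable {X E Z : Scheme.{u}} {p : X ⟶ Spec (CommRingCat.of A)} {π : E ⟶ X} {ζ : Z ⟶ X}
  [IsFinite π] [Etale π] [IsFinite ζ] [Etale ζ] [UniversallyClosed p]
  {B : Type u} [CommRing B] [Algebra A B] (χ : B →ₐ[A] C)

/-- The isomorphism locus: if `θ : Z_B ⟶ E_B` is an isomorphism over the residue field of `C` then it is an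
isomorphism over a neighbourhood of the image of the closed point of `C`. -/
theorem exists_open_isIso (σ : bc (ζ ≫ p) B ⟶ E)
    (hσ : σ ≫ π = pullback.fst (ζ ≫ p) (str A B) ≫ ζ)
    (hk : IsIso (pullback.lift (f := π ≫ p) (g := str A (IsLocalRing.ResidueField C))
      (bcMap (ζ ≫ p) ((res A C).comp χ) ≫ σ) (pullback.snd (ζ ≫ p) _) (by
        rw [Category.assoc, reassoc_of% hσ, bcMap_fst_assoc, pullback.condition]))) :
    ∃ V : (Spec (CommRingCat.of B)).Opens, sp χ (IsLocalRing.closedPoint C) ∈ V ∧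
      ∀ {T : Scheme.{u}} (j : T ⟶ Spec (CommRingCat.of B)), (∀ x : T, j x ∈ V) →
        ∀ (t : T ⟶ Spec (CommRingCat.of A)) (h : j ≫ str A B = t),
        IsIso (pullback.lift (f := π ≫ p) (g := t)
          (jmap (ζ ≫ p) j h ≫ σ) (pullback.snd (ζ ≫ p) _) (by
        rw [Category.assoc, reassoc_of% hσ, jmap_fst_assoc, pullback.condition])) := by
  let θ : bc (ζ ≫ p) B ⟶ bc (π ≫ p) B := pullback.lift σ (pullback.snd (ζ ≫ p) (str A B)) (by
    rw [reassoc_of% hσ, pullback.condition])
  have hθ₁ : θ ≫ pullback.fst (π ≫ p) (str A B) = σ := pullback.lift_fst _ _ _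
  have hθ₂ : θ ≫ pullback.snd (π ≫ p) (str A B) = pullback.snd (ζ ≫ p) (str A B) :=
    pullback.lift_snd _ _ _
  obtain ⟨hθf, hθe⟩ := finite_etale_theta θ (by rw [reassoc_of% hθ₁, hσ]) hθ₂
  have hsq : ∀ {T : Scheme.{u}} (j : T ⟶ Spec (CommRingCat.of B))
      (t : T ⟶ Spec (CommRingCat.of A)) (h : j ≫ str A B = t)
      (θ' : pullback (ζ ≫ p) t ⟶ pullback (π ≫ p) t)
      (_ : θ' ≫ pullback.fst (π ≫ p) t = jmap (ζ ≫ p) j h ≫ σ)
      (_ : θ' ≫ pullback.snd (π ≫ p) t = pullback.snd (ζ ≫ p) t),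
      IsPullback (jmap (ζ ≫ p) j h) θ' θ (jmap (π ≫ p) j h) := by
    intro T j t h θ' h1 h2
    refine isPullback_jmap_of_comm (ζ ≫ p) (π ≫ p) j h θ θ' hθ₂ h2 ?_
    apply pullback.hom_ext
    · simp [hθ₁, h1]
    · rw [Category.assoc, hθ₂, Category.assoc, jmap_snd, jmap_snd, reassoc_of% h2]
  have hclosed : IsClosedMap (pullback.snd (π ≫ p) (str A B)) :=
    (pullback.snd (π ≫ p) (str A B)).isClosedMap
  obtain ⟨V, hV, hV'⟩ := exists_open_finrank_eq_one θ (pullback.snd (π ≫ p) (str A B)) hclosed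
    (sp χ (IsLocalRing.closedPoint C)) (by
      intro e he
      let ρ : B →ₐ[A] IsLocalRing.ResidueField C := (res A C).comp χ
      have hρ : sp ρ (IsLocalRing.closedPoint (IsLocalRing.ResidueField C)) =
          sp χ (IsLocalRing.closedPoint C) := by
        have h1 : sp ρ = cl C ≫ sp χ := by
          rw [← sp_res A C, sp, sp, sp, ← Spec.map_comp, ← CommRingCat.ofHom_comp]; rfl
        rw [h1, Scheme.Hom.comp_apply]
        congr 1
        exact IsLocalRing.comap_closedPoint (IsLocalRing.residue C)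
      obtain ⟨e₀, h1, _⟩ := Scheme.exists_preimage_of_isPullback
        (isPullback_jmap (π ≫ p) (sp ρ) (sp_str ρ)) e
        (IsLocalRing.closedPoint (IsLocalRing.ResidueField C)) (he.trans hρ.symm)
      rw [← h1]
      have hw : (jmap (ζ ≫ p) (sp ρ) (sp_str ρ) ≫ σ) ≫ π ≫ p =
          pullback.snd (ζ ≫ p) (str A (IsLocalRing.ResidueField C)) ≫ str A _ := by
        rw [Category.assoc, reassoc_of% hσ, jmap_fst_assoc, pullback.condition]
      have sq := hsq (sp ρ) _ (sp_str ρ) (pullback.lift _ _ hw) (pullback.lift_fst _ _ _)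
        (pullback.lift_snd _ _ _)
      rw [← Scheme.Hom.finrank_of_isPullback _ _ _ _ sq e₀]
      have : IsIso (pullback.lift (f := π ≫ p) (g := str A (IsLocalRing.ResidueField C))
        (jmap (ζ ≫ p) (sp ρ) (sp_str ρ) ≫ σ) (pullback.snd (ζ ≫ p) _) hw) := hk
      rw [Scheme.Hom.finrank_eq_one_of_isIso]
      rfl)
  refine ⟨V, hV, ?_⟩
  intro T j hj t h
  have hw : (jmap (ζ ≫ p) j h ≫ σ) ≫ π ≫ p = pullback.snd (ζ ≫ p) t ≫ t := by
    rw [Category.assoc, reassoc_of% hσ, jmap_fst_assoc, pullback.condition]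
  have sq := hsq j t h (pullback.lift _ _ hw) (pullback.lift_fst _ _ _) (pullback.lift_snd _ _ _)
  change IsIso (pullback.lift (f := π ≫ p) (g := t) (jmap (ζ ≫ p) j h ≫ σ)
    (pullback.snd (ζ ≫ p) t) hw)
  set θ' := pullback.lift (f := π ≫ p) (g := t) (jmap (ζ ≫ p) j h ≫ σ) (pullback.snd (ζ ≫ p) t) hw
    with hθ'
  have h1 : IsFinite θ' := MorphismProperty.of_isPullback sq hθf
  have h2 : Etale θ' := MorphismProperty.of_isPullback sq hθe
  rw [θ'.isIso_iff_finrank_eq]
  ext e
  rw [Scheme.Hom.finrank_of_isPullback _ _ _ _ sq e]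
  apply hV'
  rw [← Scheme.Hom.comp_apply, jmap_snd, Scheme.Hom.comp_apply]
  exact hj _

end open_locus

section rep

open _root_.Desc Groth.Agent.Desc.SecFunctor Groth.Agent.Sga1.SecRep

variable {A : Type u} [CommRing A] {X N : Scheme.{u}} {p : X ⟶ Spec (CommRingCat.of A)}
  (ν : N ⟶ Spec (CommRingCat.of A)) (D : SchDD p)
  (C : Type u) [CommRing C] [IsLocalRing C] [Algebra A C]

/-- Étale local representability of `secFunctor D`, given the representability over the residue field of `C`. -/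
theorem exists_local_rep [IsProper p] [Surjective p] [LocallyOfFinitePresentation p] [IsFinite ν]
    [Etale ν] [IsFinite D.obj.hom] [Etale D.obj.hom]
    (hC : ∀ (P : Type u) [CommRing P] [Algebra A P] [Algebra.FinitePresentation A P]
      (φ : P →ₐ[A] C), ∃ (E : Type u) (_ : CommRing E) (_ : Algebra A E) (_ : Algebra.Etale A E)
      (ψ : P →ₐ[A] E) (χ : E →ₐ[A] C), χ.comp ψ = φ)
    (hcl : ∀ {Y : Scheme.{u}} (g : Y ⟶ Spec (CommRingCat.of C)) [IsProper g]
      [LocallyOfFinitePresentation g], ClopenLifts g)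
    (r : (restr (str A (IsLocalRing.ResidueField C)) (secFunctor D)).RepresentableBy
      (Over.mk (pullback.snd ν (str A (IsLocalRing.ResidueField C))))) :
    ∃ (B : Type u) (_ : CommRing B) (_ : Algebra A B) (_ : Algebra.Etale A B) (χ : B →ₐ[A] C)
      (V : (Spec (CommRingCat.of B)).Opens), sp χ (IsLocalRing.closedPoint C) ∈ V ∧
      Nonempty ((restr (V.ι ≫ str A B) (secFunctor D)).RepresentableBy
        (Over.mk (pullback.snd ν (V.ι ≫ str A B)))) := by
  let k := IsLocalRing.ResidueField C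
  let Uk : Over (Spec (CommRingCat.of k)) := Over.mk (pullback.snd ν (str A k))
  let ak : (restr (str A k) (secFunctor D)).obj (op Uk) := r.homEquiv (𝟙 Uk)
  have hWk := isPullback_xT p ν (str A k)
  let σ₀ : bc (fN p ν) k ⟶ D.obj.left :=
    (ev (T := (Over.map (str A k)).obj Uk) ak (wT p ν (str A k)) (xT p ν (str A k)) hWk.w).1
  have hσ₀ : IsCompat D (xT p ν (str A k)) (wT p ν (str A k)) σ₀ :=
    isCompat_ev (T := (Over.map (str A k)).obj Uk) ak _ _ _
  have hw₀ : σ₀ ≫ D.obj.hom ≫ p = pullback.snd (fN p ν) (str A k) ≫ str A k := by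
    rw [← Category.assoc, hσ₀.comp_hom, Category.assoc, pullback.condition]
  have hθ₀ : IsIso (pullback.lift (f := D.obj.hom ≫ p) (g := str A k) σ₀
      (pullback.snd (fN p ν) (str A k)) hw₀) := by
    refine isIso_of_representableBy (T := Over.mk (str A k)) D Uk r (xT p ν (str A k))
      (wT p ν (str A k)) hWk (pullback.fst (D.obj.hom ≫ p) (str A k))
      (pullback.snd (D.obj.hom ≫ p) (str A k)) (IsPullback.of_hasPullback _ _) _ ?_ ?_
    · exact pullback.lift_fst _ _ _
    · rw [pullback.lift_snd]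
      exact (wT_snd p ν (str A k)).symm
  obtain ⟨B₁, _, _, _, χ₁, σ₁, hσ₁, hσ₁k⟩ := exists_etale_lift C (fN p ν) (pullback.fst p ν)
    D.obj.hom hC hcl σ₀ hσ₀.comp_hom
  obtain ⟨B, i1, i2, i3, ψ, χ, hχ, hcomp⟩ := exists_etale_isCompat ν D C hC χ₁ σ₁ hσ₁ (by
    rw [hσ₁k]; exact hσ₀)
  let σ : bc (fN p ν) B ⟶ D.obj.left := bcMap (fN p ν) ψ ≫ σ₁
  have hσk : bcMap (fN p ν) ((res A C).comp χ) ≫ σ = σ₀ := by
    rw [← hσ₁k, ← Category.assoc, bcMap_comp, AlgHom.comp_assoc, hχ]
  obtain ⟨V, hV, hV'⟩ := exists_open_isIso (p := p) (π := D.obj.hom) (ζ := pullback.fst p ν) C χ σ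
    hcomp.comp_hom (by
      convert hθ₀)
  refine ⟨B, i1, i2, i3, χ, V, hV, ?_⟩
  obtain ⟨t, ht⟩ : ∃ t : V.toScheme ⟶ Spec (CommRingCat.of A), V.ι ≫ str A B = t := ⟨_, rfl⟩
  rw [ht]
  have hc' : IsCompat D (xT p ν t) (wT p ν t) (jmap (fN p ν) V.ι ht ≫ σ) := by
    refine hcomp.comp (jmap (fN p ν) V.ι ht) (jmap ν V.ι ht) _ _ ?_ ?_
    · rw [xT, xT, jmap_fst_assoc]
    · apply pullback.hom_ext
      · simp
      · simp
  have hWt := isPullback_xT p ν t
  obtain ⟨a, ha⟩ := exists_sec_of_isCompat (T := (Over.map t).obj (Over.mk (pullback.snd ν t)))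
    hWt hc'
  have hw : (jmap (fN p ν) V.ι ht ≫ σ) ≫ D.obj.hom ≫ p = pullback.snd (fN p ν) t ≫ t := by
    rw [← Category.assoc, hc'.comp_hom, Category.assoc, pullback.condition]
  have hiso : IsIso (pullback.lift (f := D.obj.hom ≫ p) (g := t)
      (jmap (fN p ν) V.ι ht ≫ σ) (pullback.snd (fN p ν) t) hw) :=
    hV' V.ι (fun x => x.2) t ht
  have het : Etale (Over.mk (pullback.snd ν t)).hom :=
    inferInstanceAs (Etale (pullback.snd ν t))
  exact ⟨repOfTrivialization (T := Over.mk t) (univSubmersive_of_universallyClosed p) D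
    (Over.mk (pullback.snd ν t)) a (xT p ν t) (wT p ν t) hWt
    (pullback.fst (D.obj.hom ≫ p) t) (pullback.snd (D.obj.hom ≫ p) t)
    (IsPullback.of_hasPullback _ _) (pullback.lift (f := D.obj.hom ≫ p) (g := t)
      (jmap (fN p ν) V.ι ht ≫ σ) (pullback.snd (fN p ν) t) hw)
    ((pullback.lift_fst _ _ _).trans ha.symm)
    ((pullback.lift_snd _ _ _).trans (wT_snd p ν t).symm)⟩

end rep

end Groth.Agent.Sga1.LocTriv
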