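import Groth.Agent.Desc.ZarGlue
import Groth.Agent.Desc.ZarSec
import Groth.Agent.Sga1.EtaleHom

/-!
# The presheaf `T ↦ Hom_X (X ×_S T, E)`
-/

set_option autoImplicit false
set_option backward.isDefEq.respectTransparency false
set_option backward.isDefEq.respectTransparency.types false

open CategoryTheory CategoryTheory.Limits AlgebraicGeometry Opposite
open Groth.Agent.Desc.SecFunctor Groth.Agent.Desc.SecPresheaf
  Groth.Agent.Desc.SecDescent Groth.Agent.Desc.ZarGlue Groth.Agent.Picfga.OverRep SGA1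

namespace Groth.Agent.Sga1.PushFun

universe w u

variable {X S : Scheme.{u}} (f : X ⟶ S)

/-- Pushforward of presheaves along `f`. -/
noncomputable abbrev push (F : (Over X)ᵒᵖ ⥤ Type w) : (Over S)ᵒᵖ ⥤ Type w := (Over.pullback f).op ⋙ F

section sheaf

theorem isPullback_map_left {T T' : Over S} (g : T' ⟶ T) :
    IsPullback ((Over.pullback f).map g).left (pullback.fst T'.hom f) (pullback.fst T.hom f) g.left := by
  have h1 : ((Over.pullback f).map g).left ≫ pullback.fst T.hom f =
      pullback.fst T'.hom f ≫ g.left := by simp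
  have h2 : ((Over.pullback f).map g).left ≫ pullback.snd T.hom f = pullback.snd T'.hom f := by
    simp
  refine IsPullback.of_right (h₁₂ := pullback.snd T.hom f) (v₁₃ := f) (h₂₂ := T.hom) ?_ h1
    (IsPullback.of_hasPullback T.hom f).flip
  rw [h2, Over.w g]
  exact (IsPullback.of_hasPullback T'.hom f).flip

/-- The pulled back cover. -/
noncomputable def pullCov {T : Over S} (𝒰 : Cov T) : Cov ((Over.pullback f).obj T) where
  ι := 𝒰.ι
  V i := (Over.pullback f).obj (𝒰.V i)
  j i := (Over.pullback f).map (𝒰.j i)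
  isOpen i := by
    have := 𝒰.isOpen i
    exact MorphismProperty.of_isPullback (isPullback_map_left f (𝒰.j i)).flip this
  covers t := by
    obtain ⟨i, v, hv⟩ := 𝒰.covers (pullback.fst T.hom f t)
    obtain ⟨y, hy, -⟩ := Scheme.exists_preimage_of_isPullback (isPullback_map_left f (𝒰.j i)) t v
      hv.symm
    exact ⟨i, y, hy⟩

variable {f} in
/-- Morphisms to the base change factor through the base change of a morphism. -/
theorem exists_factor {W : Over X} {V : Over S} (a : W ⟶ (Over.pullback f).obj V) :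
    a = (Over.mapPullbackAdj f).unit.app W ≫ (Over.pullback f).map
      (((Over.mapPullbackAdj f).homEquiv W V).symm a) := by
  have := ((Over.mapPullbackAdj f).homEquiv W V).apply_symm_apply a
  rw [Adjunction.homEquiv_unit] at this
  exact this.symm

theorem isZarSheaf_push {F : (Over X)ᵒᵖ ⥤ Type w} (hF : IsZarSheaf F) : IsZarSheaf (push f F) := by
  intro T 𝒰 x compat
  refine hF ((Over.pullback f).obj T) (pullCov f 𝒰) x ?_
  intro i k W a b hab
  let a' := ((Over.mapPullbackAdj f).homEquiv W (𝒰.V i)).symm a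
  let b' := ((Over.mapPullbackAdj f).homEquiv W (𝒰.V k)).symm b
  have h1 : a' ≫ 𝒰.j i = b' ≫ 𝒰.j k := by
    rw [← Adjunction.homEquiv_naturality_right_symm, ← Adjunction.homEquiv_naturality_right_symm]
    exact congrArg _ hab
  have h2 := compat i k _ a' b' h1
  have ha := exists_factor a
  have hb := exists_factor b
  rw [ha, hb, op_comp, op_comp, F.map_comp, F.map_comp, ConcreteCategory.comp_apply,
    ConcreteCategory.comp_apply]
  exact congrArg _ h2

theorem isZarSheaf_yoneda (E : Over X) : IsZarSheaf (yoneda.obj E) := by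
  intro T 𝒰 x compat
  obtain ⟨k, hk⟩ := glue_hom T E 𝒰 x compat
  refine ⟨k, hk, ?_⟩
  intro k' hk'
  exact hom_ext_cover T E 𝒰 _ _ (fun i => (hk' i).trans (hk i).symm)

theorem isDesc_push {F : (Over X)ᵒᵖ ⥤ Type w} {T' T : Over S} (g : T' ⟶ T)
    (h : IsDesc F ((Over.pullback f).map g)) : IsDesc (push f F) g := by
  constructor
  · exact h.inj
  · intro a ha
    apply h.glue a
    intro W z₀ z₁ hz
    let a' := ((Over.mapPullbackAdj f).homEquiv W T').symm z₀
    let b' := ((Over.mapPullbackAdj f).homEquiv W T').symm z₁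
    have h1 : a' ≫ g = b' ≫ g := by
      rw [← Adjunction.homEquiv_naturality_right_symm, ← Adjunction.homEquiv_naturality_right_symm]
      exact congrArg _ hz
    have h2 := ha _ a' b' h1
    rw [exists_factor z₀, exists_factor z₁, op_comp, op_comp, F.map_comp, F.map_comp,
      ConcreteCategory.comp_apply, ConcreteCategory.comp_apply]
    exact congrArg _ h2

theorem isDesc_yoneda (E : Over X) {T' T : Over X} (g : T' ⟶ T) [EffectiveEpi g.left] :
    IsDesc (yoneda.obj E) g := by
  constructor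
  · intro a b hab
    refine Over.OverMorphism.ext ?_
    rw [← cancel_epi g.left]
    exact congrArg (fun k => k.left) hab
  · intro a ha
    have hfac : ∀ {Z : Scheme.{u}} (z₀ z₁ : Z ⟶ T'.left), z₀ ≫ g.left = z₁ ≫ g.left →
        z₀ ≫ a.left = z₁ ≫ a.left := by
      intro Z z₀ z₁ hz
      have := ha (Over.mk (z₀ ≫ T'.hom)) (Over.homMk z₀ rfl) (Over.homMk z₁ (by
        change z₁ ≫ T'.hom = z₀ ≫ T'.hom
        rw [← Over.w g, reassoc_of% hz])) (by ext; exact hz)
      exact congrArg (fun k => k.left) this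
    let b : T.left ⟶ E.left := EffectiveEpi.desc g.left a.left (fun z₀ z₁ hz => hfac z₀ z₁ hz)
    have hb : g.left ≫ b = a.left := EffectiveEpi.fac _ _ _
    refine ⟨Over.homMk b ?_, ?_⟩
    · rw [← cancel_epi g.left, reassoc_of% hb, Over.w a, Over.w g]
    · refine Over.OverMorphism.ext ?_
      exact hb

/-- `T ↦ Hom_X (X ×_S T, E)` satisfies étale descent. -/
theorem isDesc_push_yoneda (E : Over X) {T' T : Over S} (g : T' ⟶ T) (h₁ : Etale g.left)
    (h₂ : Surjective g.left) : IsDesc (push f (yoneda.obj E)) g := by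
  apply isDesc_push
  have e1 : Etale ((Over.pullback f).map g).left :=
    MorphismProperty.of_isPullback (isPullback_map_left f g).flip h₁
  have e2 : Surjective ((Over.pullback f).map g).left :=
    MorphismProperty.of_isPullback (isPullback_map_left f g).flip h₂
  exact isDesc_yoneda E _

end sheaf

section rep

variable {f} {E : Over X}

/-- The value of a section at a point. -/
noncomputable def evG {T : Over S} (a : (push f (yoneda.obj E)).obj (op T)) {Z : Scheme.{u}}
    (z : Z ⟶ T.left) (x : Z ⟶ X) (h : z ≫ T.hom = x ≫ f) : Z ⟶ E.left :=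
  pullback.lift z x h ≫ (show (Over.pullback f).obj T ⟶ E from a).left

theorem evG_hom {T : Over S} (a : (push f (yoneda.obj E)).obj (op T)) {Z : Scheme.{u}}
    (z : Z ⟶ T.left) (x : Z ⟶ X) (h : z ≫ T.hom = x ≫ f) : evG a z x h ≫ E.hom = x := by
  rw [evG, Category.assoc, Over.w (show (Over.pullback f).obj T ⟶ E from a)]
  exact pullback.lift_snd _ _ _

theorem evG_comp {T : Over S} (a : (push f (yoneda.obj E)).obj (op T)) {Z Z' : Scheme.{u}}
    (g : Z' ⟶ Z) (z : Z ⟶ T.left) (x : Z ⟶ X) (h : z ≫ T.hom = x ≫ f) {z' : Z' ⟶ T.left}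
    {x' : Z' ⟶ X} (hz : z' = g ≫ z) (hx : x' = g ≫ x) (h' : z' ≫ T.hom = x' ≫ f) :
    evG a z' x' h' = g ≫ evG a z x h := by
  subst hz; subst hx
  rw [evG, evG, ← Category.assoc]
  congr 1
  apply pullback.hom_ext <;> simp

theorem evG_map {T T' : Over S} (g : T' ⟶ T) (a : (push f (yoneda.obj E)).obj (op T))
    {Z : Scheme.{u}} (z : Z ⟶ T'.left) (x : Z ⟶ X) (h : z ≫ T'.hom = x ≫ f)
    (h' : (z ≫ g.left) ≫ T.hom = x ≫ f) :
    evG ((push f (yoneda.obj E)).map g.op a) z x h = evG a (z ≫ g.left) x h' := by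
  change pullback.lift z x h ≫ ((Over.pullback f).map g).left ≫ _ = pullback.lift _ _ _ ≫ _
  rw [← Category.assoc]
  congr 1
  apply pullback.hom_ext <;> simp

theorem evG_ext {T : Over S} {a b : (push f (yoneda.obj E)).obj (op T)} {W : Scheme.{u}}
    {x : W ⟶ X} {w : W ⟶ T.left} (h : IsPullback w x T.hom f)
    (hab : evG a w x h.w = evG b w x h.w) : a = b := by
  have h1 := evG_comp a (h.lift (pullback.fst T.hom f) (pullback.snd T.hom f) pullback.condition)
    w x h.w (h.lift_fst _ _ _).symm (h.lift_snd _ _ _).symm pullback.condition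
  have h2 := evG_comp b (h.lift (pullback.fst T.hom f) (pullback.snd T.hom f) pullback.condition)
    w x h.w (h.lift_fst _ _ _).symm (h.lift_snd _ _ _).symm pullback.condition
  rw [hab, ← h2, evG, evG] at h1
  have e : pullback.lift (pullback.fst T.hom f) (pullback.snd T.hom f) pullback.condition =
      𝟙 (pullback T.hom f) := by
    apply pullback.hom_ext <;> simp
  rw [e, Category.id_comp, Category.id_comp] at h1
  exact Over.OverMorphism.ext h1

/-- Build a section from its value. -/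
theorem exists_sec {T : Over S} {W : Scheme.{u}} {x : W ⟶ X} {w : W ⟶ T.left}
    (h : IsPullback w x T.hom f) (σ : W ⟶ E.left) (hσ : σ ≫ E.hom = x) :
    ∃ a : (push f (yoneda.obj E)).obj (op T), evG a w x h.w = σ := by
  let l : pullback T.hom f ⟶ W :=
    h.lift (pullback.fst T.hom f) (pullback.snd T.hom f) pullback.condition
  refine ⟨(Over.homMk (l ≫ σ) (by
    rw [Category.assoc, hσ]; exact h.lift_snd _ _ _) : (Over.pullback f).obj T ⟶ E), ?_⟩
  change pullback.lift w x h.w ≫ l ≫ σ = σ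
  rw [← Category.assoc]
  have : pullback.lift w x h.w ≫ l = 𝟙 W := by
    apply h.hom_ext <;> simp [l]
  rw [this, Category.id_comp]

/-- Representability from a trivialization. -/
theorem existsUnique_of_trivialization (hf : UnivSubmersive f)
    (hconn : ∀ (K : Type u) [Field K] [IsAlgClosed K] (ξ : Spec (CommRingCat.of K) ⟶ S),
      ConnectedSpace ↑(pullback f ξ)) {T : Over S}
    (U : Over T.left) [Etale U.hom] (a : (restr T.hom (push f (yoneda.obj E))).obj (op U))
    {W M : Scheme.{u}} (x : W ⟶ X) (w : W ⟶ U.left) (hW : IsPullback w x (U.hom ≫ T.hom) f)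
    (m₁ : M ⟶ E.left) (m₂ : M ⟶ T.left) (hM : IsPullback m₁ m₂ (E.hom ≫ f) T.hom)
    (θ : W ⟶ M) [IsIso θ]
    (h₁ : θ ≫ m₁ = evG (T := (Over.map T.hom).obj U) a w x hW.w) (h₂ : θ ≫ m₂ = w ≫ U.hom)
    (Y : Over T.left) (b : (restr T.hom (push f (yoneda.obj E))).obj (op Y)) :
    ∃! g : Y ⟶ U, (restr T.hom (push f (yoneda.obj E))).map g.op a = b := by
  let a' : (push f (yoneda.obj E)).obj (op ((Over.map T.hom).obj U)) := a
  let b' : (push f (yoneda.obj E)).obj (op ((Over.map T.hom).obj Y)) := b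
  have hW' : IsPullback w x ((Over.map T.hom).obj U).hom f := hW
  -- two points of `W` with the same image in `E` and `T`
  have hinj : ∀ {L : Scheme.{u}} (c c' : L ⟶ W), c ≫ θ ≫ m₁ = c' ≫ θ ≫ m₁ →
      c ≫ θ ≫ m₂ = c' ≫ θ ≫ m₂ → c = c' := by
    intro L c c' h h'
    rw [← cancel_mono θ]
    apply hM.hom_ext
    · simpa using h
    · simpa using h'
  -- same with points of `U`
  have hinjU : ∀ {L : Scheme.{u}} (ξ : L ⟶ X) (z z' : L ⟶ U.left)
      (h : z ≫ U.hom ≫ T.hom = ξ ≫ f) (h' : z' ≫ U.hom ≫ T.hom = ξ ≫ f),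
      z ≫ U.hom = z' ≫ U.hom → evG a' z ξ h = evG a' z' ξ h' → z = z' := by
    intro L ξ z z' h h' hT hE
    have e1 := evG_comp a' (hW'.lift z ξ h) w x hW'.w (z' := z) (x' := ξ) (by simp) (by simp) h
    have e2 := evG_comp a' (hW'.lift z' ξ h') w x hW'.w (z' := z') (x' := ξ) (by simp) (by simp) h'
    have := hinj (hW'.lift z ξ h) (hW'.lift z' ξ h') (by
      rw [h₁]
      exact e1.symm.trans (hE.trans e2)) (by
      rw [h₂, IsPullback.lift_fst_assoc, IsPullback.lift_fst_assoc, hT])
    have h3 := congrArg (· ≫ w) this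
    simpa using h3
  -- the universal points over `Y`
  let xY : pullback (Y.hom ≫ T.hom) f ⟶ X := pullback.snd _ _
  let wY : pullback (Y.hom ≫ T.hom) f ⟶ Y.left := pullback.fst _ _
  have hY : IsPullback wY xY ((Over.map T.hom).obj Y).hom f := IsPullback.of_hasPullback _ _
  obtain ⟨β, hβd⟩ : ∃ β : pullback (Y.hom ≫ T.hom) f ⟶ E.left, β = evG b' wY xY hY.w := ⟨_, rfl⟩
  have hβ : β ≫ E.hom = xY := by rw [hβd]; exact evG_hom b' wY xY hY.w
  let m : pullback (Y.hom ≫ T.hom) f ⟶ M := hM.lift β (wY ≫ Y.hom) (by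
    rw [← Category.assoc, hβ, ← hY.w, Category.assoc]; rfl)
  have hm₁ : m ≫ m₁ = β := hM.lift_fst _ _ _
  have hm₂ : m ≫ m₂ = wY ≫ Y.hom := hM.lift_snd _ _ _
  let d : pullback (Y.hom ≫ T.hom) f ⟶ W := m ≫ inv θ
  have hd₁ : d ≫ θ ≫ m₁ = β := by simp [d, hm₁]
  have hd₂ : d ≫ θ ≫ m₂ = wY ≫ Y.hom := by simp [d, hm₂]
  have hdx : d ≫ x = xY := by
    have e : (θ ≫ m₁) ≫ E.hom = x := by
      rw [h₁]; exact evG_hom (T := (Over.map T.hom).obj U) a w x hW.w
    rw [← e, ← Category.assoc, hd₁, hβ]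
  obtain ⟨v, hvd⟩ : ∃ v : pullback (Y.hom ≫ T.hom) f ⟶ U.left, v = d ≫ w := ⟨_, rfl⟩
  have hv : v ≫ U.hom = wY ≫ Y.hom := by
    rw [hvd, Category.assoc, ← h₂, hd₂]
  have hvT : v ≫ U.hom ≫ T.hom = xY ≫ f := by
    rw [← Category.assoc, hv, Category.assoc]; exact hY.w
  have hwY : UnivSubmersive wY := MorphismProperty.of_isPullback hY.flip hf
  have hsY : Surjective wY := UnivSub.surjective hwY
  have hconnY : ∀ (K : Type u) [Field K] [IsAlgClosed K] (ξ : Spec (CommRingCat.of K) ⟶ Y.left),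
      ConnectedSpace ↑(pullback wY ξ) := by
    intro K _ _ ξ
    have h1 : IsPullback (pullback.fst wY ξ ≫ xY) (pullback.snd wY ξ) f
        (ξ ≫ ((Over.map T.hom).obj Y).hom) :=
      (IsPullback.of_hasPullback wY ξ).paste_horiz hY.flip
    have h2 := hconn K (ξ ≫ ((Over.map T.hom).obj Y).hom)
    exact (Scheme.homeoOfIso h1.isoPullback.symm).surjective.connectedSpace
      (Scheme.homeoOfIso h1.isoPullback.symm).continuous
  obtain ⟨g, hg₁, hg₂⟩ := EtaleHom.exists_hom_of_geomConnected wY hwY hconnY Y.hom U.hom v hv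
  have hgT : (wY ≫ g) ≫ U.hom ≫ T.hom = xY ≫ f := by rw [hg₂]; exact hvT
  refine ⟨Over.homMk g hg₁, ?_, ?_⟩
  · refine evG_ext (T := (Over.map T.hom).obj Y) hY ?_
    refine (evG_map ((Over.map T.hom).map (Over.homMk g hg₁ : Y ⟶ U)) a'
      wY xY hY.w hgT).trans ?_
    refine (evG_comp a' d w x hW'.w (z' := wY ≫ g) (x' := xY) (hg₂.trans hvd) hdx.symm hgT).trans ?_
    rw [← h₁, hd₁, hβd]
  · intro g' hg'
    have e3 : ∀ k : Y ⟶ U, (wY ≫ k.left) ≫ U.hom = wY ≫ Y.hom := by
      intro k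
      rw [Category.assoc, Over.w k]
    have e4 : ∀ k : Y ⟶ U, (wY ≫ k.left) ≫ U.hom ≫ T.hom = xY ≫ f := by
      intro k
      rw [← Category.assoc, e3 k, Category.assoc]; exact hY.w
    have e5 : evG a' (wY ≫ g'.left) xY (e4 g') = evG a' (wY ≫ g) xY hgT := by
      have h6 := congrArg (fun s => evG (T := (Over.map T.hom).obj Y) s wY xY hY.w) hg'
      have h7 : evG a' (wY ≫ g'.left) xY (e4 g') = β := by
        rw [hβd]
        refine Eq.trans ?_ h6
        exact (evG_map ((Over.map T.hom).map g') a' wY xY hY.w (e4 g')).symm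
      rw [h7, evG_comp a' d w x hW'.w (z' := wY ≫ g) (x' := xY) (hg₂.trans hvd) hdx.symm hgT,
        ← h₁, hd₁]
    have h8 := hinjU xY _ _ (e4 g') hgT (by rw [e3, hg₂, hv]) e5
    ext
    exact EtaleHom.hom_unique wY U.hom _ _ (by rw [Over.w g', Over.w (Over.homMk g hg₁ : Y ⟶ U)]) h8

end rep

end Groth.Agent.Sga1.PushFun
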