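import Groth.Prelude.Def_Pi1
import Groth.Agent.Pi1A.FEtAffine
import Groth.Agent.S0283
import Groth.Agent.Sga1.LocTriv
import Groth.Agent.Sga1.ClosedFibre
import Mathlib.AlgebraicGeometry.Morphisms.UniversallyInjective

/-!
# Split covers and fibres over separably closed fields
-/

set_option autoImplicit false
set_option backward.isDefEq.respectTransparency false
set_option backward.isDefEq.respectTransparency.types false

open CategoryTheory CategoryTheory.Limits AlgebraicGeometry Opposite TensorProduct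
open Groth.Agent.Sga1.SectionSpread Groth.Agent.Pi1A.FEtAffine Groth.Agent.Sga1.LocTriv

namespace Groth.Agent.Sga1.SplitFibre

universe u

/-- Trivial covers are pulled back. -/
theorem isPullback_trivial {Y S : Scheme.{u}} (g : Y ⟶ S) (ι : Type u) [Finite ι] :
    IsPullback (Sigma.desc (fun _ : ι => 𝟙 Y)) (Sigma.desc (fun i : ι => g ≫ Sigma.ι (fun _ : ι => S) i))
      g (Sigma.desc (fun _ : ι => 𝟙 S)) := by
  have H := IsUniversalColimit.isPullback_of_isColimit_left
    (X := fun _ : ι ↦ S) (a := Cofan.mk _ (Sigma.ι (fun _ : ι => S)))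
    (FinitaryPreExtensive.isUniversal_finiteCoproducts (coproductIsCoproduct _))
    (fun _ ↦ 𝟙 S) (Sigma.desc (fun _ : ι => 𝟙 S)) g (fun _ => 𝟙 Y) (fun _ => g)
    (fun _ ↦ IsPullback.of_horiz_isIso ⟨by simp⟩) (coproductIsCoproduct _)
    (fun i => by simp [Cofan.inj])
  have e1 : Cofan.IsColimit.desc (coproductIsCoproduct fun _ : ι => Y) (fun _ => 𝟙 Y) =
      Sigma.desc (fun _ : ι => 𝟙 Y) := by
    refine Sigma.hom_ext _ _ fun i => ?_
    rw [Sigma.ι_desc]
    exact Cofan.IsColimit.fac (coproductIsCoproduct fun _ : ι => Y) (fun _ => 𝟙 Y) i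
  have e2 : Cofan.IsColimit.desc (coproductIsCoproduct fun _ : ι => Y)
      (fun i => g ≫ (Cofan.mk (∐ fun _ : ι => S) (Sigma.ι fun _ : ι => S)).inj i) =
      Sigma.desc (fun i : ι => g ≫ Sigma.ι (fun _ : ι => S) i) := by
    refine Sigma.hom_ext _ _ fun i => ?_
    rw [Sigma.ι_desc]
    exact Cofan.IsColimit.fac (coproductIsCoproduct fun _ : ι => Y) _ i
  rw [e1, e2] at H
  exact H

/-- Trivial covers are pulled back from affine bases. -/
theorem nonempty_iso_restrict {Y : Scheme.{u}} {A : Type u} [CommRing A]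
    (g : Y ⟶ Spec (CommRingCat.of A)) (ι : Type u) [Finite ι] (Z : FEt.Cat Y)
    (e : Z.left ≅ ∐ fun _ : ι => Y)
    (he : ∀ i : ι, Sigma.ι (fun _ : ι => Y) i ≫ e.inv ≫ Z.hom = 𝟙 Y) :
    Nonempty (Z ≅ (FEt.restrict g).obj (ofAlgebra A (ι → A))) := by
  have hiso : IsIso (sigmaSpec fun _ : ι => CommRingCat.of A) := inferInstance
  let S := Spec (CommRingCat.of A)
  let e' : (∐ fun _ : ι => S) ≅ Spec (CommRingCat.of (ι → A)) :=
    @asIso _ _ _ _ (sigmaSpec fun _ : ι => CommRingCat.of A) hiso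
  have h1 : e'.hom ≫ (ofAlgebra A (ι → A)).hom = Sigma.desc (fun _ : ι => 𝟙 S) := by
    rw [ofAlgebra_hom]
    apply Sigma.hom_ext
    intro i
    change Sigma.ι _ i ≫ sigmaSpec (fun _ : ι => CommRingCat.of A) ≫ _ = _
    rw [ι_sigmaSpec_assoc, ← Spec.map_comp, Sigma.ι_desc, ← Spec.map_id]
    rfl
  have h2 : e.inv ≫ Z.hom = Sigma.desc (fun _ : ι => 𝟙 Y) := by
    apply Sigma.hom_ext
    intro i
    rw [he i, Sigma.ι_desc]
  have H := isPullback_trivial g ι
  have H2 : IsPullback (e.hom ≫ Sigma.desc (fun i : ι => g ≫ Sigma.ι (fun _ : ι => S) i) ≫ e'.hom)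
      Z.hom (ofAlgebra A (ι → A)).hom g := by
    refine H.flip.of_iso e.symm (e') (Iso.refl _) (Iso.refl _) ?_ ?_ ?_ ?_
    · simp [S]
    · rw [Iso.refl_hom, Category.comp_id, Iso.symm_hom, h2]
    · rw [Iso.refl_hom, Category.comp_id, h1]
    · simp
  exact ⟨isoMk (H2.isoPullback) H2.isoPullback_hom_snd⟩

/-- Purely inseparable extensions are universally injective. -/
theorem universallyInjective_of_isPurelyInseparable (k K : Type u) [Field k] [Field K] [Algebra k K]
    [IsPurelyInseparable k K] : UniversallyInjective (str k K) := by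
  refine ((tfae_universallyInjective (str k K)).out 0 1).mpr ?_
  intro L _ x y hxy
  obtain ⟨x, rfl⟩ := Spec.map_surjective x
  obtain ⟨y, rfl⟩ := Spec.map_surjective y
  simp only at hxy
  rw [← Spec.map_comp, ← Spec.map_comp] at hxy
  have hxy' := Spec.map_injective hxy
  congr 1
  ext b
  have h2 : x.hom.comp (algebraMap k K) = y.hom.comp (algebraMap k K) := congrArg (fun t => t.hom) hxy'
  have h3 := IsPurelyInseparable.injective_comp_algebraMap k K L h2
  exact congr($h3 b)

/-- A cover which splits over geometric fibres splits over fibres over separably closed fields. -/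
theorem exists_split_fibre {X S : Scheme.{u}} (f : X ⟶ S) (X' : FEt.Cat X)
    (hsplit : ∀ (K : Type u) [Field K] [IsAlgClosed K] (ξ : Spec (CommRingCat.of K) ⟶ S),
      Pi1.IsSplit ((FEt.restrict (pullback.fst f ξ)).obj X'))
    (k : Type u) [Field k] [IsSepClosed k] (ξ : Spec (CommRingCat.of k) ⟶ S) :
    ∃ (ι : Type u) (_ : Finite ι), Nonempty ((FEt.restrict (pullback.fst f ξ)).obj X' ≅
      (FEt.restrict (pullback.snd f ξ)).obj (ofAlgebra k (ι → k))) := by
  let K := AlgebraicClosure k
  let ξK : Spec (CommRingCat.of K) ⟶ S := str k K ≫ ξ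
  obtain ⟨ι, hι, e, he⟩ := hsplit K ξK
  refine ⟨ι, hι, ?_⟩
  let h : pullback f ξK ⟶ pullback f ξ := jmap f (str k K) rfl
  have hsq : IsPullback h (pullback.snd f ξK) (pullback.snd f ξ) (str k K) :=
    isPullback_jmap f (str k K) rfl
  have hi0 : IsIntegralHom (str k K) := by
    rw [IsIntegralHom.SpecMap_iff]
    exact algebraMap_isIntegral_iff.mpr inferInstance
  have hu0 : UniversallyInjective (str k K) := universallyInjective_of_isPurelyInseparable k K
  have hs0 : Surjective (str k K) := by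
    constructor
    intro x
    exact ⟨IsLocalRing.closedPoint K, Subsingleton.elim (α := PrimeSpectrum k) _ _⟩
  have hi : IsIntegralHom h := MorphismProperty.of_isPullback hsq.flip hi0
  have hu : UniversallyInjective h := MorphismProperty.of_isPullback hsq.flip hu0
  have hs : Surjective h := MorphismProperty.of_isPullback hsq.flip hs0
  obtain ⟨hfull, hfaithful⟩ := Groth.Agent.S0283.result h
  have hfst : h ≫ pullback.fst f ξ = pullback.fst f ξK := jmap_fst f (str k K) rfl
  obtain ⟨i₁⟩ := nonempty_iso_restrict (pullback.snd f ξK) ι _ e he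
  let i₂ : (FEt.restrict h).obj ((FEt.restrict (pullback.fst f ξ)).obj X') ≅
      (FEt.restrict (pullback.fst f ξK)).obj X' :=
    (restrictComp h (pullback.fst f ξ)).symm.app X' ≪≫ (restrictCongr hfst).app X'
  let e₂ : (K ⊗[k] (ι → k)) ≃ₐ[K] (ι → K) := by
    classical
    letI := Fintype.ofFinite ι
    exact Algebra.TensorProduct.piScalarRight k K K ι
  let i₃ : ofAlgebra K (ι → K) ≅ (FEt.restrict (str k K)).obj (ofAlgebra k (ι → k)) :=
    isoOfAlgEquiv e₂ ≪≫ (restrictOfAlgebraIso k K (ι → k)).symm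
  let i₄ : (FEt.restrict (pullback.snd f ξK)).obj ((FEt.restrict (str k K)).obj
      (ofAlgebra k (ι → k))) ≅ (FEt.restrict h).obj ((FEt.restrict (pullback.snd f ξ)).obj
      (ofAlgebra k (ι → k))) :=
    (restrictComp (pullback.snd f ξK) (str k K)).symm.app _ ≪≫
      (restrictCongr hsq.w.symm).app _ ≪≫ (restrictComp h (pullback.snd f ξ)).app _
  exact ⟨(Functor.FullyFaithful.ofFullyFaithful (FEt.restrict h)).preimageIso
    (i₂ ≪≫ i₁ ≪≫ (FEt.restrict (pullback.snd f ξK)).mapIso i₃ ≪≫ i₄)⟩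

end Groth.Agent.Sga1.SplitFibre
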