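import Groth.Agent.Sga1.PushFun
import Groth.Agent.Sga1.SplitFibre

/-!
# The universal section of `T ↦ Hom_X (X ×_S T, E)`
-/

set_option autoImplicit false
set_option backward.isDefEq.respectTransparency false
set_option backward.isDefEq.respectTransparency.types false

open CategoryTheory CategoryTheory.Limits AlgebraicGeometry Opposite
open Groth.Agent.Desc.SecFunctor Groth.Agent.Desc.SecPresheaf
  Groth.Agent.Desc.SecDescent Groth.Agent.Desc.ZarGlue Groth.Agent.Picfga.OverRep SGA1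
open Groth.Agent.Sga1.PushFun Groth.Agent.Pi1A.FEtAffine

namespace Groth.Agent.Sga1.PushIso

universe w u

variable {X S : Scheme.{u}} {f : X ⟶ S} {E : Over X}

/-- Representing objects are isomorphic, compatibly with the universal elements. -/
theorem exists_iso_of_rep {C : Type*} [Category.{w} C] {F : Cᵒᵖ ⥤ Type w} {Y Y' : C}
    (r : F.RepresentableBy Y) (r' : F.RepresentableBy Y') :
    ∃ i : Y ≅ Y', r'.homEquiv i.hom = r.homEquiv (𝟙 Y) := by
  let a : Y ⟶ Y' := r'.homEquiv.symm (r.homEquiv (𝟙 Y))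
  let b : Y' ⟶ Y := r.homEquiv.symm (r'.homEquiv (𝟙 Y'))
  have ha : r'.homEquiv a = r.homEquiv (𝟙 Y) := Equiv.apply_symm_apply _ _
  have hb : r.homEquiv b = r'.homEquiv (𝟙 Y') := Equiv.apply_symm_apply _ _
  refine ⟨⟨a, b, ?_, ?_⟩, ha⟩
  · apply r.homEquiv.injective
    rw [r.homEquiv_comp, hb, ← r'.homEquiv_eq, ha]
  · apply r'.homEquiv.injective
    rw [r'.homEquiv_comp, ha, ← r.homEquiv_eq, hb]

/-- The comparison map of a representation is an isomorphism if there is some trivialization. -/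
theorem isIso_of_representableBy (hf : UnivSubmersive f)
    (hconn : ∀ (K : Type u) [Field K] [IsAlgClosed K] (ξ : Spec (CommRingCat.of K) ⟶ S),
      ConnectedSpace ↑(pullback f ξ)) {T : Over S}
    (U : Over T.left) (r : (restr T.hom (push f (yoneda.obj E))).RepresentableBy U)
    {W M : Scheme.{u}} (x : W ⟶ X) (w : W ⟶ U.left) (hW : IsPullback w x (U.hom ≫ T.hom) f)
    (m₁ : M ⟶ E.left) (m₂ : M ⟶ T.left) (hM : IsPullback m₁ m₂ (E.hom ≫ f) T.hom)
    (θ : W ⟶ M)
    (h₁ : θ ≫ m₁ = evG (T := (Over.map T.hom).obj U) (r.homEquiv (𝟙 U)) w x hW.w)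
    (h₂ : θ ≫ m₂ = w ≫ U.hom)
    (U' : Over T.left) [Etale U'.hom] {W' : Scheme.{u}} (x' : W' ⟶ X) (w' : W' ⟶ U'.left)
    (hW' : IsPullback w' x' (U'.hom ≫ T.hom) f) (θ' : W' ⟶ M) [IsIso θ']
    (h₁' : θ' ≫ m₁ ≫ E.hom = x') (h₂' : θ' ≫ m₂ = w' ≫ U'.hom) : IsIso θ := by
  obtain ⟨a', ha'⟩ := exists_sec (T := (Over.map T.hom).obj U') hW' (θ' ≫ m₁)
    (by rw [Category.assoc, h₁'])
  let r' : (restr T.hom (push f (yoneda.obj E))).RepresentableBy U' :=
    repOfUniversal a' (existsUnique_of_trivialization hf hconn U' a' x' w' hW' m₁ m₂ hM θ'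
      ha'.symm h₂')
  obtain ⟨i, hi'⟩ := exists_iso_of_rep r r'
  have hi : (restr T.hom (push f (yoneda.obj E))).map i.hom.op a' = r.homEquiv (𝟙 U) := hi'
  have hiU : i.hom.left ≫ U'.hom = U.hom := Over.w i.hom
  have hiU' : i.inv.left ≫ U.hom = U'.hom := Over.w i.inv
  have hil : i.hom.left ≫ i.inv.left = 𝟙 _ := by
    rw [← Over.comp_left, i.hom_inv_id]; rfl
  have hil' : i.inv.left ≫ i.hom.left = 𝟙 _ := by
    rw [← Over.comp_left, i.inv_hom_id]; rfl
  have hwj : (w ≫ i.hom.left) ≫ U'.hom ≫ T.hom = x ≫ f := by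
    rw [Category.assoc, reassoc_of% hiU, hW.w]
  let j : W ⟶ W' := hW'.lift (w ≫ i.hom.left) x hwj
  have hj₁ : j ≫ w' = w ≫ i.hom.left := hW'.lift_fst _ _ _
  have hj₂ : j ≫ x' = x := hW'.lift_snd _ _ _
  let j' : W' ⟶ W := hW.lift (w' ≫ i.inv.left) x' (by
    rw [Category.assoc, reassoc_of% hiU', hW'.w])
  have hj'₁ : j' ≫ w = w' ≫ i.inv.left := hW.lift_fst _ _ _
  have hj'₂ : j' ≫ x = x' := hW.lift_snd _ _ _
  have hjiso : IsIso j := by
    refine ⟨j', ?_, ?_⟩
    · apply hW.hom_ext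
      · rw [Category.assoc, hj'₁, reassoc_of% hj₁, hil, Category.comp_id, Category.id_comp]
      · rw [Category.assoc, hj'₂, hj₂, Category.id_comp]
    · apply hW'.hom_ext
      · rw [Category.assoc, hj₁, reassoc_of% hj'₁, hil', Category.comp_id, Category.id_comp]
      · rw [Category.assoc, hj₂, hj'₂, Category.id_comp]
  have e : θ = j ≫ θ' := by
    apply hM.hom_ext
    · rw [h₁, ← hi, Category.assoc, ← ha']
      refine (evG_map ((Over.map T.hom).map i.hom) a' w x hW.w hwj).trans ?_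
      exact evG_comp (T := (Over.map T.hom).obj U') a' j w' x' hW'.w hj₁.symm hj₂.symm hwj
    · rw [h₂, Category.assoc, h₂', reassoc_of% hj₁, hiU]
  rw [e]
  infer_instance

/-- The universal section is an isomorphism. -/
theorem isIso_universal (hf : UnivSubmersive f)
    (hconn : ∀ (K : Type u) [Field K] [IsAlgClosed K] (ξ : Spec (CommRingCat.of K) ⟶ S),
      ConnectedSpace ↑(pullback f ξ)) (X' : FEt.Cat X)
    (hsplit : ∀ (K : Type u) [Field K] [IsAlgClosed K] (ξ : Spec (CommRingCat.of K) ⟶ S),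
      Pi1.IsSplit ((FEt.restrict (pullback.fst f ξ)).obj X'))
    (U : Over S) [IsFinite U.hom] [Etale U.hom]
    (r : (push f (yoneda.obj (Over.mk X'.hom))).RepresentableBy U) :
    ∃ α : pullback U.hom f ⟶ X'.left, α ≫ X'.hom = pullback.snd U.hom f ∧ IsIso α := by
  let α' : (Over.pullback f).obj U ⟶ Over.mk X'.hom := r.homEquiv (𝟙 U)
  let α : pullback U.hom f ⟶ X'.left := α'.left
  have hα : α ≫ X'.hom = pullback.snd U.hom f := Over.w α'
  have hX1 : IsFinite X'.hom := X'.prop.1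
  have hX2 : Etale X'.hom := X'.prop.2
  have hα1 : IsFinite α := by
    have : IsFinite (α ≫ X'.hom) := by rw [hα]; infer_instance
    exact IsFinite.of_comp α X'.hom
  have hα2 : Etale α := by
    have : Etale (α ≫ X'.hom) := by rw [hα]; infer_instance
    exact Etale.of_comp α X'.hom
  refine ⟨α, hα, ?_⟩
  rw [α.isIso_iff_finrank_eq]
  ext e
  -- a geometric point
  let k := AlgebraicClosure (X'.left.residueField e)
  let ξe : Spec (CommRingCat.of k) ⟶ X'.left :=
    Spec.map (CommRingCat.ofHom (algebraMap (X'.left.residueField e) k)) ≫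
      X'.left.fromSpecResidueField e
  have hξe : ∀ y, ξe y = e := by
    intro y
    rw [Scheme.Hom.comp_apply]
    exact Scheme.fromSpecResidueField_apply _ _
  let ξ : Spec (CommRingCat.of k) ⟶ S := ξe ≫ X'.hom ≫ f
  let M : Scheme.{u} := pullback X'.hom (pullback.fst f ξ)
  let m₁ : M ⟶ X'.left := pullback.fst X'.hom (pullback.fst f ξ)
  let m₂ : M ⟶ Spec (CommRingCat.of k) := pullback.snd X'.hom (pullback.fst f ξ) ≫ pullback.snd f ξ
  have hM : IsPullback m₁ m₂ (X'.hom ≫ f) ξ :=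
    (IsPullback.of_hasPullback X'.hom (pullback.fst f ξ)).paste_vert
      (IsPullback.of_hasPullback f ξ)
  let W : Scheme.{u} := pullback α m₁
  let b : W ⟶ pullback U.hom f := pullback.fst α m₁
  let θ : W ⟶ M := pullback.snd α m₁
  have hbθ : b ≫ α = θ ≫ m₁ := pullback.condition
  have hUf : α ≫ X'.hom ≫ f = pullback.fst U.hom f ≫ U.hom := by
    rw [← Category.assoc, hα, ← pullback.condition]
  have h1 : IsPullback b (θ ≫ m₂) (pullback.fst U.hom f ≫ U.hom) ξ := by
    rw [← hUf]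
    exact (IsPullback.of_hasPullback α m₁).paste_vert hM
  let w : W ⟶ pullback U.hom ξ := pullback.lift (b ≫ pullback.fst U.hom f) (θ ≫ m₂)
    (by rw [Category.assoc]; exact h1.w)
  have hw1 : w ≫ pullback.fst U.hom ξ = b ≫ pullback.fst U.hom f := pullback.lift_fst _ _ _
  have hw2 : w ≫ pullback.snd U.hom ξ = θ ≫ m₂ := pullback.lift_snd _ _ _
  have h2 : IsPullback b w (pullback.fst U.hom f) (pullback.fst U.hom ξ) := by
    refine IsPullback.of_bot (h₃₁ := ξ) (v₂₁ := pullback.snd U.hom ξ) (v₂₂ := U.hom) ?_ hw1.symm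
      (IsPullback.of_hasPullback U.hom ξ)
    rw [hw2]
    exact h1
  let x : W ⟶ X := b ≫ pullback.snd U.hom f
  let UT : Over (Spec (CommRingCat.of k)) := (Over.pullback ξ).obj U
  have hW : IsPullback w x (UT.hom ≫ ξ) f := by
    have h3 := (h2.paste_horiz (IsPullback.of_hasPullback U.hom f).flip).flip
    rw [pullback.condition] at h3
    exact h3
  let rT : (restr ξ (push f (yoneda.obj (Over.mk X'.hom)))).RepresentableBy UT := pullRep ξ r
  let c : (Over.map ξ).obj UT ⟶ U := ((Over.mapPullbackAdj ξ).homEquiv UT U).symm (𝟙 UT)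
  have hc : c.left = pullback.fst U.hom ξ := by
    change (𝟙 UT : UT ⟶ UT).left ≫ pullback.fst U.hom ξ = _
    rw [Over.id_left]
    exact Category.id_comp _
  have hrT : rT.homEquiv (𝟙 UT) = (push f (yoneda.obj (Over.mk X'.hom))).map c.op
      (r.homEquiv (𝟙 U)) := r.homEquiv_eq c
  have hwx : (w ≫ c.left) ≫ U.hom = x ≫ f := by
    rw [hc, hw1, Category.assoc, pullback.condition, Category.assoc]
  have hev : evG (T := (Over.map ξ).obj UT) (rT.homEquiv (𝟙 UT)) w x hW.w = θ ≫ m₁ := by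
    rw [hrT]
    refine (evG_map c (r.homEquiv (𝟙 U)) w x hW.w hwx).trans ?_
    rw [← hbθ]
    change pullback.lift (w ≫ c.left) x hwx ≫ α = b ≫ α
    congr 1
    apply pullback.hom_ext
    · rw [pullback.lift_fst, hc, hw1]
    · rw [pullback.lift_snd]
  -- the trivialization
  obtain ⟨ι, hι, ⟨Φ⟩⟩ := SplitFibre.exists_split_fibre f X' hsplit k ξ
  let N := ofAlgebra k (ι → k)
  have hN : Etale N.hom := N.prop.2
  let U' : Over (Spec (CommRingCat.of k)) := Over.mk N.hom
  have hU' : Etale U'.hom := hN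
  let W' : Scheme.{u} := pullback N.hom (pullback.snd f ξ)
  let w' : W' ⟶ N.left := pullback.fst N.hom (pullback.snd f ξ)
  let x' : W' ⟶ X := pullback.snd N.hom (pullback.snd f ξ) ≫ pullback.fst f ξ
  have hW' : IsPullback w' x' (N.hom ≫ ξ) f :=
    ((IsPullback.of_hasPullback N.hom (pullback.snd f ξ)).flip.paste_horiz
      (IsPullback.of_hasPullback f ξ)).flip
  let θ' : W' ⟶ M := Φ.inv.left
  have hθ' : θ' ≫ pullback.snd X'.hom (pullback.fst f ξ) = pullback.snd N.hom (pullback.snd f ξ) :=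
    hom_w Φ.inv
  have hθ'iso : IsIso θ' := by
    refine ⟨Φ.hom.left, ?_, ?_⟩
    · have := congrArg (fun t => t.left) Φ.inv_hom_id
      exact this
    · have := congrArg (fun t => t.left) Φ.hom_inv_id
      exact this
  have hθ : IsIso θ := by
    refine isIso_of_representableBy (T := Over.mk ξ) hf hconn UT rT x w hW m₁ m₂ hM θ hev.symm
      hw2.symm U' x' w' hW' θ' ?_ ?_
    · change θ' ≫ m₁ ≫ X'.hom = x'
      rw [pullback.condition, reassoc_of% hθ']
    · change θ' ≫ pullback.snd X'.hom (pullback.fst f ξ) ≫ pullback.snd f ξ = w' ≫ N.hom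
      rw [reassoc_of% hθ', pullback.condition]
  -- the rank
  let e' : M := hM.lift ξe (𝟙 _) (by rw [Category.id_comp]) (IsLocalRing.closedPoint k)
  have he' : m₁ e' = e := by
    rw [← Scheme.Hom.comp_apply, hM.lift_fst]
    exact hξe _
  rw [← he', ← Scheme.Hom.finrank_of_isPullback _ _ _ _ (IsPullback.of_hasPullback α m₁) e']
  have : Scheme.Hom.finrank θ = 1 := Scheme.Hom.finrank_eq_one_of_isIso θ
  exact congrFun this e'

end Groth.Agent.Sga1.PushIso
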