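import Groth.Agent.Sga1.SecRep
import Groth.Agent.Sga1.ProperLift

/-!
# Sections of descent data as compatible morphisms, and their étale spreading out
-/

set_option autoImplicit false
set_option backward.isDefEq.respectTransparency false
set_option backward.isDefEq.respectTransparency.types false

open CategoryTheory CategoryTheory.Limits AlgebraicGeometry Opposite
open _root_.Desc Groth.Agent.Desc.SecFunctor Groth.Agent.Desc.SecPresheaf
  Groth.Agent.Desc.SecDescent Groth.Agent.Desc.ZarGlue SGA1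
open Groth.Agent.Sga1.SectionSpread Groth.Agent.Sga1.RankOne Groth.Agent.Sga1.ProperLift

namespace Groth.Agent.Sga1.SecCompat

universe u

section compat

variable {X S : Scheme.{u}} {p : X ⟶ S} (D : SchDD p)

/-- `σ : W ⟶ D.obj` is a morphism over `X` compatible with the gluing bijections on pairs of points with the
same image in `V`. -/
structure IsCompat {W V : Scheme.{u}} (x : W ⟶ X) (w : W ⟶ V) (σ : W ⟶ D.obj.left) : Prop where
  comp_hom : σ ≫ D.obj.hom = x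
  φ : ∀ {L : Scheme.{u}} (c₀ c₁ : L ⟶ W) (_ : c₀ ≫ w = c₁ ≫ w)
    (h : (c₀ ≫ x) ≫ p = (c₁ ≫ x) ≫ p) (v : Lifts D.obj (c₀ ≫ x)) (_ : v.1 = c₀ ≫ σ),
    (D.φ (c₀ ≫ x) (c₁ ≫ x) h v).1 = c₁ ≫ σ

variable {D}

theorem φ_congr' (D : SchDD p) {T : Scheme.{u}} {x₀ x₁ y₀ y₁ : T ⟶ X} (h : x₀ ≫ p = x₁ ≫ p)
    (h₀ : y₀ = x₀) (h₁ : y₁ = x₁) (h' : y₀ ≫ p = y₁ ≫ p) (v : Lifts D.obj x₀)
    (v' : Lifts D.obj y₀) (hv : v'.1 = v.1) :
    (D.φ y₀ y₁ h' v').1 = (D.φ x₀ x₁ h v).1 := by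
  subst h₀; subst h₁
  have : v' = v := Subtype.ext hv
  rw [this]

theorem IsCompat.comp {W V W' V' : Scheme.{u}} {x : W ⟶ X} {w : W ⟶ V} {σ : W ⟶ D.obj.left}
    (hσ : IsCompat D x w σ) (g : W' ⟶ W) (k : V' ⟶ V) (x' : W' ⟶ X) (w' : W' ⟶ V')
    (hx : x' = g ≫ x) (hw : g ≫ w = w' ≫ k) : IsCompat D x' w' (g ≫ σ) := by
  subst hx
  refine ⟨by rw [Category.assoc, hσ.comp_hom], ?_⟩
  intro L c₀ c₁ hc h v hv
  have h' : ((c₀ ≫ g) ≫ x) ≫ p = ((c₁ ≫ g) ≫ x) ≫ p := by simpa only [Category.assoc] using h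
  have hc' : (c₀ ≫ g) ≫ w = (c₁ ≫ g) ≫ w := by
    rw [Category.assoc, hw, reassoc_of% hc, Category.assoc, hw]
  let v₁ : Lifts D.obj ((c₀ ≫ g) ≫ x) := ⟨(c₀ ≫ g) ≫ σ, by rw [Category.assoc, hσ.comp_hom]⟩
  have := hσ.φ (c₀ ≫ g) (c₁ ≫ g) hc' h' v₁ rfl
  rw [← Category.assoc c₁ g σ, ← this]
  exact φ_congr' D h' (Category.assoc _ _ _).symm (Category.assoc _ _ _).symm h v₁ v
    (by rw [hv, ← Category.assoc])

theorem isCompat_of_universal {W V R : Scheme.{u}} {x : W ⟶ X} {w : W ⟶ V} {σ : W ⟶ D.obj.left}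
    (hσ : σ ≫ D.obj.hom = x) (r₀ r₁ : R ⟶ W)
    (hR : ∀ {L : Scheme.{u}} (c₀ c₁ : L ⟶ W), c₀ ≫ w = c₁ ≫ w → ∃ c : L ⟶ R,
      c ≫ r₀ = c₀ ∧ c ≫ r₁ = c₁)
    (h : (r₀ ≫ x) ≫ p = (r₁ ≫ x) ≫ p) (v : Lifts D.obj (r₀ ≫ x)) (hv : v.1 = r₀ ≫ σ)
    (hφ : (D.φ (r₀ ≫ x) (r₁ ≫ x) h v).1 = r₁ ≫ σ) : IsCompat D x w σ := by
  refine ⟨hσ, ?_⟩
  intro L c₀ c₁ hc h' v' hv'
  obtain ⟨c, rfl, rfl⟩ := hR c₀ c₁ hc
  refine Eq.trans ?_ ((congrArg (c ≫ ·) hφ).trans (Category.assoc _ _ _).symm)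
  exact φ_nat D c (r₀ ≫ x) (r₁ ≫ x) h v (Category.assoc _ _ _) (Category.assoc _ _ _) h' v'
    (by rw [hv', hv, Category.assoc])

theorem isCompat_ev {T : Over S} {W : Scheme.{u}} (a : (secFunctor D).obj (op T)) (x : W ⟶ X)
    (w : W ⟶ T.left) (h : x ≫ p = w ≫ T.hom) : IsCompat D x w (ev a w x h).1 := by
  refine ⟨(ev a w x h).2, ?_⟩
  intro L c₀ c₁ hc h' v hv
  have e0 : (c₀ ≫ x) ≫ p = (c₀ ≫ w) ≫ T.hom := by rw [Category.assoc, h, Category.assoc]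
  have e1 : (c₁ ≫ x) ≫ p = (c₀ ≫ w) ≫ T.hom := by rw [hc, Category.assoc, h, Category.assoc]
  have e2 : (c₁ ≫ x) ≫ p = (c₁ ≫ w) ≫ T.hom := by rw [Category.assoc, h, Category.assoc]
  have hv' : v = ev a (c₀ ≫ w) (c₀ ≫ x) e0 :=
    Subtype.ext (hv.trans (ev_comp a c₀ w x h rfl rfl e0).symm)
  subst hv'
  rw [φ_ev a (c₀ ≫ w) (c₀ ≫ x) (c₁ ≫ x) e0 e1, ← ev_comp a c₁ w x h rfl rfl e2]
  exact ev_congr a hc rfl _ _

theorem exists_sec_of_isCompat {T : Over S} {W : Scheme.{u}} {x : W ⟶ X} {w : W ⟶ T.left}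
    (hW : IsPullback x w p T.hom) {σ : W ⟶ D.obj.left} (hσ : IsCompat D x w σ) :
    ∃ a : (secFunctor D).obj (op T), (ev a w x hW.w).1 = σ := by
  refine ⟨mk (D := D) (T := T) (fun Z z y h => ⟨hW.lift y z h ≫ σ, by
    rw [Category.assoc, hσ.comp_hom, hW.lift_fst]⟩) ?_ ?_, ?_⟩
  · intro Z Z' g z y h h'
    change hW.lift (g ≫ y) (g ≫ z) h' ≫ σ = g ≫ hW.lift y z h ≫ σ
    rw [← Category.assoc]
    congr 1
    apply hW.hom_ext <;> simp
  · intro Z z x₀ x₁ h₀ h₁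
    apply Subtype.ext
    change _ = hW.lift x₁ z h₁ ≫ σ
    have e := hσ.φ (hW.lift x₀ z h₀) (hW.lift x₁ z h₁) (by simp) (by
      simp only [IsPullback.lift_fst]; exact h₀.trans h₁.symm)
      ⟨hW.lift x₀ z h₀ ≫ σ, by rw [Category.assoc, hσ.comp_hom]⟩ rfl
    rw [← e]
    exact φ_congr' D _ (hW.lift_fst _ _ _).symm (hW.lift_fst _ _ _).symm _ _ _ rfl
  · have e := congrArg Subtype.val (ev_mk (D := D) (T := T) (fun Z z y h => ⟨hW.lift y z h ≫ σ, by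
      rw [Category.assoc, hσ.comp_hom, hW.lift_fst]⟩) (by
        intro Z Z' g z y h h'
        change hW.lift (g ≫ y) (g ≫ z) h' ≫ σ = g ≫ hW.lift y z h ≫ σ
        rw [← Category.assoc]
        congr 1
        apply hW.hom_ext <;> simp) (by
        intro Z z x₀ x₁ h₀ h₁
        apply Subtype.ext
        change _ = hW.lift x₁ z h₁ ≫ σ
        have e := hσ.φ (hW.lift x₀ z h₀) (hW.lift x₁ z h₁) (by simp) (by
          simp only [IsPullback.lift_fst]; exact h₀.trans h₁.symm)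
          ⟨hW.lift x₀ z h₀ ≫ σ, by rw [Category.assoc, hσ.comp_hom]⟩ rfl
        rw [← e]
        exact φ_congr' D _ (hW.lift_fst _ _ _).symm (hW.lift_fst _ _ _).symm _ _ _ rfl) w x hW.w)
    refine e.trans ?_
    change hW.lift x w hW.w ≫ σ = σ
    have : hW.lift x w hW.w = 𝟙 W := by apply hW.hom_ext <;> simp
    rw [this, Category.id_comp]

end compat

section triv

variable {X S N : Scheme.{u}} (p : X ⟶ S) (ν : N ⟶ S)

/-- The structure map of `X ×_S N`. -/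
noncomputable abbrev fN : pullback p ν ⟶ S := pullback.fst p ν ≫ p

/-- The structure map of `(X ×_S N) ×_N (X ×_S N)`. -/
noncomputable abbrev f₂ : pullback (pullback.snd p ν) (pullback.snd p ν) ⟶ S :=
  pullback.fst (pullback.snd p ν) (pullback.snd p ν) ≫ fN p ν

variable {T : Scheme.{u}} (t : T ⟶ S)

/-- The projection to `X`. -/
noncomputable abbrev xT : pullback (fN p ν) t ⟶ X := pullback.fst (fN p ν) t ≫ pullback.fst p ν

/-- The projection to `N ×_S T`. -/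
noncomputable def wT : pullback (fN p ν) t ⟶ pullback ν t :=
  pullback.lift (pullback.fst (fN p ν) t ≫ pullback.snd p ν) (pullback.snd (fN p ν) t)
    (by rw [Category.assoc, ← pullback.condition (f := p)]; exact pullback.condition)

@[reassoc (attr := simp)]
theorem wT_fst : wT p ν t ≫ pullback.fst ν t = pullback.fst (fN p ν) t ≫ pullback.snd p ν :=
  pullback.lift_fst _ _ _

@[reassoc (attr := simp)]
theorem wT_snd : wT p ν t ≫ pullback.snd ν t = pullback.snd (fN p ν) t :=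
  pullback.lift_snd _ _ _

theorem isPullback_xT : IsPullback (xT p ν t) (wT p ν t) p (pullback.snd ν t ≫ t) := by
  have h1 : IsPullback (pullback.fst (fN p ν) t) (wT p ν t) (pullback.snd p ν)
      (pullback.fst ν t) := by
    refine IsPullback.of_bot (h₃₁ := t) (v₂₁ := pullback.snd ν t) (v₂₂ := ν) ?_
      (wT_fst p ν t).symm (IsPullback.of_hasPullback ν t)
    rw [wT_snd, ← pullback.condition (f := p)]
    exact IsPullback.of_hasPullback (fN p ν) t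
  have h2 := h1.paste_horiz (IsPullback.of_hasPullback p ν).flip.flip
  rw [pullback.condition] at h2
  exact h2

/-- The first projection from the fibre product. -/
noncomputable def r₀ : pullback (f₂ p ν) t ⟶ pullback (fN p ν) t :=
  pullback.lift (pullback.fst (f₂ p ν) t ≫ pullback.fst (pullback.snd p ν) (pullback.snd p ν))
    (pullback.snd (f₂ p ν) t) (by rw [Category.assoc]; exact pullback.condition)

/-- The second projection from the fibre product. -/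
noncomputable def r₁ : pullback (f₂ p ν) t ⟶ pullback (fN p ν) t :=
  pullback.lift (pullback.fst (f₂ p ν) t ≫ pullback.snd (pullback.snd p ν) (pullback.snd p ν))
    (pullback.snd (f₂ p ν) t) (by
      rw [← pullback.condition (f := f₂ p ν), Category.assoc, fN, pullback.condition (f := p),
        ← pullback.condition_assoc, ← pullback.condition (f := p)])

@[reassoc (attr := simp)]
theorem r₀_fst : r₀ p ν t ≫ pullback.fst (fN p ν) t =
    pullback.fst (f₂ p ν) t ≫ pullback.fst (pullback.snd p ν) (pullback.snd p ν) :=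
  pullback.lift_fst _ _ _

@[reassoc (attr := simp)]
theorem r₀_snd : r₀ p ν t ≫ pullback.snd (fN p ν) t = pullback.snd (f₂ p ν) t :=
  pullback.lift_snd _ _ _

@[reassoc (attr := simp)]
theorem r₁_fst : r₁ p ν t ≫ pullback.fst (fN p ν) t =
    pullback.fst (f₂ p ν) t ≫ pullback.snd (pullback.snd p ν) (pullback.snd p ν) :=
  pullback.lift_fst _ _ _

@[reassoc (attr := simp)]
theorem r₁_snd : r₁ p ν t ≫ pullback.snd (fN p ν) t = pullback.snd (f₂ p ν) t :=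
  pullback.lift_snd _ _ _

theorem exists_r {L : Scheme.{u}} (c₀ c₁ : L ⟶ pullback (fN p ν) t)
    (h : c₀ ≫ wT p ν t = c₁ ≫ wT p ν t) : ∃ c : L ⟶ pullback (f₂ p ν) t,
      c ≫ r₀ p ν t = c₀ ∧ c ≫ r₁ p ν t = c₁ := by
  have h1 : c₀ ≫ pullback.fst (fN p ν) t ≫ pullback.snd p ν =
      c₁ ≫ pullback.fst (fN p ν) t ≫ pullback.snd p ν := by
    simpa using congrArg (· ≫ pullback.fst ν t) h
  have h2 : c₀ ≫ pullback.snd (fN p ν) t = c₁ ≫ pullback.snd (fN p ν) t := by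
    simpa using congrArg (· ≫ pullback.snd ν t) h
  refine ⟨pullback.lift (pullback.lift (c₀ ≫ pullback.fst (fN p ν) t)
    (c₁ ≫ pullback.fst (fN p ν) t) (by simpa using h1)) (c₀ ≫ pullback.snd (fN p ν) t) (by
      simpa using c₀ ≫= pullback.condition (f := fN p ν) (g := t)), ?_, ?_⟩
  · apply pullback.hom_ext <;> simp
  · apply pullback.hom_ext
    · simp
    · simp [h2]

theorem r_comp : (r₀ p ν t ≫ xT p ν t) ≫ p = (r₁ p ν t ≫ xT p ν t) ≫ p := by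
  have e : pullback.fst (fN p ν) t ≫ pullback.fst p ν ≫ p = pullback.snd (fN p ν) t ≫ t := by
    rw [← pullback.condition (f := fN p ν)]
  simp only [Category.assoc, e, r₀_snd_assoc, r₁_snd_assoc]

end triv

section etale

variable {A : Type u} [CommRing A] {X N : Scheme.{u}} {p : X ⟶ Spec (CommRingCat.of A)}
  (ν : N ⟶ Spec (CommRingCat.of A)) (D : SchDD p)

/-- The two maps to be compared, first one. -/
noncomputable def τ₀ {T : Scheme.{u}} (t : T ⟶ Spec (CommRingCat.of A))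
    (σ : pullback (fN p ν) t ⟶ D.obj.left) (hσ : σ ≫ D.obj.hom = xT p ν t) :
    pullback (f₂ p ν) t ⟶ D.obj.left :=
  (D.φ (r₀ p ν t ≫ xT p ν t) (r₁ p ν t ≫ xT p ν t) (r_comp p ν t)
    ⟨r₀ p ν t ≫ σ, by rw [Category.assoc, hσ]⟩).1

theorem τ₀_hom {T : Scheme.{u}} (t : T ⟶ Spec (CommRingCat.of A))
    (σ : pullback (fN p ν) t ⟶ D.obj.left) (hσ : σ ≫ D.obj.hom = xT p ν t) :
    τ₀ ν D t σ hσ ≫ D.obj.hom = r₁ p ν t ≫ xT p ν t :=
  (D.φ (r₀ p ν t ≫ xT p ν t) (r₁ p ν t ≫ xT p ν t) (r_comp p ν t)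
    ⟨r₀ p ν t ≫ σ, by rw [Category.assoc, hσ]⟩).2

variable {B B' : Type u} [CommRing B] [CommRing B'] [Algebra A B] [Algebra A B']

theorem bcMap_r₀ (ψ : B →ₐ[A] B') : bcMap (f₂ p ν) ψ ≫ r₀ p ν (str A B) =
    r₀ p ν (str A B') ≫ bcMap (fN p ν) ψ := by
  apply pullback.hom_ext <;> simp

theorem bcMap_r₁ (ψ : B →ₐ[A] B') : bcMap (f₂ p ν) ψ ≫ r₁ p ν (str A B) =
    r₁ p ν (str A B') ≫ bcMap (fN p ν) ψ := by
  apply pullback.hom_ext <;> simp

theorem bcMap_xT (ψ : B →ₐ[A] B') : bcMap (fN p ν) ψ ≫ xT p ν (str A B) = xT p ν (str A B') := by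
  simp

theorem bcMap_wT (ψ : B →ₐ[A] B') : bcMap (fN p ν) ψ ≫ wT p ν (str A B) =
    wT p ν (str A B') ≫ bcMap ν ψ := by
  apply pullback.hom_ext <;> simp

theorem bcMap_τ₀ (ψ : B →ₐ[A] B') (σ : bc (fN p ν) B ⟶ D.obj.left)
    (hσ : σ ≫ D.obj.hom = xT p ν (str A B))
    (hσ' : (bcMap (fN p ν) ψ ≫ σ) ≫ D.obj.hom = xT p ν (str A B')) :
    bcMap (f₂ p ν) ψ ≫ τ₀ ν D (str A B) σ hσ = τ₀ ν D (str A B') (bcMap (fN p ν) ψ ≫ σ) hσ' := by
  refine (φ_nat D (bcMap (f₂ p ν) ψ) _ _ (r_comp p ν (str A B)) _ ?_ ?_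
    (r_comp p ν (str A B')) _ ?_).symm
  · rw [← Category.assoc (bcMap (f₂ p ν) ψ), bcMap_r₀, Category.assoc, bcMap_xT]
  · rw [← Category.assoc (bcMap (f₂ p ν) ψ), bcMap_r₁, Category.assoc, bcMap_xT]
  · change r₀ p ν (str A B') ≫ bcMap (fN p ν) ψ ≫ σ = bcMap (f₂ p ν) ψ ≫ r₀ p ν (str A B) ≫ σ
    rw [← Category.assoc, ← bcMap_r₀, Category.assoc]

theorem isCompat_iff {T : Scheme.{u}} (t : T ⟶ Spec (CommRingCat.of A))
    (σ : pullback (fN p ν) t ⟶ D.obj.left) (hσ : σ ≫ D.obj.hom = xT p ν t) :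
    IsCompat D (xT p ν t) (wT p ν t) σ ↔ τ₀ ν D t σ hσ = r₁ p ν t ≫ σ := by
  constructor
  · intro h
    refine h.φ (r₀ p ν t) (r₁ p ν t) ?_ (r_comp p ν t) _ rfl
    apply pullback.hom_ext
    · simp [pullback.condition]
    · simp
  · intro h
    exact isCompat_of_universal hσ (r₀ p ν t) (r₁ p ν t) (fun c₀ c₁ hc => exists_r p ν t c₀ c₁ hc)
      (r_comp p ν t) ⟨r₀ p ν t ≫ σ, by rw [Category.assoc, hσ]⟩ rfl h

variable (C : Type u) [CommRing C] [IsLocalRing C] [Algebra A C]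

/-- Compatibility over the residue field spreads out. -/
theorem exists_etale_isCompat [IsProper p] [LocallyOfFinitePresentation p] [IsFinite ν] [Etale ν]
    [IsFinite D.obj.hom] [Etale D.obj.hom]
    (hC : ∀ (P : Type u) [CommRing P] [Algebra A P] [Algebra.FinitePresentation A P]
      (φ : P →ₐ[A] C), ∃ (E : Type u) (_ : CommRing E) (_ : Algebra A E) (_ : Algebra.Etale A E)
      (ψ : P →ₐ[A] E) (χ : E →ₐ[A] C), χ.comp ψ = φ)
    [Algebra.FinitePresentation A B] (χ : B →ₐ[A] C)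
    (σ : bc (fN p ν) B ⟶ D.obj.left) (hσ : σ ≫ D.obj.hom = xT p ν (str A B))
    (hk : IsCompat D (xT p ν (str A (IsLocalRing.ResidueField C)))
      (wT p ν (str A (IsLocalRing.ResidueField C))) (bcMap (fN p ν) ((res A C).comp χ) ≫ σ)) :
    ∃ (B' : Type u) (_ : CommRing B') (_ : Algebra A B') (_ : Algebra.Etale A B')
      (ψ : B →ₐ[A] B') (χ' : B' →ₐ[A] C), χ'.comp ψ = χ ∧
      IsCompat D (xT p ν (str A B')) (wT p ν (str A B')) (bcMap (fN p ν) ψ ≫ σ) := by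
  have hσ' : ∀ {B' : Type u} [CommRing B'] [Algebra A B'] (ψ : B →ₐ[A] B'),
      (bcMap (fN p ν) ψ ≫ σ) ≫ D.obj.hom = xT p ν (str A B') := by
    intro B' _ _ ψ
    rw [Category.assoc, hσ, bcMap_xT]
  obtain ⟨B', i1, i2, i3, ψ, χ', h1, h2⟩ := exists_etale_eq_of_residue C (f₂ p ν)
    (pullback.snd (pullback.snd p ν) (pullback.snd p ν) ≫ pullback.fst p ν) D.obj.hom hC B χ
    (τ₀ ν D (str A B) σ hσ) (r₁ p ν (str A B) ≫ σ) (by rw [τ₀_hom]; simp)
    (by rw [Category.assoc, hσ]; simp) (by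
      rw [bcMap_τ₀ ν D _ σ hσ (hσ' _), (isCompat_iff ν D _ _ (hσ' _)).mp hk, ← Category.assoc,
        ← bcMap_r₁, Category.assoc])
  refine ⟨B', i1, i2, i3, ψ, χ', h1, ?_⟩
  rw [isCompat_iff ν D _ _ (hσ' _), ← bcMap_τ₀ ν D _ σ hσ (hσ' _), h2, ← Category.assoc, bcMap_r₁,
    Category.assoc]

end etale

end Groth.Agent.Sga1.SecCompat
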