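import Groth.Agent.Desc.SecPresheaf
import Groth.Agent.Sga1.EtaleHom

/-!
# The presheaf of sections of an etale descent datum satisfies descent along universally
submersive morphisms
-/

set_option autoImplicit false
set_option maxHeartbeats 400000
set_option backward.isDefEq.respectTransparency false
set_option backward.isDefEq.respectTransparency.types false
open CategoryTheory CategoryTheory.Limits AlgebraicGeometry Opposite
universe u
open _root_.Desc Groth.Agent.Desc.SecFunctor Groth.Agent.Desc.SecPresheaf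

namespace Groth.Agent.Sga1.SecEtale

open SGA1 Groth.Agent.Sga1.UnivSub

variable {X S : Scheme.{u}} {p : X ⟶ S}

/-- Sections of a descent datum on an unramified scheme are determined after a surjective base
change. -/
theorem inj_of_surjective (D : SchDD p) [FormallyUnramified D.obj.hom]
    [LocallyOfFiniteType D.obj.hom] {T' T : Over S} (g : T' ⟶ T) [Surjective g.left]
    (a b : (secFunctor D).obj (op T))
    (hab : (secFunctor D).map g.op a = (secFunctor D).map g.op b) : a = b := by
  apply ev_ext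
  intro Z z x h
  refine EtaleHom.hom_unique (pullback.fst z g.left) D.obj.hom _ _
    ((ev a z x h).2.trans (ev b z x h).2.symm) ?_
  have hx : (pullback.fst z g.left ≫ x) ≫ p = pullback.snd z g.left ≫ T'.hom := by
    rw [Category.assoc, h, ← Category.assoc, pullback.condition, Category.assoc, Over.w g]
  have key : ∀ s : (secFunctor D).obj (op T), pullback.fst z g.left ≫ (ev s z x h).1 =
      (ev ((secFunctor D).map g.op s) (pullback.snd z g.left) (pullback.fst z g.left ≫ x) hx).1 := by
    intro s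
    have h' : (pullback.fst z g.left ≫ x) ≫ p = (pullback.snd z g.left ≫ g.left) ≫ T.hom := by
      rw [hx, Category.assoc, Over.w g]
    rw [ev_map g s (pullback.snd z g.left) (pullback.fst z g.left ≫ x) hx h']
    exact (ev_comp s (pullback.fst z g.left) z x h pullback.condition.symm rfl h').symm
  rw [key, key, hab]

/-- The presheaf of sections of a descent datum on an etale scheme satisfies descent along
universally submersive morphisms. -/
theorem isDesc_of_univSubmersive (D : SchDD p) [Etale D.obj.hom] {T' T : Over S} (g : T' ⟶ T)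
    (hg : UnivSubmersive g.left) : IsDesc (secFunctor D) g := by
  have hs : Surjective g.left := surjective hg
  refine ⟨fun a b => inj_of_surjective D g a b, fun a ha => ?_⟩
  -- the base change of `g`
  let h : pullback p T'.hom ⟶ pullback p T.hom :=
    pullback.lift (pullback.fst p T'.hom) (pullback.snd p T'.hom ≫ g.left) (by
      rw [Category.assoc, Over.w g, pullback.condition])
  have hh1 : h ≫ pullback.fst p T.hom = pullback.fst p T'.hom := pullback.lift_fst _ _ _
  have hh2 : h ≫ pullback.snd p T.hom = pullback.snd p T'.hom ≫ g.left := pullback.lift_snd _ _ _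
  have sq : IsPullback h (pullback.snd p T'.hom) (pullback.snd p T.hom) g.left := by
    refine IsPullback.of_right (h₁₂ := pullback.fst p T.hom) (h₂₂ := T.hom) (v₁₃ := p) ?_ hh2
      (IsPullback.of_hasPullback p T.hom)
    rw [hh1, Over.w g]
    exact IsPullback.of_hasPullback p T'.hom
  have hh : UnivSubmersive h := MorphismProperty.of_isPullback sq.flip hg
  let v : pullback p T'.hom ⟶ D.obj.left :=
    (ev a (pullback.snd p T'.hom) (pullback.fst p T'.hom) pullback.condition).1
  have hv : v ≫ D.obj.hom = h ≫ pullback.fst p T.hom := by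
    rw [hh1]
    exact (ev a (pullback.snd p T'.hom) (pullback.fst p T'.hom) pullback.condition).2
  have hcompat : ∀ ⦃Z : Scheme.{u}⦄ (y₀ y₁ : Z ⟶ pullback p T'.hom), y₀ ≫ h = y₁ ≫ h →
      y₀ ≫ v = y₁ ≫ v := by
    intro Z y₀ y₁ hy
    have e1 : y₀ ≫ pullback.fst p T'.hom = y₁ ≫ pullback.fst p T'.hom := by
      rw [← hh1, ← Category.assoc, hy, Category.assoc]
    have e2 : (y₀ ≫ pullback.snd p T'.hom) ≫ g.left = (y₁ ≫ pullback.snd p T'.hom) ≫ g.left := by
      rw [Category.assoc, ← hh2, ← Category.assoc, hy, Category.assoc, hh2, Category.assoc]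
    have hZ : (y₁ ≫ pullback.snd p T'.hom) ≫ T'.hom = (y₀ ≫ pullback.snd p T'.hom) ≫ T'.hom := by
      have e3 := congrArg (· ≫ T.hom) e2
      simp only [Category.assoc, Over.w g] at e3 ⊢
      exact e3.symm
    have h4 := ha (Over.mk ((y₀ ≫ pullback.snd p T'.hom) ≫ T'.hom))
      (Over.homMk (y₀ ≫ pullback.snd p T'.hom) rfl)
      (Over.homMk (y₁ ≫ pullback.snd p T'.hom) hZ) (by ext; simpa using e2)
    have hx0 : (y₀ ≫ pullback.fst p T'.hom) ≫ p = 𝟙 Z ≫ (y₀ ≫ pullback.snd p T'.hom) ≫ T'.hom := by
      rw [Category.id_comp, Category.assoc, Category.assoc, pullback.condition]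
    have h5 := congrArg (fun b => ev b (𝟙 Z) (y₀ ≫ pullback.fst p T'.hom) hx0) h4
    dsimp only at h5
    have ev0 := ev_map_homMk a (zs := (y₀ ≫ pullback.snd p T'.hom) ≫ T'.hom)
      (y₀ ≫ pullback.snd p T'.hom) rfl (𝟙 Z) (y₀ ≫ pullback.fst p T'.hom) hx0
      (by rw [Category.id_comp]; simpa using hx0)
    have ev1 := ev_map_homMk a (zs := (y₀ ≫ pullback.snd p T'.hom) ≫ T'.hom)
      (y₁ ≫ pullback.snd p T'.hom) hZ (𝟙 Z) (y₀ ≫ pullback.fst p T'.hom) hx0
      (by rw [Category.id_comp, hZ]; simpa using hx0)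
    replace h5 := ev0.symm.trans (h5.trans ev1)
    have h6 := congrArg Subtype.val h5
    have e3 := ev_comp a y₀ (pullback.snd p T'.hom) (pullback.fst p T'.hom) pullback.condition
      (z' := 𝟙 Z ≫ y₀ ≫ pullback.snd p T'.hom) (x' := y₀ ≫ pullback.fst p T'.hom)
      (Category.id_comp _) rfl (by rw [Category.id_comp]; simpa using hx0)
    have e4 := ev_comp a y₁ (pullback.snd p T'.hom) (pullback.fst p T'.hom) pullback.condition
      (z' := 𝟙 Z ≫ y₁ ≫ pullback.snd p T'.hom) (x' := y₀ ≫ pullback.fst p T'.hom)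
      (Category.id_comp _) e1 (by rw [Category.id_comp, hZ]; simpa using hx0)
    exact e3.symm.trans (h6.trans e4)
  obtain ⟨u, hu1, hu2⟩ := EtaleHom.exists_hom_of_compat h hh (pullback.fst p T.hom) D.obj.hom v hv
    (fun L _ x₀ x₁ hx => hcompat x₀ x₁ hx)
  have hl : ∀ ⦃Z : Scheme.{u}⦄ (z : Z ⟶ T.left) (x : Z ⟶ X) (h : x ≫ p = z ≫ T.hom),
      (pullback.lift x z h ≫ u) ≫ D.obj.hom = x := by
    intro Z z x h
    rw [Category.assoc, hu1, pullback.lift_fst]
  -- values after base change to `T'`
  have hval : ∀ ⦃Z : Scheme.{u}⦄ (z' : Z ⟶ T'.left) (x : Z ⟶ X) (h' : x ≫ p = z' ≫ T'.hom)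
      (h'' : x ≫ p = (z' ≫ g.left) ≫ T.hom),
      pullback.lift x (z' ≫ g.left) h'' ≫ u = (ev a z' x h').1 := by
    intro Z z' x h' h''
    have e1 : pullback.lift x (z' ≫ g.left) h'' = pullback.lift x z' h' ≫ h := by
      apply pullback.hom_ext
      · simp [h]
      · simp [h]
    rw [e1, Category.assoc, hu2]
    exact (ev_comp a (pullback.lift x z' h') _ _ _ (pullback.lift_snd _ _ _).symm
      (pullback.lift_fst _ _ _).symm h').symm
  refine ⟨mk (D := D) (T := T) (fun Z z x h => ⟨pullback.lift x z h ≫ u, hl z x h⟩) ?_ ?_, ?_⟩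
  · intro Z Z' f z x h h'
    dsimp only
    rw [← Category.assoc]
    congr 1
    apply pullback.hom_ext <;> simp
  · intro Z z x₀ x₁ h₀ h₁
    apply Subtype.ext
    refine EtaleHom.hom_unique (pullback.fst z g.left) D.obj.hom _ _
      ((D.φ x₀ x₁ (h₀.trans h₁.symm) ⟨pullback.lift x₀ z h₀ ≫ u, hl z x₀ h₀⟩).2.trans
        (hl z x₁ h₁).symm) ?_
    have hx : ∀ (x : Z ⟶ X) (_ : x ≫ p = z ≫ T.hom),
        (pullback.fst z g.left ≫ x) ≫ p = pullback.snd z g.left ≫ T'.hom := by
      intro x hx
      rw [Category.assoc, hx, ← Category.assoc, pullback.condition, Category.assoc, Over.w g]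
    have hx' : ∀ (x : Z ⟶ X) (_ : x ≫ p = z ≫ T.hom),
        (pullback.fst z g.left ≫ x) ≫ p = (pullback.snd z g.left ≫ g.left) ≫ T.hom := by
      intro x hx2
      rw [hx x hx2, Category.assoc, Over.w g]
    have hr : ∀ (x : Z ⟶ X) (h : x ≫ p = z ≫ T.hom),
        pullback.fst z g.left ≫ pullback.lift x z h ≫ u =
          (ev a (pullback.snd z g.left) (pullback.fst z g.left ≫ x) (hx x h)).1 := by
      intro x h
      rw [← hval _ _ (hx x h) (hx' x h), ← Category.assoc]
      congr 1
      apply pullback.hom_ext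
      · simp
      · simp [pullback.condition]
    rw [hr x₁ h₁]
    rw [← φ_ev a (pullback.snd z g.left) (pullback.fst z g.left ≫ x₀)
      (pullback.fst z g.left ≫ x₁) (hx x₀ h₀) (hx x₁ h₁)]
    exact (φ_nat D (pullback.fst z g.left) x₀ x₁ (h₀.trans h₁.symm) _ rfl rfl _ _
      (hr x₀ h₀).symm).symm
  · apply ev_ext
    intro Z z x h
    have h' : x ≫ p = (z ≫ g.left) ≫ T.hom := by rw [Category.assoc, Over.w g]; exact h
    rw [ev_map g _ z x h h', ev_mk]
    exact hval z x h h'

end Groth.Agent.Sga1.SecEtale
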