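import Groth.Agent.Sga1.SecEtale
import Groth.Agent.Desc.EtToDD
import Groth.Agent.Desc.SecDescent
import Groth.Agent.Desc.LocalRep
import Groth.Agent.Desc.ZarSec
import Mathlib.AlgebraicGeometry.Morphisms.Integral

/-!
# Representability of the sections of an etale descent datum after a base change where the
descent datum can be refined by an effective one
-/

set_option autoImplicit false
set_option maxHeartbeats 400000
set_option backward.isDefEq.respectTransparency false
set_option backward.isDefEq.respectTransparency.types false
open CategoryTheory CategoryTheory.Limits AlgebraicGeometry Opposite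
universe u
open _root_.Desc Groth.Agent.Desc.SecFunctor Groth.Agent.Desc.SecPresheaf

namespace Groth.Agent.Sga1.SecLocal

open SGA1 Groth.Agent.Sga1.UnivSub Groth.Agent.Desc.SecDescent

/-- A surjective universally closed morphism is universally submersive. -/
theorem univSubmersive_of_universallyClosed {X Y : Scheme.{u}} (f : X ⟶ Y) [UniversallyClosed f]
    [Surjective f] : UnivSubmersive f := by
  intro X' Y' i₁ i₂ f' hpb
  have : UniversallyClosed f' := MorphismProperty.of_isPullback hpb.flip inferInstance
  have : Surjective f' := MorphismProperty.of_isPullback hpb.flip inferInstance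
  exact f'.isClosedMap.isQuotientMap f'.continuous f'.surjective

/-- A surjective universally open morphism is universally submersive. -/
theorem univSubmersive_of_universallyOpen {X Y : Scheme.{u}} (f : X ⟶ Y) [UniversallyOpen f]
    [Surjective f] : UnivSubmersive f := by
  intro X' Y' i₁ i₂ f' hpb
  have : UniversallyOpen f' := MorphismProperty.of_isPullback hpb.flip inferInstance
  have : Surjective f' := MorphismProperty.of_isPullback hpb.flip inferInstance
  exact f'.isOpenMap.isQuotientMap f'.continuous f'.surjective

variable {X S : Scheme.{u}} {p : X ⟶ S}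

/-- `toDD p` is fully faithful on morphisms to etale schemes when `p` is universally submersive. -/
theorem map_bijective (p : X ⟶ S) (hp : UnivSubmersive p) (T U : Over S) [Etale U.hom] :
    Function.Bijective ((toDD p).map : (T ⟶ U) → _) := by
  have hs : Surjective p := surjective hp
  refine ⟨Groth.Agent.Desc.EtToDD.map_injective_of_etale p T U, fun F => ?_⟩
  let F' : canonicalDD p T ⟶ canonicalDD p U := F
  have hF : F'.hom.left ≫ pullback.fst p U.hom = pullback.fst p T.hom := Over.w F'.hom
  obtain ⟨g, hg1, hg2⟩ := EtaleHom.exists_hom_of_compat (pullback.snd p T.hom)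
    (MorphismProperty.pullback_snd _ _ hp) T.hom U.hom (F'.hom.left ≫ pullback.snd p U.hom) (by
      rw [Category.assoc, ← pullback.condition, ← Category.assoc, hF, pullback.condition])
    (fun L _ x₀ x₁ hx => Groth.Agent.Desc.ToDD.comp_snd_eq p F' x₀ x₁ hx)
  refine ⟨Over.homMk g hg1, ?_⟩
  apply SchDD.hom_ext
  apply Over.OverMorphism.ext
  apply pullback.hom_ext
  · have : F'.hom.left ≫ pullback.fst p U.hom = pullback.fst p T.hom := hF
    simp only [toDD, Over.homMk_left]
    rw [pullback.lift_fst]
    exact (Category.comp_id _).trans this.symm
  · simp only [toDD, Over.homMk_left]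
    rw [pullback.lift_snd]
    exact hg2

/-- If `toDD p` is bijective on morphisms to `U`, an effective descent datum has a representable
presheaf of sections. -/
noncomputable def representableByOfIso {D : SchDD p} {U : Over S}
    (hU : ∀ T : Over S, Function.Bijective ((toDD p).map : (T ⟶ U) → _))
    (e : (toDD p).obj U ≅ D) : (secFunctor D).RepresentableBy U where
  homEquiv {T} := (Equiv.ofBijective _ (hU T)).trans e.homToEquiv
  homEquiv_comp {T T'} f g := by
    simp [secFunctor]

/-- Let `D` be a descent datum relative to `p` with `D.obj` etale. Suppose that over `q : T ⟶ S`,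
there is a universally submersive `π : Y ⟶ T` dominating the base change of `p`. If descent data
relative to `π` with underlying scheme `Y ×_X D.obj` are effective, with etale result, then the
restriction to `T` of the presheaf of sections of `D` is representable. -/
theorem exists_representableBy (D : SchDD p) [Etale D.obj.hom] {T Y : Scheme.{u}} (q : T ⟶ S)
    (π : Y ⟶ T) (hπ : UnivSubmersive π) (r : Y ⟶ X) (h : r ≫ p = π ≫ q)
    (P : Over T → Prop)
    (heff : ∀ D' : SchDD π, D'.obj = (Over.pullback r).obj D.obj →
      ∃ U : Over T, P U ∧ Etale U.hom ∧ Nonempty ((toDD π).obj U ≅ D')) :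
    ∃ U : Over T, P U ∧ Etale U.hom ∧ Nonempty ((restr q (secFunctor D)).RepresentableBy U) := by
  let e := pullRepSq (q := q) (a := r) h.symm (restrRep D)
  have hsheaf : IsPSheaf π (restr q (secFunctor D)) := by
    intro Z
    refine IsDesc.restr _ ?_
    refine SecEtale.isDesc_of_univSubmersive D _ ?_
    exact MorphismProperty.pullback_snd _ _ hπ
  obtain ⟨U, hU1, hU2, ⟨i⟩⟩ := heff (ofPresheaf e) rfl
  exact ⟨U, hU1, hU2, ⟨(representableByOfIso (map_bijective π hπ · U) i).ofIso
    (isoSec e hsheaf).symm⟩⟩

end Groth.Agent.Sga1.SecLocal
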