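import Groth.Agent.Desc.ZarGlue
import Groth.Agent.Sga1.EtaleHom
import Mathlib.AlgebraicGeometry.Morphisms.Proper

/-!
# Representability of the presheaf of sections of a descent datum from a trivialization
-/

set_option autoImplicit false
set_option backward.isDefEq.respectTransparency false
set_option backward.isDefEq.respectTransparency.types false

open CategoryTheory CategoryTheory.Limits AlgebraicGeometry Opposite
open _root_.Desc Groth.Agent.Desc.SecFunctor Groth.Agent.Desc.SecPresheaf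
  Groth.Agent.Desc.SecDescent Groth.Agent.Desc.ZarGlue SGA1

namespace Groth.Agent.Sga1.SecRep

universe u

/-- Universally closed surjective morphisms are universally submersive. -/
theorem univSubmersive_of_universallyClosed {X Y : Scheme.{u}} (f : X ⟶ Y) [UniversallyClosed f]
    [Surjective f] : UnivSubmersive f := by
  intro X' Y' i₁ i₂ f' h
  have h1 : UniversallyClosed f' := MorphismProperty.of_isPullback h.flip inferInstance
  have h2 : Surjective f' := MorphismProperty.of_isPullback h.flip inferInstance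
  exact f'.isClosedMap.isQuotientMap f'.continuous f'.surjective

variable {X S : Scheme.{u}} {p : X ⟶ S}

/-- Equality of sections can be tested on a fibre product. -/
theorem eq_of_ev {D : SchDD p} {T : Over S} {a b : (secFunctor D).obj (op T)} {W : Scheme.{u}}
    {x : W ⟶ X} {w : W ⟶ T.left} (h : IsPullback x w p T.hom)
    (hab : (ev a w x h.w).1 = (ev b w x h.w).1) : a = b := by
  apply ev_ext
  intro Z z y hzy
  have h1 := ev_comp a (h.lift y z hzy) w x h.w (z' := z) (x' := y) (by simp) (by simp) hzy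
  have h2 := ev_comp b (h.lift y z hzy) w x h.w (z' := z) (x' := y) (by simp) (by simp) hzy
  rw [h1, h2, hab]

/-- Representability from a trivialization. -/
theorem existsUnique_of_trivialization (hp : UnivSubmersive p) (D : SchDD p) {T : Over S}
    (U : Over T.left) [Etale U.hom] (a : (restr T.hom (secFunctor D)).obj (op U))
    {W M : Scheme.{u}} (x : W ⟶ X) (w : W ⟶ U.left) (hW : IsPullback x w p (U.hom ≫ T.hom))
    (m₁ : M ⟶ D.obj.left) (m₂ : M ⟶ T.left) (hM : IsPullback m₁ m₂ (D.obj.hom ≫ p) T.hom)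
    (θ : W ⟶ M) [IsIso θ]
    (h₁ : θ ≫ m₁ = (ev (T := (Over.map T.hom).obj U) a w x hW.w).1) (h₂ : θ ≫ m₂ = w ≫ U.hom)
    (Y : Over T.left) (b : (restr T.hom (secFunctor D)).obj (op Y)) :
    ∃! g : Y ⟶ U, (restr T.hom (secFunctor D)).map g.op a = b := by
  let a' : (secFunctor D).obj (op ((Over.map T.hom).obj U)) := a
  let b' : (secFunctor D).obj (op ((Over.map T.hom).obj Y)) := b
  have hW' : IsPullback x w p ((Over.map T.hom).obj U).hom := hW
  -- two points of `W` with the same image in `E` and `T`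
  have hinj : ∀ {L : Scheme.{u}} (c c' : L ⟶ W), c ≫ θ ≫ m₁ = c' ≫ θ ≫ m₁ →
      c ≫ θ ≫ m₂ = c' ≫ θ ≫ m₂ → c = c' := by
    intro L c c' h h'
    rw [← cancel_mono θ]
    apply hM.hom_ext
    · simpa using h
    · simpa using h'
  -- same with points of `U`
  have hinjU : ∀ {L : Scheme.{u}} (ξ : L ⟶ X) (z z' : L ⟶ U.left)
      (h : ξ ≫ p = z ≫ U.hom ≫ T.hom) (h' : ξ ≫ p = z' ≫ U.hom ≫ T.hom),
      z ≫ U.hom = z' ≫ U.hom → (ev a' z ξ h).1 = (ev a' z' ξ h').1 → z = z' := by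
    intro L ξ z z' h h' hT hE
    have e1 := ev_comp a' (hW'.lift ξ z h) w x hW'.w (z' := z) (x' := ξ) (by simp) (by simp) h
    have e2 := ev_comp a' (hW'.lift ξ z' h') w x hW'.w (z' := z') (x' := ξ) (by simp) (by simp) h'
    have := hinj (hW'.lift ξ z h) (hW'.lift ξ z' h') (by
      rw [h₁]
      exact e1.symm.trans (hE.trans e2)) (by
      rw [h₂, IsPullback.lift_snd_assoc, IsPullback.lift_snd_assoc, hT])
    have h3 := congrArg (· ≫ w) this
    simpa using h3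
  -- the universal points over `Y`
  let xY : pullback p (Y.hom ≫ T.hom) ⟶ X := pullback.fst _ _
  let wY : pullback p (Y.hom ≫ T.hom) ⟶ Y.left := pullback.snd _ _
  have hY : IsPullback xY wY p ((Over.map T.hom).obj Y).hom := IsPullback.of_hasPullback _ _
  let β : pullback p (Y.hom ≫ T.hom) ⟶ D.obj.left := (ev b' wY xY hY.w).1
  have hβ : β ≫ D.obj.hom = xY := (ev b' wY xY hY.w).2
  let m : pullback p (Y.hom ≫ T.hom) ⟶ M := hM.lift β (wY ≫ Y.hom) (by
    rw [← Category.assoc, hβ, hY.w, Category.assoc]; rfl)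
  have hm₁ : m ≫ m₁ = β := hM.lift_fst _ _ _
  have hm₂ : m ≫ m₂ = wY ≫ Y.hom := hM.lift_snd _ _ _
  let d : pullback p (Y.hom ≫ T.hom) ⟶ W := m ≫ inv θ
  have hd₁ : d ≫ θ ≫ m₁ = β := by simp [d, hm₁]
  have hd₂ : d ≫ θ ≫ m₂ = wY ≫ Y.hom := by simp [d, hm₂]
  have hdx : d ≫ x = xY := by
    have e : (θ ≫ m₁) ≫ D.obj.hom = x := by
      rw [h₁]; exact (ev (T := (Over.map T.hom).obj U) a w x hW.w).2
    rw [← e, ← Category.assoc, hd₁, hβ]
  obtain ⟨v, hvd⟩ : ∃ v : pullback p (Y.hom ≫ T.hom) ⟶ U.left, v = d ≫ w := ⟨_, rfl⟩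
  have hv : v ≫ U.hom = wY ≫ Y.hom := by
    rw [hvd, Category.assoc, ← h₂, hd₂]
  have hvT : xY ≫ p = v ≫ U.hom ≫ T.hom := by
    rw [← Category.assoc, hv, Category.assoc]; exact hY.w
  have hwY : UnivSubmersive wY := MorphismProperty.of_isPullback hY hp
  have hsY : Surjective wY := UnivSub.surjective hwY
  have hcomp : ∀ (L : Type u) [Field L] (x₀ x₁ : Spec (CommRingCat.of L) ⟶
      pullback p (Y.hom ≫ T.hom)), x₀ ≫ wY = x₁ ≫ wY → x₀ ≫ v = x₁ ≫ v := by
    intro L _ x₀ x₁ h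
    have hc : ∀ c : Spec (CommRingCat.of L) ⟶ pullback p (Y.hom ≫ T.hom),
        (c ≫ xY) ≫ p = (c ≫ v) ≫ U.hom ≫ T.hom := by
      intro c
      rw [Category.assoc, hvT, Category.assoc]
    have hev : ∀ c : Spec (CommRingCat.of L) ⟶ pullback p (Y.hom ≫ T.hom),
        (ev a' (c ≫ v) (c ≫ xY) (hc c)).1 = c ≫ β := by
      intro c
      rw [ev_comp a' (c ≫ d) w x hW'.w (z' := c ≫ v) (x' := c ≫ xY) (by simp [hvd])
        (by rw [Category.assoc, hdx]) (hc c)]
      rw [← hd₁, h₁, Category.assoc]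
    have hb : ∀ c : Spec (CommRingCat.of L) ⟶ pullback p (Y.hom ≫ T.hom),
        (ev b' (c ≫ wY) (c ≫ xY) (by rw [Category.assoc, hY.w, Category.assoc])).1 = c ≫ β :=
      fun c => ev_comp b' c wY xY hY.w rfl rfl _
    have e01 : (x₁ ≫ xY) ≫ p = (x₀ ≫ wY) ≫ ((Over.map T.hom).obj Y).hom := by
      rw [Category.assoc, hY.w, ← Category.assoc, ← h]
    have e01' : (x₁ ≫ xY) ≫ p = (x₀ ≫ v) ≫ U.hom ≫ T.hom := by
      rw [← hc x₀, Category.assoc, Category.assoc, hY.w, reassoc_of% h]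
    have hφ₁ := φ_ev b' (x₀ ≫ wY) (x₀ ≫ xY) (x₁ ≫ xY)
      (by rw [Category.assoc, hY.w, Category.assoc]) e01
    have hφ₂ := φ_ev a' (x₀ ≫ v) (x₀ ≫ xY) (x₁ ≫ xY) (hc x₀) e01'
    have e0 : ev a' (x₀ ≫ v) (x₀ ≫ xY) (hc x₀) =
        ev b' (x₀ ≫ wY) (x₀ ≫ xY) (by rw [Category.assoc, hY.w, Category.assoc]) :=
      Subtype.ext ((hev x₀).trans (hb x₀).symm)
    rw [e0] at hφ₂
    have e1 : (ev a' (x₀ ≫ v) (x₁ ≫ xY) e01').1 = (ev a' (x₁ ≫ v) (x₁ ≫ xY) (hc x₁)).1 := by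
      rw [← hφ₂, hφ₁, hev x₁, ← hb x₁]
      exact ev_congr b' h rfl _ _
    refine hinjU (x₁ ≫ xY) _ _ e01' (hc x₁) ?_ e1
    rw [Category.assoc, hv, Category.assoc, hv, reassoc_of% h]
  obtain ⟨g, hg₁, hg₂⟩ := EtaleHom.exists_hom_of_compat wY hwY Y.hom U.hom v hv hcomp
  have hgT : xY ≫ p = (wY ≫ g) ≫ U.hom ≫ T.hom := by rw [hg₂]; exact hvT
  refine ⟨Over.homMk g hg₁, ?_, ?_⟩
  · refine eq_of_ev (T := (Over.map T.hom).obj Y) hY ?_
    refine (congrArg Subtype.val (ev_map ((Over.map T.hom).map (Over.homMk g hg₁ : Y ⟶ U)) a'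
      wY xY hY.w hgT)).trans ?_
    refine (ev_comp a' d w x hW'.w (z' := wY ≫ g) (x' := xY) (hg₂.trans hvd) hdx.symm hgT).trans ?_
    rw [← h₁, hd₁]
  · intro g' hg'
    have e3 : ∀ k : Y ⟶ U, (wY ≫ k.left) ≫ U.hom = wY ≫ Y.hom := by
      intro k
      rw [Category.assoc, Over.w k]
    have e4 : ∀ k : Y ⟶ U, xY ≫ p = (wY ≫ k.left) ≫ U.hom ≫ T.hom := by
      intro k
      rw [← Category.assoc, e3 k, Category.assoc]; exact hY.w
    have e5 : (ev a' (wY ≫ g'.left) xY (e4 g')).1 = (ev a' (wY ≫ g) xY hgT).1 := by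
      have h6 := congrArg (fun s => (ev (T := (Over.map T.hom).obj Y) s wY xY hY.w).1) hg'
      have h7 : (ev a' (wY ≫ g'.left) xY (e4 g')).1 = β := by
        refine Eq.trans ?_ h6
        exact (congrArg Subtype.val (ev_map ((Over.map T.hom).map g') a' wY xY hY.w (e4 g'))).symm
      rw [h7, ev_comp a' d w x hW'.w (z' := wY ≫ g) (x' := xY) (hg₂.trans hvd) hdx.symm hgT,
        ← h₁, hd₁]
    have h8 := hinjU xY _ _ (e4 g') hgT (by rw [e3, hg₂, hv]) e5
    ext
    exact EtaleHom.hom_unique wY U.hom _ _ (by rw [Over.w g', Over.w (Over.homMk g hg₁ : Y ⟶ U)]) h8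

/-- Representability from a trivialization. -/
noncomputable def repOfTrivialization (hp : UnivSubmersive p) (D : SchDD p) {T : Over S}
    (U : Over T.left) [Etale U.hom] (a : (restr T.hom (secFunctor D)).obj (op U))
    {W M : Scheme.{u}} (x : W ⟶ X) (w : W ⟶ U.left) (hW : IsPullback x w p (U.hom ≫ T.hom))
    (m₁ : M ⟶ D.obj.left) (m₂ : M ⟶ T.left) (hM : IsPullback m₁ m₂ (D.obj.hom ≫ p) T.hom)
    (θ : W ⟶ M) [IsIso θ]
    (h₁ : θ ≫ m₁ = (ev (T := (Over.map T.hom).obj U) a w x hW.w).1) (h₂ : θ ≫ m₂ = w ≫ U.hom) :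
    (restr T.hom (secFunctor D)).RepresentableBy U :=
  repOfUniversal a (existsUnique_of_trivialization hp D U a x w hW m₁ m₂ hM θ h₁ h₂)

/-- The trivialization attached to a representation. -/
theorem isIso_of_representableBy (D : SchDD p) {T : Over S} (U : Over T.left)
    (r : (restr T.hom (secFunctor D)).RepresentableBy U)
    {W M : Scheme.{u}} (x : W ⟶ X) (w : W ⟶ U.left) (hW : IsPullback x w p (U.hom ≫ T.hom))
    (m₁ : M ⟶ D.obj.left) (m₂ : M ⟶ T.left) (hM : IsPullback m₁ m₂ (D.obj.hom ≫ p) T.hom)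
    (θ : W ⟶ M)
    (h₁ : θ ≫ m₁ = (ev (T := (Over.map T.hom).obj U) (r.homEquiv (𝟙 U)) w x hW.w).1)
    (h₂ : θ ≫ m₂ = w ≫ U.hom) : IsIso θ := by
  let a' : (secFunctor D).obj (op ((Over.map T.hom).obj U)) := r.homEquiv (𝟙 U)
  have hW' : IsPullback x w p ((Over.map T.hom).obj U).hom := hW
  have hθx : θ ≫ m₁ ≫ D.obj.hom = x := by
    rw [← Category.assoc, h₁]
    exact (ev (T := (Over.map T.hom).obj U) (r.homEquiv (𝟙 U)) w x hW.w).2
  -- evaluation
  have hev : ∀ {L : Scheme.{u}} (c : L ⟶ W) (hc : (c ≫ x) ≫ p = (c ≫ w) ≫ U.hom ≫ T.hom),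
      (ev a' (c ≫ w) (c ≫ x) hc).1 = c ≫ θ ≫ m₁ := by
    intro L c hc
    rw [h₁]
    exact ev_comp a' c w x hW'.w rfl rfl hc
  have hcW : ∀ {L : Scheme.{u}} (c : L ⟶ W), (c ≫ x) ≫ p = (c ≫ w) ≫ U.hom ≫ T.hom := by
    intro L c
    rw [Category.assoc, hW.w, Category.assoc]
  -- restriction of the universal element to a point
  have hpt : ∀ {L : Scheme.{u}} (t : L ⟶ T.left) (g : Over.mk t ⟶ U) (ξ : L ⟶ X)
      (hξ : ξ ≫ p = t ≫ T.hom) (hξ' : ξ ≫ p = g.left ≫ U.hom ≫ T.hom),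
      secPoint D (T := (Over.map T.hom).obj (Over.mk t)) ξ hξ (r.homEquiv g) =
        ev a' g.left ξ hξ' := by
    intro L t g ξ hξ hξ'
    rw [r.homEquiv_eq]
    rw [secPoint_apply]
    have e1 : ξ ≫ p = (𝟙 L ≫ g.left) ≫ U.hom ≫ T.hom := by rw [Category.id_comp]; exact hξ'
    refine (ev_map ((Over.map T.hom).map g) a' (𝟙 L) ξ (by
      rw [Category.id_comp]; exact hξ) e1).trans ?_
    exact Subtype.ext (ev_congr a' (Category.id_comp _) rfl _ _)
  have hmono : Mono θ := by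
    constructor
    intro L c c' h
    have hx : c ≫ x = c' ≫ x := by rw [← hθx, reassoc_of% h]
    have ht : (c ≫ w) ≫ U.hom = (c' ≫ w) ≫ U.hom := by
      rw [Category.assoc, ← h₂, reassoc_of% h, h₂, Category.assoc]
    let g : Over.mk ((c ≫ w) ≫ U.hom) ⟶ U := Over.homMk (c ≫ w) rfl
    let g' : Over.mk ((c ≫ w) ≫ U.hom) ⟶ U := Over.homMk (c' ≫ w) ht.symm
    have hξ : (c ≫ x) ≫ p = ((c ≫ w) ≫ U.hom) ≫ T.hom := by rw [hcW c]; simp only [Category.assoc]
    have hgg : g = g' := by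
      apply r.homEquiv.injective
      apply (secPoint D (T := (Over.map T.hom).obj (Over.mk ((c ≫ w) ≫ U.hom))) (c ≫ x)
        hξ).injective
      refine (hpt ((c ≫ w) ≫ U.hom) g (c ≫ x) hξ (hcW c)).trans (Eq.trans ?_
        (hpt ((c ≫ w) ≫ U.hom) g' (c ≫ x) hξ (by rw [hx]; exact hcW c')).symm)
      apply Subtype.ext
      refine (hev c (hcW c)).trans ?_
      have e2 := hev c' (hcW c')
      refine Eq.trans ?_ ((ev_congr a' rfl hx _ (hcW c')).trans e2).symm
      rw [reassoc_of% h]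
    apply hW.hom_ext hx
    exact congrArg (fun k => k.left) hgg
  -- the inverse
  have hM2 : (m₁ ≫ D.obj.hom) ≫ p = m₂ ≫ T.hom := by rw [Category.assoc]; exact hM.w
  let b : (restr T.hom (secFunctor D)).obj (op (Over.mk m₂)) :=
    (secPoint D (T := (Over.map T.hom).obj (Over.mk m₂)) (m₁ ≫ D.obj.hom) hM2).symm ⟨m₁, rfl⟩
  obtain ⟨g, hg⟩ := r.homEquiv.surjective b
  have hgT : g.left ≫ U.hom = m₂ := Over.w g
  have hgT' : (m₁ ≫ D.obj.hom) ≫ p = g.left ≫ U.hom ≫ T.hom := by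
    rw [← Category.assoc, hgT, hM2]
  let j : M ⟶ W := hW.lift (m₁ ≫ D.obj.hom) g.left hgT'
  have hjx : j ≫ x = m₁ ≫ D.obj.hom := hW.lift_fst _ _ _
  have hjw : j ≫ w = g.left := hW.lift_snd _ _ _
  have hj : j ≫ θ = 𝟙 M := by
    apply hM.hom_ext
    · have e3 := hpt m₂ g (m₁ ≫ D.obj.hom) hM2 hgT'
      have e4 : ev a' g.left (m₁ ≫ D.obj.hom) hgT' = ⟨m₁, rfl⟩ := by
        rw [← e3]
        exact (congrArg (secPoint D (T := (Over.map T.hom).obj (Over.mk m₂)) (m₁ ≫ D.obj.hom)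
          hM2) hg).trans (Equiv.apply_symm_apply _ _)
      rw [Category.assoc, Category.id_comp, ← hev j (hcW j)]
      exact (ev_congr a' hjw hjx _ _).trans (congrArg Subtype.val e4)
    · rw [Category.assoc, h₂, ← Category.assoc, hjw, hgT, Category.id_comp]
  refine ⟨j, ?_, hj⟩
  rw [← cancel_mono θ, Category.assoc, hj, Category.comp_id, Category.id_comp]

end Groth.Agent.Sga1.SecRep
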