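import Mathlib.RingTheory.LocalRing.ResidueField.Fiber
import Mathlib.RingTheory.Ideal.KrullsHeightTheorem
import Mathlib.RingTheory.Ideal.MinimalPrime.Noetherian
import Mathlib.RingTheory.FiniteType
import Mathlib.RingTheory.TensorProduct.Finite
import Mathlib.RingTheory.RingHom.FiniteType

/-!
# Slicing the fibre of a finite type algebra at a closed point by a system of parameters
-/

set_option autoImplicit false
set_option maxHeartbeats 400000

open TensorProduct

namespace Groth.Agent.Sga1.SliceAlg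

/-- In a noetherian ring, a maximal ideal `m` which is minimal over `I` is isolated in `V(I)`. -/
theorem exists_isolating {F : Type*} [CommRing F] [IsNoetherianRing F] (I m : Ideal F)
    [m.IsMaximal] (hm : m ∈ I.minimalPrimes) :
    ∃ h : F, h ∉ m ∧ ∀ Q : Ideal F, Q.IsPrime → I ≤ Q → h ∉ Q → Q = m := by
  classical
  have hfin := I.finite_minimalPrimes_of_isNoetherianRing
  let s : Finset (Ideal F) := hfin.toFinset.erase m
  have hs : ¬ s.inf id ≤ m := by
    intro h
    obtain ⟨q, hq, hqm⟩ := (Ideal.IsPrime.inf_le' (inferInstance : m.IsPrime)).1 h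
    have hq' : q ≠ m ∧ q ∈ I.minimalPrimes := by simpa [s] using hq
    exact hq'.1 (le_antisymm hqm (hm.2 hq'.2.1 hqm))
  obtain ⟨h, hh, hhm⟩ := SetLike.not_le_iff_exists.1 hs
  refine ⟨h, hhm, fun Q hQ hIQ hhQ => ?_⟩
  obtain ⟨p, hp, hpQ⟩ := Ideal.exists_minimalPrimes_le hIQ
  by_cases hpm : p = m
  · subst hpm
    exact (Ideal.IsMaximal.eq_of_le ‹_› hQ.ne_top hpQ).symm
  · exfalso
    apply hhQ
    apply hpQ
    have : s.inf id ≤ p := by
      have := Finset.inf_le (f := (id : Ideal F → Ideal F)) (s := s) (b := p) (by simp [s, hpm, hp])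
      exact this
    exact this hh

theorem mem_iff_of_smul_eq {R A : Type*} [CommRing R] [CommRing A] [Algebra R A] (p : Ideal R)
    [p.IsPrime] (r : R) (hr : r ∉ p) (x y : p.Fiber A) (h : r • x = y) (Q : Ideal (p.Fiber A)) :
    x ∈ Q ↔ y ∈ Q := by
  have hu : IsUnit (algebraMap R (p.Fiber A) r) := by
    have : algebraMap R (p.Fiber A) r =
        algebraMap p.ResidueField (p.Fiber A) (algebraMap R p.ResidueField r) := by
      rw [← IsScalarTower.algebraMap_apply]
    rw [this]
    apply IsUnit.map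
    rw [isUnit_iff_ne_zero]
    simpa [Ideal.algebraMap_residueField_eq_zero] using hr
  rw [← h, Algebra.smul_def]
  constructor
  · intro hx
    exact Q.mul_mem_left _ hx
  · intro hx
    exact (Q.unit_mul_mem_iff_mem hu).1 hx

/-- Let `A` be a finite type `R`-algebra with nontrivial fibre at `p`. There are a closed point of
the fibre and a family of elements of `A`, as many as the height of the closed point in the fibre,
such that the closed point is isolated in the zero locus of the family in the fibre. -/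
theorem exists_slice {R A : Type*} [CommRing R] [CommRing A] [Algebra R A]
    [Algebra.FiniteType R A] (p : Ideal R) [p.IsPrime] [Nontrivial (p.Fiber A)] :
    ∃ (m : Ideal (p.Fiber A)) (_ : m.IsMaximal) (f : Finset A) (h : A),
      (∀ a ∈ f, (1 ⊗ₜ[R] a : p.Fiber A) ∈ m) ∧ (f.card : ℕ∞) ≤ m.height ∧
      (1 ⊗ₜ[R] h : p.Fiber A) ∉ m ∧
      ∀ Q : Ideal (p.Fiber A), Q.IsPrime → (∀ a ∈ f, (1 ⊗ₜ[R] a : p.Fiber A) ∈ Q) →
        (1 ⊗ₜ[R] h : p.Fiber A) ∉ Q → Q = m := by
  classical
  have : IsNoetherianRing (p.Fiber A) := Algebra.FiniteType.isNoetherianRing p.ResidueField _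
  obtain ⟨m, hm⟩ := Ideal.exists_maximal (p.Fiber A)
  obtain ⟨s, hs, hcard⟩ := m.exists_finset_card_eq_height_of_isNoetherianRing
  have H := fun x : p.Fiber A => Ideal.Fiber.exists_smul_eq_one_tmul p x
  choose r hr a ha using H
  have hiff : ∀ (Q : Ideal (p.Fiber A)) (x : p.Fiber A), x ∈ Q ↔ (1 ⊗ₜ[R] a x : p.Fiber A) ∈ Q :=
    fun Q x => mem_iff_of_smul_eq p (r x) (hr x) x _ (ha x) Q
  obtain ⟨h, hhm, hQ⟩ := exists_isolating _ m hs
  refine ⟨m, hm, s.image a, a h, ?_, ?_, ?_, ?_⟩
  · intro b hb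
    obtain ⟨x, hx, rfl⟩ := Finset.mem_image.1 hb
    rw [← hiff]
    exact hs.1.2 (Ideal.subset_span hx)
  · rw [← hcard]
    exact_mod_cast Finset.card_image_le
  · rwa [← hiff]
  · intro Q hQp hfQ hhQ
    rw [← hiff] at hhQ
    refine hQ Q hQp ?_ hhQ
    rw [Ideal.span_le]
    intro x hx
    exact (hiff Q x).2 (hfQ _ (Finset.mem_image_of_mem _ hx))

/-- `exists_slice` in terms of prime spectra. -/
theorem exists_slice' {R A : Type*} [CommRing R] [CommRing A] [Algebra R A]
    [Algebra.FiniteType R A] (p : PrimeSpectrum R)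
    (hp : p ∈ Set.range (PrimeSpectrum.comap (algebraMap R A))) :
    ∃ (m : Ideal (p.asIdeal.Fiber A)) (hm : m.IsMaximal) (f : Finset A) (h : A)
      (x : PrimeSpectrum A),
      x.asIdeal = m.comap (Algebra.TensorProduct.includeRight :
        A →ₐ[R] p.asIdeal.Fiber A).toRingHom ∧
      (f.card : ℕ∞) ≤ m.height ∧ (f : Set A) ⊆ x.asIdeal ∧ h ∉ x.asIdeal ∧
      PrimeSpectrum.comap (algebraMap R A) x = p ∧
      ∀ w : PrimeSpectrum A, PrimeSpectrum.comap (algebraMap R A) w = p →
        (f : Set A) ⊆ w.asIdeal → h ∉ w.asIdeal → w = x := by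
  obtain ⟨x₀, hx₀⟩ := hp
  have : Nontrivial (p.asIdeal.Fiber A) := by
    rw [← PrimeSpectrum.nonempty_iff_nontrivial]
    exact ⟨PrimeSpectrum.preimageEquivFiber R A p ⟨x₀, hx₀⟩⟩
  obtain ⟨m, hm, f, h, h1, h2, h3, h4⟩ := exists_slice (A := A) p.asIdeal
  let m' : PrimeSpectrum (p.asIdeal.Fiber A) := ⟨m, hm.isPrime⟩
  let x := (PrimeSpectrum.preimageEquivFiber R A p).symm m'
  refine ⟨m, hm, f, h, x.1, rfl, h2, h1, h3, x.2, ?_⟩
  intro w hw hf hh
  obtain ⟨Q, hQ⟩ := (PrimeSpectrum.preimageEquivFiber R A p).symm.surjective ⟨w, hw⟩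
  have hQw : w.asIdeal = Q.asIdeal.comap (Algebra.TensorProduct.includeRight :
        A →ₐ[R] p.asIdeal.Fiber A).toRingHom := by
    have := congrArg (fun z => z.1.asIdeal) hQ
    exact this.symm
  have hQm : Q = m' := by
    apply PrimeSpectrum.ext
    refine h4 Q.asIdeal Q.2 (fun a ha => ?_) (fun hcon => hh ?_)
    · have := hf ha
      rw [hQw] at this
      exact this
    · rw [hQw]
      exact hcon
  subst hQm
  exact congrArg Subtype.val hQ.symm

/-- Chains of primes of a quotient `F` of `A` extended by a strictly smaller prime. -/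
theorem height_add_one_le {A F : Type*} [CommRing A] [CommRing F] [IsNoetherianRing F]
    (θ : A →+* F) (hθ : Function.Surjective θ) (m : Ideal F) [m.IsPrime]
    (hgd : ∀ Q : PrimeSpectrum A, RingHom.ker θ ≤ Q.asIdeal → ∃ Q' : PrimeSpectrum A, Q' < Q) :
    m.height + 1 ≤ (m.comap θ).height := by
  obtain ⟨l, hl, hlen⟩ := m.exists_ltSeries_length_eq_height
  let l' : LTSeries (PrimeSpectrum A) := l.map (PrimeSpectrum.comap θ)
    (RingHom.strictMono_comap_of_surjective hθ)
  obtain ⟨Q', hQ'⟩ := hgd l'.head (by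
    rw [LTSeries.head_map]
    intro x hx
    change θ x ∈ l.head.asIdeal
    rw [show θ x = 0 from hx]
    exact zero_mem _)
  let l'' : LTSeries (PrimeSpectrum A) := l'.cons Q' hQ'
  have h1 : l''.length = l.length + 1 := by
    simp [l'', l']
  have h2 : l''.last = ⟨m.comap θ, inferInstance⟩ := by
    simp only [l'', RelSeries.last_cons, l', LTSeries.last_map, hl]
    rfl
  rw [← hlen, (⟨m.comap θ, inferInstance⟩ : PrimeSpectrum A).height_eq_orderHeight]
  have := Order.length_le_height (p := l'') (x := ⟨m.comap θ, inferInstance⟩) h2.le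
  rw [h1] at this
  exact_mod_cast this

/-- The contradiction: Krull's height theorem. -/
theorem not_minimal {A F : Type*} [CommRing A] [IsNoetherianRing A] [CommRing F]
    [IsNoetherianRing F]
    (θ : A →+* F) (hθ : Function.Surjective θ) (m : Ideal F) [m.IsPrime]
    (hgd : ∀ Q : PrimeSpectrum A, RingHom.ker θ ≤ Q.asIdeal → ∃ Q' : PrimeSpectrum A, Q' < Q)
    (f : Finset A) (hf : (f.card : ℕ∞) ≤ m.height) :
    m.comap θ ∉ (Ideal.span (f : Set A)).minimalPrimes := by
  intro h
  have h1 := Ideal.height_le_card_of_mem_minimalPrimes_span_finset h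
  have h2 := height_add_one_le θ hθ m hgd
  have h3 : m.height + 1 ≤ m.height := h2.trans (h1.trans hf)
  have h4 : m.height ≠ ⊤ := Ideal.height_ne_top Ideal.IsPrime.ne_top'
  exact absurd (ENat.add_one_le_iff h4 |>.1 h3) (lt_irrefl _)

end Groth.Agent.Sga1.SliceAlg
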