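import Groth.Agent.Sga1.QuotBasic

/-!
# Stable affine opens around an orbit contained in an affine open

* `exists_basicOpen_of_finite`: prime avoidance, in `Spec A`.
* `exists_basicOpen_le_of_finite`: finitely many points of an affine open `U` of a scheme contained in an
  open `W ⊆ U` lie in a common basic open `D(f) ⊆ W` of `U`.
* `exists_stable_affine`: for a finite group acting on `X`, a point whose orbit lies in an affine open has
  arbitrarily small (among the stable ones) stable affine open neighbourhoods.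
-/

set_option autoImplicit false
set_option linter.style.haveILetI false

universe u

open CategoryTheory CategoryTheory.Limits AlgebraicGeometry

namespace Groth.Agent.Sga1.StableAffine

open Groth.Agent.Sga1.QuotBasic

/-- Prime avoidance: finitely many points in an open subset of `Spec A` lie in a basic open contained in it. -/
theorem exists_basicOpen_of_finite {A : Type*} [CommRing A] {O : Set (PrimeSpectrum A)} (hO : IsOpen O)
    {T : Set (PrimeSpectrum A)} (hfin : T.Finite) (hT : T ⊆ O) :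
    ∃ f : A, T ⊆ PrimeSpectrum.basicOpen f ∧ (PrimeSpectrum.basicOpen f : Set (PrimeSpectrum A)) ⊆ O := by
  obtain ⟨I, hI⟩ := (PrimeSpectrum.isClosed_iff_zeroLocus_ideal Oᶜ).mp (isClosed_compl_iff.mpr hO)
  have h1 : ¬ ((I : Set A) ⊆ ⋃ t ∈ T, (t.asIdeal : Set A)) := by
    intro h
    rcases T.eq_empty_or_nonempty with rfl | ⟨t₀, ht₀⟩
    · simp only [Set.mem_empty_iff_false, Set.iUnion_of_empty, Set.iUnion_empty] at h
      exact h I.zero_mem
    obtain ⟨t, ht, hle⟩ := (Ideal.subset_union_prime_finite hfin (f := fun t : PrimeSpectrum A => t.asIdeal)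
      t₀ t₀ (fun t _ _ _ => t.2)).mp h
    have : t ∈ Oᶜ := by
      rw [hI]
      exact hle
    exact this (hT ht)
  obtain ⟨f, hfI, hf⟩ := Set.not_subset.mp h1
  refine ⟨f, fun t ht hft => hf (Set.mem_biUnion ht hft), fun t ht => ?_⟩
  by_contra htO
  have : t ∈ PrimeSpectrum.zeroLocus (I : Set A) := hI ▸ htO
  exact ht (this hfI)

theorem exists_basicOpen_le_of_finite {X : Scheme.{u}} {U : X.Opens} (hU : IsAffineOpen U)
    {W : X.Opens} {T : Set X} (hfin : T.Finite) (hTU : T ⊆ U) (hTW : T ⊆ W) :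
    ∃ f : Γ(X, U), T ⊆ X.basicOpen f ∧ X.basicOpen f ≤ W := by
  obtain ⟨f, hf1, hf2⟩ := exists_basicOpen_of_finite (O := hU.fromSpec ⁻¹' W)
    (W.isOpen.preimage hU.fromSpec.continuous)
    (hfin.preimage hU.fromSpec.isOpenEmbedding.injective.injOn (f := hU.fromSpec))
    (fun t ht => hTW ht)
  refine ⟨f, fun t ht => ?_, ?_⟩
  · rw [← hU.fromSpec_image_basicOpen]
    have h2 : t ∈ Set.range hU.fromSpec := by
      rw [hU.range_fromSpec]; exact hTU ht
    obtain ⟨s, rfl⟩ := h2
    exact ⟨s, hf1 ht, rfl⟩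
  · rw [← hU.fromSpec_image_basicOpen]
    rintro _ ⟨s, hs, rfl⟩
    exact hf2 hs

variable {X : Scheme.{u}} {G : Type u} [Group G] {ρ : G →* Aut X}

/-- the norm of a section over a stable open. -/
noncomputable def norm [Fintype G] {U : X.Opens} (hU : Stable ρ U) (s : Γ(X, U)) : Γ(X, U) :=
  ∏ g : G, (act ρ hU g).hom s

theorem act_norm [Fintype G] {U : X.Opens} (hU : Stable ρ U) (s : Γ(X, U)) (h : G) :
    (act ρ hU h).hom (norm hU s) = norm hU s := by
  unfold norm
  rw [map_prod]
  refine Fintype.prod_bijective (fun g => g * h) (Group.mulRight_bijective h) _ _ (fun g => ?_)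
  rw [act_mul_apply]

theorem mem_basicOpen_prod {U : X.Opens} {ι : Type*} (t : Finset ι) (s : ι → Γ(X, U)) {x : X}
    (hx : x ∈ U) : x ∈ X.basicOpen (∏ i ∈ t, s i) ↔ ∀ i ∈ t, x ∈ X.basicOpen (s i) := by
  rw [Scheme.mem_basicOpen (hx := hx), map_prod, IsUnit.prod_iff]
  simp only [Scheme.mem_basicOpen _ _ _ hx]

theorem mem_basicOpen_norm [Fintype G] {U : X.Opens} (hU : Stable ρ U) (s : Γ(X, U)) {x : X} :
    x ∈ X.basicOpen (norm hU s) ↔ x ∈ U ∧ ∀ g, (ρ g).hom x ∈ X.basicOpen s := by
  constructor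
  · intro h
    have hx := X.basicOpen_le _ h
    refine ⟨hx, fun g => ?_⟩
    have := (mem_basicOpen_prod _ _ hx).mp h g (Finset.mem_univ g)
    rw [basicOpen_act] at this
    exact this
  · rintro ⟨hx, h⟩
    refine (mem_basicOpen_prod _ _ hx).mpr (fun g _ => ?_)
    rw [basicOpen_act]
    exact h g

variable [Finite G]

/-- A point `x` whose orbit is contained in an affine open `U` has a stable affine open neighbourhood contained
in `U` and in any given stable open neighbourhood of `x`. -/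
theorem exists_stable_affine {x : X} {U W : X.Opens} (hU : IsAffineOpen U)
    (hxU : ∀ g : G, (ρ g).hom x ∈ U) (hW : Stable ρ W) (hxW : x ∈ W) :
    ∃ V : X.Opens, IsAffineOpen V ∧ Stable ρ V ∧ x ∈ V ∧ V ≤ W ∧ V ≤ U := by
  cases nonempty_fintype G
  let W' : X.Opens := ⟨{z | z ∈ W ∧ ∀ g : G, (ρ g).hom z ∈ U}, by
    refine W.isOpen.inter ?_
    have : {z : X | ∀ g : G, (ρ g).hom z ∈ U} = ⋂ g : G, (ρ g).hom ⁻¹' U := by
      ext z; simp
    change IsOpen {z : X | ∀ g : G, (ρ g).hom z ∈ U}
    rw [this]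
    exact isOpen_iInter_of_finite fun g => U.isOpen.preimage (ρ g).hom.continuous⟩
  have hmem : ∀ z, z ∈ W' ↔ z ∈ W ∧ ∀ g : G, (ρ g).hom z ∈ U := fun z => Iff.rfl
  have hW'U : W' ≤ U := fun z hz => by
    have := ((hmem z).mp hz).2 1
    rwa [one_apply] at this
  have hW' : Stable ρ W' := by
    intro g z hz
    refine (hmem _).mpr ⟨hW.apply_mem g hz.1, fun h => ?_⟩
    rw [← mul_apply]
    exact hz.2 _
  have hxW' : x ∈ W' := (hmem x).mpr ⟨hxW, hxU⟩
  obtain ⟨f, hf1, hf2⟩ := exists_basicOpen_le_of_finite hU (W := W')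
    (T := Set.range (fun g : G => (ρ g).hom x)) (Set.finite_range _)
    (by rintro _ ⟨g, rfl⟩; exact hxU g) (by rintro _ ⟨g, rfl⟩; exact hW'.apply_mem g hxW')
  let f' : Γ(X, W') := (X.presheaf.map (homOfLE hW'U).op).hom f
  have hf' : X.basicOpen f' = X.basicOpen f := by
    rw [Scheme.basicOpen_res]
    exact inf_eq_right.mpr hf2
  refine ⟨X.basicOpen (norm hW' f'), ?_, stable_basicOpen ρ hW' _ (act_norm hW' f'), ?_, ?_, ?_⟩
  · have hle : X.basicOpen (norm hW' f') ≤ X.basicOpen f := by
      intro z hz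
      have := ((mem_basicOpen_norm hW' f').mp hz).2 1
      rwa [one_apply, hf'] at this
    have : X.basicOpen (norm hW' f') =
        X.basicOpen ((X.presheaf.map (homOfLE hf2).op).hom (norm hW' f')) := by
      rw [Scheme.basicOpen_res]
      exact (inf_eq_right.mpr hle).symm
    rw [this]
    exact (hU.basicOpen f).basicOpen _
  · refine (mem_basicOpen_norm hW' f').mpr ⟨hxW', fun g => ?_⟩
    rw [hf']
    exact hf1 ⟨g, rfl⟩
  · intro z hz
    exact (X.basicOpen_le _ hz).1
  · intro z hz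
    exact hW'U (X.basicOpen_le _ hz)

/-- Inside a stable affine open `U`, a point of a stable open `W ⊆ U` has a neighbourhood of the form `D(f)`
with `f` an invariant function on `U`. -/
theorem exists_invariant_basicOpen {x : X} {U W : X.Opens} (hU : IsAffineOpen U) (hUs : Stable ρ U)
    (hW : Stable ρ W) (hxU : x ∈ U) (hxW : x ∈ W) :
    ∃ f : Γ(X, U), (∀ g, (act ρ hUs g).hom f = f) ∧ x ∈ X.basicOpen f ∧ X.basicOpen f ≤ W := by
  cases nonempty_fintype G
  obtain ⟨f, hf1, hf2⟩ := exists_basicOpen_le_of_finite hU (W := W)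
    (T := Set.range (fun g : G => (ρ g).hom x)) (Set.finite_range _)
    (by rintro _ ⟨g, rfl⟩; exact hUs.apply_mem g hxU) (by rintro _ ⟨g, rfl⟩; exact hW.apply_mem g hxW)
  refine ⟨norm hUs f, act_norm hUs f, (mem_basicOpen_norm hUs f).mpr ⟨hxU, fun g => hf1 ⟨g, rfl⟩⟩, ?_⟩
  intro z hz
  have := ((mem_basicOpen_norm hUs f).mp hz).2 1
  rw [one_apply] at this
  exact hf2 this

end Groth.Agent.Sga1.StableAffine
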