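import Groth.Agent.Sga1.UlaLimH

/-!
# Fibre products of cofiltered limits of schemes

`Ps`, `Qs` cofiltered systems with limits `V`, `B`, `φ k : Ps k ⟶ Qs k` compatible with `g : V ⟶ B`,
`ω : Z ⟶ B`.  Then `V ×_B Z` is the limit of `Ps k ×_{Qs k} Z`.
-/

set_option autoImplicit false
universe u

open CategoryTheory CategoryTheory.Limits AlgebraicGeometry Opposite

namespace Groth.Agent.Sga1.UlaFib

open UlaRes

variable {K : Type u} [SmallCategory K] (Ps Qs : K ⥤ Scheme.{u}) (φ : ∀ k, Ps.obj k ⟶ Qs.obj k)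
  (hφ : ∀ ⦃k l : K⦄ (h : k ⟶ l), Ps.map h ≫ φ l = φ k ≫ Qs.map h) {V B Z : Scheme.{u}}
  (p : ∀ k, V ⟶ Ps.obj k) (hp : ∀ ⦃k l : K⦄ (h : k ⟶ l), p k ≫ Ps.map h = p l)
  (a : ∀ k, B ⟶ Qs.obj k) (ha : ∀ ⦃k l : K⦄ (h : k ⟶ l), a k ≫ Qs.map h = a l)
  (g : V ⟶ B) (hg : ∀ k, g ≫ a k = p k ≫ φ k) (ω : Z ⟶ B)

/-- The transition maps. -/
noncomputable def fibMap {k l : K} (h : k ⟶ l) :
    pullback (φ k) (ω ≫ a k) ⟶ pullback (φ l) (ω ≫ a l) :=
  pullback.lift (pullback.fst _ _ ≫ Ps.map h) (pullback.snd _ _)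
    (by rw [Category.assoc, hφ, ← Category.assoc, pullback.condition, Category.assoc,
      Category.assoc, ha])

@[reassoc]
theorem fibMap_fst {k l : K} (h : k ⟶ l) : fibMap Ps Qs φ hφ a ha ω h ≫ pullback.fst _ _ =
    pullback.fst _ _ ≫ Ps.map h := pullback.lift_fst _ _ _

@[reassoc]
theorem fibMap_snd {k l : K} (h : k ⟶ l) : fibMap Ps Qs φ hφ a ha ω h ≫ pullback.snd _ _ =
    pullback.snd _ _ := pullback.lift_snd _ _ _

/-- The system of fibre products. -/
noncomputable def fib : K ⥤ Scheme.{u} where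
  obj k := pullback (φ k) (ω ≫ a k)
  map h := fibMap Ps Qs φ hφ a ha ω h
  map_id k := by
    apply pullback.hom_ext
    · rw [fibMap_fst, Category.id_comp, Ps.map_id, Category.comp_id]
    · rw [fibMap_snd, Category.id_comp]
  map_comp h h' := by
    apply pullback.hom_ext
    · rw [fibMap_fst, Category.assoc, fibMap_fst, fibMap_fst_assoc, Ps.map_comp]
    · rw [fibMap_snd, Category.assoc, fibMap_snd, fibMap_snd]

/-- The projections. -/
noncomputable def fibProj (k : K) : pullback g ω ⟶ pullback (φ k) (ω ≫ a k) :=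
  pullback.lift (pullback.fst _ _ ≫ p k) (pullback.snd _ _)
    (by rw [Category.assoc, ← hg, ← Category.assoc, pullback.condition, Category.assoc])

@[reassoc]
theorem fibProj_fst (k : K) : fibProj Ps Qs φ p a g hg ω k ≫ pullback.fst _ _ =
    pullback.fst _ _ ≫ p k := pullback.lift_fst _ _ _

@[reassoc]
theorem fibProj_snd (k : K) : fibProj Ps Qs φ p a g hg ω k ≫ pullback.snd _ _ =
    pullback.snd _ _ := pullback.lift_snd _ _ _

include hp in
theorem fibProj_fibMap {k l : K} (h : k ⟶ l) :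
    fibProj Ps Qs φ p a g hg ω k ≫ fibMap Ps Qs φ hφ a ha ω h = fibProj Ps Qs φ p a g hg ω l := by
  apply pullback.hom_ext
  · rw [Category.assoc, fibMap_fst, fibProj_fst_assoc, hp, fibProj_fst]
  · rw [Category.assoc, fibMap_snd, fibProj_snd, fibProj_snd]

section Lift

variable (s : Cone (fib Ps Qs φ hφ a ha ω))

/-- leg of a cone -/
noncomputable def leg (k : K) : s.pt ⟶ pullback (φ k) (ω ≫ a k) := s.π.app k

theorem leg_w {k l : K} (h : k ⟶ l) :
    leg Ps Qs φ hφ a ha ω s k ≫ fibMap Ps Qs φ hφ a ha ω h = leg Ps Qs φ hφ a ha ω s l := s.w h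

/-- the component to `V` -/
noncomputable def toV (hlim : IsLimit (mkCone Ps p hp)) : s.pt ⟶ V :=
  hlim.lift (mkCone Ps (fun k => leg Ps Qs φ hφ a ha ω s k ≫ pullback.fst _ _) (fun k l h => by
    rw [Category.assoc, ← fibMap_fst Ps Qs φ hφ a ha ω h, ← Category.assoc, leg_w]))

theorem toV_p (hlim : IsLimit (mkCone Ps p hp)) (k : K) :
    toV Ps Qs φ hφ p hp a ha ω s hlim ≫ p k = leg Ps Qs φ hφ a ha ω s k ≫ pullback.fst _ _ :=
  hlim.fac (mkCone Ps (fun k => leg Ps Qs φ hφ a ha ω s k ≫ pullback.fst _ _) (fun k l h => by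
    rw [Category.assoc, ← fibMap_fst Ps Qs φ hφ a ha ω h, ← Category.assoc, leg_w])) k

theorem snd_eq [IsCofiltered K] (k l : K) :
    leg Ps Qs φ hφ a ha ω s k ≫ pullback.snd _ _ = leg Ps Qs φ hφ a ha ω s l ≫ pullback.snd _ _ := by
  obtain ⟨j, b, c, -⟩ := IsCofilteredOrEmpty.cone_objs k l
  have e : ∀ {i : K} (h : j ⟶ i), leg Ps Qs φ hφ a ha ω s j ≫ pullback.snd _ _ =
      leg Ps Qs φ hφ a ha ω s i ≫ pullback.snd _ _ := by
    intro i h
    rw [← leg_w Ps Qs φ hφ a ha ω s h, Category.assoc, fibMap_snd]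
  exact (e b).symm.trans (e c)

end Lift

/-- The fibre product of the limits is the limit of the fibre products. -/
noncomputable def isLimitFib [IsCofiltered K] (hlim : IsLimit (mkCone Ps p hp))
    (hlimQ : IsLimit (mkCone Qs a ha)) :
    IsLimit (mkCone (fib Ps Qs φ hφ a ha ω) (fibProj Ps Qs φ p a g hg ω)
      (fun _ _ h => fibProj_fibMap Ps Qs φ hφ p hp a ha g hg ω h)) := by
  let k₀ : K := (IsCofiltered.nonempty (C := K)).some
  have cond : ∀ s : Cone (fib Ps Qs φ hφ a ha ω), toV Ps Qs φ hφ p hp a ha ω s hlim ≫ g =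
      (leg Ps Qs φ hφ a ha ω s k₀ ≫ pullback.snd _ _) ≫ ω := by
    intro s
    apply hlimQ.hom_ext
    intro k
    change (toV Ps Qs φ hφ p hp a ha ω s hlim ≫ g) ≫ a k =
      ((leg Ps Qs φ hφ a ha ω s k₀ ≫ pullback.snd _ _) ≫ ω) ≫ a k
    rw [Category.assoc, hg, ← Category.assoc, toV_p, Category.assoc, pullback.condition,
      snd_eq Ps Qs φ hφ a ha ω s k₀ k]
    simp only [Category.assoc]
  have uniq : ∀ (s : Cone (fib Ps Qs φ hφ a ha ω)) (m : s.pt ⟶ pullback g ω),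
      (∀ k, m ≫ fibProj Ps Qs φ p a g hg ω k = leg Ps Qs φ hφ a ha ω s k) →
      m = pullback.lift (toV Ps Qs φ hφ p hp a ha ω s hlim)
        (leg Ps Qs φ hφ a ha ω s k₀ ≫ pullback.snd _ _) (cond s) := by
    intro s m hm
    apply pullback.hom_ext
    · rw [pullback.lift_fst]
      apply hlim.hom_ext
      intro k
      change (m ≫ pullback.fst _ _) ≫ p k = toV Ps Qs φ hφ p hp a ha ω s hlim ≫ p k
      rw [toV_p, ← hm k, Category.assoc, Category.assoc, fibProj_fst]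
    · rw [pullback.lift_snd, ← hm k₀, Category.assoc, fibProj_snd]
  have fac : ∀ (s : Cone (fib Ps Qs φ hφ a ha ω)) (k : K),
      pullback.lift (toV Ps Qs φ hφ p hp a ha ω s hlim)
        (leg Ps Qs φ hφ a ha ω s k₀ ≫ pullback.snd _ _) (cond s) ≫
        fibProj Ps Qs φ p a g hg ω k = leg Ps Qs φ hφ a ha ω s k := by
    intro s k
    apply pullback.hom_ext
    · rw [Category.assoc, fibProj_fst, pullback.lift_fst_assoc, toV_p]
    · rw [Category.assoc, fibProj_snd, pullback.lift_snd]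
      exact snd_eq Ps Qs φ hφ a ha ω s k₀ k
  exact
    { lift := fun s => pullback.lift (toV Ps Qs φ hφ p hp a ha ω s hlim)
        (leg Ps Qs φ hφ a ha ω s k₀ ≫ pullback.snd _ _) (cond s)
      fac := fac
      uniq := uniq }

instance isAffine_fib [∀ k, IsAffine (Ps.obj k)] [∀ k, IsAffine (Qs.obj k)] [IsAffine Z] (k : K) :
    IsAffine ((fib Ps Qs φ hφ a ha ω).obj k) := by
  change IsAffine (pullback (φ k) (ω ≫ a k))
  infer_instance

end Groth.Agent.Sga1.UlaFib
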