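import Groth.Agent.Etcore.ExtAdj

/-!
# A functoriality lemma for maps on Ext groups induced by exact functors
-/

set_option autoImplicit false

open CategoryTheory CategoryTheory.Limits Abelian

namespace Groth.Agent.Sga1.UlaExt

open Groth.Agent.Etcore.ExtAdj

universe w w' w'' v v' v'' u₀ u₁ u₂

variable {C : Type u₀} [Category.{v} C] [Abelian C] {D : Type u₁} [Category.{v'} D] [Abelian D]
  {E : Type u₂} [Category.{v''} E] [Abelian E] (P : C ⥤ D) (Q : D ⥤ E) (R : C ⥤ E)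
  [P.Additive] [PreservesFiniteLimits P] [PreservesFiniteColimits P]
  [Q.Additive] [PreservesFiniteLimits Q] [PreservesFiniteColimits Q]
  [R.Additive] [PreservesFiniteLimits R] [PreservesFiniteColimits R]

theorem map_comp_aux [HasExt.{w} C] [HasExt.{w'} D] [HasExt.{w''} E] [EnoughInjectives C]
    (θ : P ⋙ Q ⟶ R) {Z₀ F₀ : C} {Z₁ F₁ : D} {Z₂ F₂ : E} (c₁ : Z₁ ⟶ P.obj Z₀) (c₂ : Z₂ ⟶ Q.obj Z₁)
    (c : Z₂ ⟶ R.obj Z₀) (hc : c₂ ≫ Q.map c₁ ≫ θ.app Z₀ = c) (t₁ : P.obj F₀ ⟶ F₁)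
    (t₂ : Q.obj F₁ ⟶ F₂) (t : R.obj F₀ ⟶ F₂) (ht : Q.map t₁ ≫ t₂ = θ.app F₀ ≫ t) {n : ℕ}
    (e : Ext.{w} Z₀ F₀ n) :
    ((Ext.mk₀ c₂).comp (Ext.mapExactFunctor Q (((Ext.mk₀ c₁).comp (Ext.mapExactFunctor P e)
      (zero_add n)).comp (Ext.mk₀ t₁) (add_zero n))) (zero_add n)).comp (Ext.mk₀ t₂) (add_zero n) =
    (((Ext.mk₀ c).comp (Ext.mapExactFunctor R e) (zero_add n)).comp (Ext.mk₀ t) (add_zero n) :
      Ext.{w''} Z₂ F₂ n) := by
  subst hc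
  have : (P ⋙ Q).Additive := inferInstance
  have : PreservesFiniteLimits (P ⋙ Q) := comp_preservesFiniteLimits P Q
  have : PreservesFiniteColimits (P ⋙ Q) := comp_preservesFiniteColimits P Q
  have key : (Ext.mapExactFunctor Q (Ext.mapExactFunctor P e)).comp (Ext.mk₀ (θ.app F₀)) (add_zero n) =
      ((Ext.mk₀ (θ.app Z₀)).comp (Ext.mapExactFunctor R e) (zero_add n) : Ext.{w''} _ _ n) := by
    rw [← mapExactFunctor_compFunctor P Q]
    exact mapExactFunctor_nat θ e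
  rw [Ext.mapExactFunctor_comp, Ext.mapExactFunctor_comp, Ext.mapExactFunctor_mk₀,
    Ext.mapExactFunctor_mk₀]
  generalize Ext.mapExactFunctor Q (Ext.mapExactFunctor P e) = a at *
  generalize Ext.mapExactFunctor R e = b at *
  simp only [Ext.comp_assoc_of_third_deg_zero, Ext.mk₀_comp_mk₀_assoc, Ext.mk₀_comp_mk₀]
  rw [ht, ← Category.assoc c₂, ← Ext.mk₀_comp_mk₀_assoc, ← Ext.mk₀_comp_mk₀ (θ.app F₀),
    ← Ext.comp_assoc_of_third_deg_zero a, key, Ext.comp_assoc_of_third_deg_zero]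
  simp only [Ext.mk₀_comp_mk₀_assoc, Category.assoc]

theorem map_id_aux [HasExt.{w} C] [EnoughInjectives C] (R : C ⥤ C)
    [R.Additive] [PreservesFiniteLimits R] [PreservesFiniteColimits R] (θ : 𝟭 C ⟶ R) {Z₀ F₀ : C}
    (c : Z₀ ⟶ R.obj Z₀) (hc : θ.app Z₀ = c) (t : R.obj F₀ ⟶ F₀) (ht : θ.app F₀ ≫ t = 𝟙 _) {n : ℕ}
    (e : Ext.{w} Z₀ F₀ n) :
    ((Ext.mk₀ c).comp (Ext.mapExactFunctor R e) (zero_add n)).comp (Ext.mk₀ t) (add_zero n) = e := by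
  subst hc
  have key : (Ext.mapExactFunctor (𝟭 C) e).comp (Ext.mk₀ (θ.app F₀)) (add_zero n) =
      ((Ext.mk₀ (θ.app Z₀)).comp (Ext.mapExactFunctor R e) (zero_add n) : Ext.{w} _ _ n) :=
    mapExactFunctor_nat θ e
  rw [← key, mapExactFunctor_id, Ext.comp_assoc_of_third_deg_zero, Ext.mk₀_comp_mk₀, ht,
    Ext.comp_mk₀_id]

end Groth.Agent.Sga1.UlaExt
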