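import Groth.Agent.Sga1.UlaRes2
import Groth.Agent.S0646
import Mathlib.CategoryTheory.Presentable.Directed

/-!
# Étale cohomology of limits, in terms of `res`
-/

set_option autoImplicit false
universe u

open CategoryTheory CategoryTheory.Limits AlgebraicGeometry Opposite Abelian

namespace Groth.Agent.Sga1.UlaRes

open Groth.Agent.Etcore.PullCoh Groth.Agent.Etcore.ExtAdj

variable {X Y Z T T' T'' : Scheme.{u}}

/-- Classes with coefficients in a pulled back sheaf. -/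
noncomputable def shift (F : EtCoh.Ab X) (b : Y ⟶ X) (a : T ⟶ Y) (ab : T ⟶ X) (w : a ≫ b = ab)
    (q : ℕ) : HT ((EtCoh.pull b).obj F) a q →+ HT F ab q :=
  ((EtCoh.HF T q).map (th a b ab w F)).hom

theorem shift_bijective (F : EtCoh.Ab X) (b : Y ⟶ X) (a : T ⟶ Y) (ab : T ⟶ X) (w : a ≫ b = ab)
    (q : ℕ) : Function.Bijective (shift F b a ab w q) :=
  postcomp_bijective _ _ (th a b ab w F) q

theorem HF_map_comp {F G H : EtCoh.Ab T} (s : F ⟶ G) (t : G ⟶ H) (q : ℕ) (x : EtCoh.H T F q) :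
    ((EtCoh.HF T q).map t).hom (((EtCoh.HF T q).map s).hom x) =
      ((EtCoh.HF T q).map (s ≫ t)).hom x := by
  rw [Functor.map_comp]
  rfl

theorem shift_res (F : EtCoh.Ab X) (b : Y ⟶ X) (f : T' ⟶ T) (a : T ⟶ Y) (a' : T' ⟶ Y)
    (wa : f ≫ a = a') (ab : T ⟶ X) (w : a ≫ b = ab) (ab' : T' ⟶ X) (w' : a' ≫ b = ab')
    (wf : f ≫ ab = ab') (q : ℕ) (x : HT ((EtCoh.pull b).obj F) a q) :
    shift F b a' ab' w' q (res ((EtCoh.pull b).obj F) f a a' wa q x) =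
      res F f ab ab' wf q (shift F b a ab w q x) := by
  have e1 : shift F b a' ab' w' q (res ((EtCoh.pull b).obj F) f a a' wa q x) =
      ((EtCoh.HF T' q).map (th f a a' wa ((EtCoh.pull b).obj F) ≫ th a' b ab' w' F)).hom
        (EtCore.Hpull f ((EtCoh.pull a).obj ((EtCoh.pull b).obj F)) q x) :=
    HF_map_comp _ _ _ _
  have e2 : res F f ab ab' wf q (shift F b a ab w q x) =
      ((EtCoh.HF T' q).map ((EtCoh.pull f).map (th a b ab w F) ≫ th f ab ab' wf F)).hom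
        (EtCore.Hpull f ((EtCoh.pull a).obj ((EtCoh.pull b).obj F)) q x) :=
    (congrArg ((EtCoh.HF T' q).map (th f ab ab' wf F)).hom
      (Hpull_map f (th a b ab w F) q x)).trans (HF_map_comp _ _ _ _)
  rw [e1, e2, th_assoc f a b a' ab ab' wa w wf w' F]

theorem res_eq_zero_iff (F : EtCoh.Ab X) (f : T' ⟶ T) (a : T ⟶ X) (a' : T' ⟶ X) (w : f ≫ a = a')
    (q : ℕ) (e : HT F a q) : res F f a a' w q e = 0 ↔
      EtCore.Hpull f ((EtCoh.pull a).obj F) q e = 0 := by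
  have key : ∀ x : EtCoh.H T' ((EtCoh.pull f).obj ((EtCoh.pull a).obj F)) q,
      ((EtCoh.HF T' q).map (th f a a' w F)).hom x = 0 ↔ x = 0 := fun x =>
    ⟨fun h => (postcomp_bijective _ _ (th f a a' w F) q).1 (h.trans (map_zero _).symm),
      fun h => (congrArg _ h).trans (map_zero _)⟩
  exact key _

/-- cone from a compatible family -/
def mkCone {I : Type u} [Category.{u} I] (Xs : I ⥤ Scheme.{u}) {P : Scheme.{u}}
    (p : ∀ a, P ⟶ Xs.obj a) (hp : ∀ ⦃a b : I⦄ (h : a ⟶ b), p a ≫ Xs.map h = p b) : Cone Xs where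
  pt := P
  π := { app := p
         naturality := fun _ _ h => (Category.id_comp _).trans (hp h).symm }

/-- a limit cone as a compatible family -/
def isLimitMkCone {I : Type u} [Category.{u} I] (Xs : I ⥤ Scheme.{u}) (c : Cone Xs)
    (hc : IsLimit c) {P : Scheme.{u}} (p : ∀ a, P ⟶ Xs.obj a)
    (hp : ∀ ⦃a b : I⦄ (h : a ⟶ b), p a ≫ Xs.map h = p b) (e : P ≅ c.pt)
    (he : ∀ a, e.hom ≫ c.π.app a = p a) : IsLimit (mkCone Xs p hp) :=
  hc.ofIsoLimit (Cone.ext e.symm (fun a => by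
    rw [Iso.symm_hom, Iso.eq_inv_comp]
    exact he a))

section Directed

variable {ι : Type u} [Preorder ι] [IsDirected ι (· ≤ ·)] (Xs : ιᵒᵖ ⥤ Scheme.{u})
    (haff : ∀ ⦃a b : ιᵒᵖ⦄ (h : a ⟶ b), IsAffineHom (Xs.map h))
    (hqc : ∀ a, CompactSpace ↥(Xs.obj a)) (hqs : ∀ a, QuasiSeparatedSpace ↥(Xs.obj a))
    {P : Scheme.{u}} (p : ∀ a, P ⟶ Xs.obj a) (hp : ∀ ⦃a b : ιᵒᵖ⦄ (h : a ⟶ b), p a ≫ Xs.map h = p b)
    (hc : IsLimit (mkCone Xs p hp)) (F : EtCoh.Ab X) (y : ∀ a : ιᵒᵖ, Xs.obj a ⟶ X)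
    (hy : ∀ ⦃a b : ιᵒᵖ⦄ (h : a ⟶ b), Xs.map h ≫ y b = y a) (yc : P ⟶ X)
    (hyc : ∀ a, p a ≫ y a = yc) (q : ℕ)

include haff hqc hqs hc hy

theorem exists_res_eq_directed [Nonempty ι] (ξ : HT F yc q) :
    ∃ (j : ι) (ξj : HT F (y (op j)) q), res F (p (op j)) (y (op j)) yc (hyc _) q ξj = ξ := by
  obtain ⟨i₀⟩ := ‹Nonempty ι›
  obtain ⟨ξ', rfl⟩ := (shift_bijective F (y (op i₀)) (p (op i₀)) yc (hyc _) q).2 ξ
  obtain ⟨j, hj, ξj, h⟩ := (Groth.Agent.S0646.result Xs haff hqc hqs (mkCone Xs p hp) hc i₀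
    ((EtCoh.pull (y (op i₀))).obj F) q).1 ξ'
  refine ⟨j, shift F (y (op i₀)) (Xs.map (homOfLE hj).op) (y (op j)) (hy _) q ξj, ?_⟩
  exact (shift_res F (y (op i₀)) (p (op j)) (Xs.map (homOfLE hj).op) (p (op i₀))
    (hp (homOfLE hj).op) (y (op j)) (hy _) yc (hyc _) (hyc _) q ξj).symm.trans (congrArg _ h)

theorem exists_res_eq_zero_directed (j : ι) (ξj : HT F (y (op j)) q)
    (h : res F (p (op j)) (y (op j)) yc (hyc _) q ξj = 0) :
    ∃ (k : ι) (hk : j ≤ k), res F (Xs.map (homOfLE hk).op) (y (op j)) (y (op k)) (hy _) q ξj = 0 := by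
  obtain ⟨ξ', rfl⟩ := (shift_bijective F (y (op j)) (Xs.map (homOfLE le_rfl).op) (y (op j))
    (hy _) q).2 ξj
  have h0 := (shift_res F (y (op j)) (p (op j)) (Xs.map (homOfLE le_rfl).op) (p (op j))
    (hp (homOfLE le_rfl).op) (y (op j)) (hy _) yc (hyc _) (hyc _) q ξ').trans h
  have h1 := (shift_bijective F (y (op j)) (p (op j)) yc (hyc _) q).1
    (h0.trans (map_zero _).symm)
  obtain ⟨k, hk, h2⟩ := (Groth.Agent.S0646.result Xs haff hqc hqs (mkCone Xs p hp) hc j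
    ((EtCoh.pull (y (op j))).obj F) q).2 j le_rfl ξ' h1
  refine ⟨k, hk, ?_⟩
  exact (shift_res F (y (op j)) (Xs.map (homOfLE hk).op) (Xs.map (homOfLE le_rfl).op) _ rfl
    (y (op j)) (hy _) (y (op k)) (by rw [Category.assoc, hy, hy]) (hy _) q ξ').symm.trans
      ((congrArg _ ((res_eq_zero_iff _ _ _ _ _ _ _).2 h2)).trans (map_zero _))

end Directed

section Cofiltered

variable {I : Type u} [SmallCategory I] [IsCofiltered I] (Xs : I ⥤ Scheme.{u})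
    (haff : ∀ ⦃a b : I⦄ (h : a ⟶ b), IsAffineHom (Xs.map h))
    (hqc : ∀ a, CompactSpace ↥(Xs.obj a)) (hqs : ∀ a, QuasiSeparatedSpace ↥(Xs.obj a))
    {P : Scheme.{u}} (p : ∀ a, P ⟶ Xs.obj a) (hp : ∀ ⦃a b : I⦄ (h : a ⟶ b), p a ≫ Xs.map h = p b)
    (hc : IsLimit (mkCone Xs p hp)) (F : EtCoh.Ab X) (y : ∀ a : I, Xs.obj a ⟶ X)
    (hy : ∀ ⦃a b : I⦄ (h : a ⟶ b), Xs.map h ≫ y b = y a) (yc : P ⟶ X)
    (hyc : ∀ a, p a ≫ y a = yc) (q : ℕ)

include haff hqc hqs hc hy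

/-- every class on a cofiltered limit comes from a stage. -/
theorem exists_res_eq (ξ : HT F yc q) :
    ∃ (j : I) (ξj : HT F (y j) q), res F (p j) (y j) yc (hyc _) q ξj = ξ := by
  obtain ⟨α, _, _, _, E, _⟩ := IsFiltered.exists_directed.{u} Iᵒᵖ
  let G : αᵒᵖ ⥤ I := E.leftOp
  have : G.Initial := inferInstance
  obtain ⟨j, ξj, h⟩ := exists_res_eq_directed (G ⋙ Xs) (fun _ _ h => haff _) (fun _ => hqc _)
    (fun _ => hqs _) (fun a => p (G.obj a)) (fun _ _ h => hp _)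
    ((Functor.Initial.isLimitWhiskerEquiv G (mkCone Xs p hp)).symm hc) F
    (fun a => y (G.obj a)) (fun _ _ h => hy _) yc (fun _ => hyc _) q ξ
  exact ⟨G.obj (op j), ξj, h⟩

/-- a class on a stage which dies in the limit dies at a further stage. -/
theorem exists_res_eq_zero (j : I) (ξj : HT F (y j) q)
    (h : res F (p j) (y j) yc (hyc _) q ξj = 0) :
    ∃ (k : I) (hk : k ⟶ j), res F (Xs.map hk) (y j) (y k) (hy _) q ξj = 0 := by
  obtain ⟨α, _, _, _, E, _⟩ := IsFiltered.exists_directed.{u} Iᵒᵖ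
  let G : αᵒᵖ ⥤ I := E.leftOp
  have : G.Initial := inferInstance
  obtain ⟨⟨⟨a⟩, ⟨⟨⟩⟩, t⟩⟩ : Nonempty (CostructuredArrow G j) := inferInstance
  have t' : G.obj (op a) ⟶ j := t
  have h1 : res F (p (G.obj (op a))) (y (G.obj (op a))) yc (hyc _) q
      (res F (Xs.map t') (y j) (y (G.obj (op a))) (hy _) q ξj) = 0 :=
    (res_comp F (p (G.obj (op a))) (Xs.map t') (p j) (hp t') (y j) (y (G.obj (op a)))
      yc (hy _) (hyc _) (hyc _) q ξj).trans h
  obtain ⟨k, hk, h2⟩ := exists_res_eq_zero_directed (G ⋙ Xs) (fun _ _ h => haff _)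
    (fun _ => hqc _) (fun _ => hqs _) (fun a => p (G.obj a)) (fun _ _ h => hp _)
    ((Functor.Initial.isLimitWhiskerEquiv G (mkCone Xs p hp)).symm hc) F
    (fun a => y (G.obj a)) (fun _ _ h => hy _) yc (fun _ => hyc _) q a _ h1
  refine ⟨G.obj (op k), G.map (homOfLE hk).op ≫ t', ?_⟩
  exact (res_comp F (Xs.map (G.map (homOfLE hk).op)) (Xs.map t') _ (Xs.map_comp _ _).symm (y j)
    (y (G.obj (op a))) (y (G.obj (op k))) (hy _) (hy _) (hy _) q ξj).symm.trans h2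

end Cofiltered

end Groth.Agent.Sga1.UlaRes
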