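import Groth.Agent.Etcore.PullCoh
import Groth.Agent.Sga1.UlaExt
import Groth.Agent.S0101
import Groth.Agent.Etrest.IsoInv

/-!
# Functoriality of the relative pullback on étale cohomology

`HT F a q` is `H^q(T, a⁻¹ F)` for `a : T ⟶ X`, and `res F f a a' w q : HT F a q →+ HT F a' q` is the
pullback along `f : T' ⟶ T` (this is `EtCore.HpullVia`).  `res_comp`: `res` is functorial.
-/

set_option autoImplicit false
universe u

open CategoryTheory CategoryTheory.Limits AlgebraicGeometry Opposite Abelian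

namespace Groth.Agent.Sga1.UlaRes

open Groth.Agent.Etcore.PullCoh Groth.Agent.Etcore.ExtAdj

variable {X Y Z T T' T'' : Scheme.{u}}

instance pull_pfl (f : X ⟶ Y) : PreservesFiniteLimits (EtCoh.pull f) :=
  Groth.Agent.S0101.result f

/-- `H^q(T, a⁻¹ F)`. -/
abbrev HT (F : EtCoh.Ab X) (a : T ⟶ X) (q : ℕ) : Type (u + 1) := EtCoh.H T ((EtCoh.pull a).obj F) q

/-- pullback of classes along `f : T' ⟶ T`. -/
noncomputable def res (F : EtCoh.Ab X) (f : T' ⟶ T) (a : T ⟶ X) (a' : T' ⟶ X) (w : f ≫ a = a')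
    (q : ℕ) : HT F a q →+ HT F a' q :=
  EtCore.HpullVia f a a' w F q

theorem Hpull_apply (f : X ⟶ Y) (G : EtCoh.Ab Y) (n : ℕ) (e : EtCoh.H Y G n) :
    EtCore.Hpull f G n e = (Ext.mk₀ (EtCore.pullConst f ℤ).inv).comp
      (Ext.mapExactFunctor (EtCoh.pull f) e) (zero_add n) := rfl

theorem res_apply (F : EtCoh.Ab X) (f : T' ⟶ T) (a : T ⟶ X) (a' : T' ⟶ X) (w : f ≫ a = a')
    (q : ℕ) (e : HT F a q) :
    res F f a a' w q e = ((Ext.mk₀ (EtCore.pullConst f ℤ).inv).comp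
      (Ext.mapExactFunctor (EtCoh.pull f) e) (zero_add q)).comp (Ext.mk₀ (th f a a' w F))
        (add_zero q) := rfl

theorem res_comp (F : EtCoh.Ab X) (f₂ : T'' ⟶ T') (f₁ : T' ⟶ T) (f : T'' ⟶ T) (hf : f₂ ≫ f₁ = f)
    (a : T ⟶ X) (a' : T' ⟶ X) (a'' : T'' ⟶ X) (w₁ : f₁ ≫ a = a') (w₂ : f₂ ≫ a' = a'')
    (w : f ≫ a = a'') (q : ℕ) (e : HT F a q) :
    res F f₂ a' a'' w₂ q (res F f₁ a a' w₁ q e) = res F f a a'' w q e := by
  rw [res_apply, res_apply, res_apply]
  refine UlaExt.map_comp_aux (EtCoh.pull f₁) (EtCoh.pull f₂) (EtCoh.pull f)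
    (theta f₂ f₁ f hf).hom _ _ _ ?_ _ _ _ ?_ e
  · have h := pullConst_comp f₂ f₁ f hf ℤ
    rw [Iso.inv_comp_eq, ← Functor.mapIso_inv, Iso.inv_comp_eq, Functor.mapIso_hom,
      ← Category.assoc, ← Iso.comp_inv_eq] at *
    exact h.symm
  · exact th_assoc f₂ f₁ a f a' a'' hf w₁ w₂ w F

theorem postcomp_bijective (F G : EtCoh.Ab T) (t : F ⟶ G) [IsIso t] (q : ℕ) :
    Function.Bijective ((EtCoh.HF T q).map t).hom := by
  have : IsIso ((EtCoh.HF T q).map t) := inferInstance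
  exact ConcreteCategory.bijective_of_isIso ((EtCoh.HF T q).map t)

/-- `res` is bijective iff the absolute pullback map `Hpull` is. -/
theorem res_bijective_iff (F : EtCoh.Ab X) (f : T' ⟶ T) (a : T ⟶ X) (a' : T' ⟶ X) (w : f ≫ a = a')
    (q : ℕ) : Function.Bijective (res F f a a' w q) ↔
      Function.Bijective (EtCore.Hpull f ((EtCoh.pull a).obj F) q) := by
  have h := postcomp_bijective _ _ ((((EtCore.pullComp f a).symm ≪≫ EtCore.pullCongr w).app F).hom) q
  have e : (res F f a a' w q : HT F a q → HT F a' q) = ((EtCoh.HF T' q).map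
    ((((EtCore.pullComp f a).symm ≪≫ EtCore.pullCongr w).app F).hom)).hom ∘
      (EtCore.Hpull f ((EtCoh.pull a).obj F) q) := rfl
  rw [e]
  exact Function.Bijective.of_comp_iff' h _

theorem res_bijective (F : EtCoh.Ab X) (f : T' ⟶ T) [IsIso f] (a : T ⟶ X) (a' : T' ⟶ X)
    (w : f ≫ a = a') (q : ℕ) : Function.Bijective (res F f a a' w q) :=
  (res_bijective_iff F f a a' w q).2 (Groth.Agent.Etrest.IsoInv.bijective_Hpull f _ q)

end Groth.Agent.Sga1.UlaRes
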